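import Mathlib.GroupTheory.GroupAction.Quotient
import Mathlib.GroupTheory.Abelianization.Defs
import Mathlib.Algebra.BigOperators.Group.Finset.Basic
import Mathlib.Algebra.Group.MinimalAxioms
import Mathlib.Tactic.Group

/-!
Corestriction of a central extension from a subgroup: from a central extension of a subgroup of a finite
group, a central extension of the whole group, with the value of a word in lifts computed coset by coset.
-/

set_option autoImplicit false

namespace Cfsg.Agent.SchurMult

open scoped IsMulCommutative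

/-- The data: coset representatives and a central extension of the subgroup containing all coset factors. -/
structure Monomial (G E I : Type*) [Group G] [Group E] [MulAction G I] where
  /-- The representatives. -/
  t : I → G
  /-- The extension of the subgroup. -/
  π : E →* G
  /-- Its kernel is central. -/
  central : π.ker ≤ Subgroup.center E
  /-- Every coset factor lies in the subgroup. -/
  mem : ∀ (g : G) (i : I), (t (g • i))⁻¹ * g * t i ∈ π.range

namespace Monomial

variable {G E I : Type*} [Group G] [Group E] [MulAction G I] [Fintype I] (M : Monomial G E I)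

/-- The coset factor. -/
def fac (g : G) (i : I) : G := (M.t (g • i))⁻¹ * g * M.t i

theorem fac_mul (g h : G) (i : I) : M.fac (g * h) i = M.fac g (h • i) * M.fac h i := by
  simp only [fac, mul_smul]; group

/-- A chosen lift of a coset factor. -/
noncomputable def sec (g : G) (i : I) : E := (M.mem g i).choose

theorem sec_spec (g : G) (i : I) : M.π (M.sec g i) = M.fac g i := (M.mem g i).choose_spec

/-- The kernel of the extension of the subgroup, inside the centre. -/
abbrev A : Type _ := Subgroup.center E

/-- An element of the kernel as a central element, and one otherwise. -/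
noncomputable def cent (x : E) : Subgroup.center E := by
  classical
  exact if h : x ∈ Subgroup.center E then ⟨x, h⟩ else 1

theorem cent_val {x : E} (h : M.π x = 1) : (cent x : E) = x := by
  have : x ∈ Subgroup.center E := M.central h
  simp [cent, this]

theorem cent_mul {x y : E} (hx : M.π x = 1) (hy : M.π y = 1) : cent (x * y) = cent x * cent y :=
  Subtype.ext (by
    rw [Subgroup.coe_mul, M.cent_val hx, M.cent_val hy, M.cent_val (by rw [map_mul, hx, hy, one_mul])])

/-- The correction of a family of lifts against the chosen one. -/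
noncomputable def corr (g : G) (f : I → E) : Subgroup.center E := ∏ i, cent (f i * (M.sec g i)⁻¹)

/-- A family of lifts of the coset factors. -/
def IsLift (g : G) (f : I → E) : Prop := ∀ i, M.π (f i) = M.fac g i

theorem isLift_sec (g : G) : M.IsLift g (M.sec g) := M.sec_spec g

theorem isLift_mul {g h : G} {f f' : I → E} (hf : M.IsLift g f) (hf' : M.IsLift h f') :
    M.IsLift (g * h) fun i => f (h • i) * f' i := fun i => by
  rw [map_mul, hf, hf', fac_mul]

/-- The cocycle. -/
noncomputable def cocycle (g h : G) : Subgroup.center E :=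
  M.corr (g * h) fun i => M.sec g (h • i) * M.sec h i

theorem corr_mul {g h : G} {f f' : I → E} (hf : M.IsLift g f) (hf' : M.IsLift h f') :
    M.corr (g * h) (fun i => f (h • i) * f' i) = M.corr g f * M.corr h f' * M.cocycle g h := by
  have hre : M.corr g f = ∏ i, cent (f (h • i) * (M.sec g (h • i))⁻¹) :=
    (Fintype.prod_equiv (MulAction.toPerm h) _ _ fun i => rfl).symm
  rw [hre, corr, corr, cocycle, corr, ← Finset.prod_mul_distrib, ← Finset.prod_mul_distrib]
  refine Finset.prod_congr rfl fun i _ => ?_
  have h1 : M.π (f (h • i) * (M.sec g (h • i))⁻¹) = 1 := by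
    rw [map_mul, map_inv, hf, M.sec_spec, mul_inv_cancel]
  have h2 : M.π (f' i * (M.sec h i)⁻¹) = 1 := by rw [map_mul, map_inv, hf', M.sec_spec, mul_inv_cancel]
  have h3 : M.π (M.sec g (h • i) * M.sec h i * (M.sec (g * h) i)⁻¹) = 1 := by
    rw [map_mul, map_inv, map_mul, M.sec_spec, M.sec_spec, M.sec_spec, fac_mul, mul_inv_cancel]
  have h4 : M.π (f (h • i) * f' i * (M.sec (g * h) i)⁻¹) = 1 := by
    rw [map_mul, map_inv, M.sec_spec, map_mul, hf, hf', fac_mul, mul_inv_cancel]
  apply Subtype.ext
  rw [Subgroup.coe_mul, Subgroup.coe_mul, M.cent_val h1, M.cent_val h2, M.cent_val h3, M.cent_val h4]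
  generalize f (h • i) = a at h1 ⊢
  generalize M.sec g (h • i) = c at h1 ⊢
  generalize f' i = b at h2 ⊢
  generalize M.sec h i = d at h2 ⊢
  generalize M.sec (g * h) i = e
  have hz : c * (b * d⁻¹) = b * d⁻¹ * c := Subgroup.mem_center_iff.1 (M.central h2) c
  calc a * b * e⁻¹ = a * c⁻¹ * (c * (b * d⁻¹)) * d * e⁻¹ := by group
    _ = a * c⁻¹ * (b * d⁻¹ * c) * d * e⁻¹ := by rw [hz]
    _ = _ := by group

theorem corr_sec (g : G) : M.corr g (M.sec g) = 1 := by
  refine Finset.prod_eq_one fun i _ => Subtype.ext ?_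
  rw [M.cent_val (by rw [mul_inv_cancel, map_one]), mul_inv_cancel]; rfl

theorem cocycle_assoc (a b c : G) :
    M.cocycle (a * b) c * M.cocycle a b = M.cocycle a (b * c) * M.cocycle b c := by
  have e1 := M.corr_mul (M.isLift_mul (M.isLift_sec a) (M.isLift_sec b)) (M.isLift_sec c)
  have e2 := M.corr_mul (M.isLift_sec a) (M.isLift_mul (M.isLift_sec b) (M.isLift_sec c))
  rw [M.corr_mul (M.isLift_sec a) (M.isLift_sec b)] at e1
  rw [M.corr_mul (M.isLift_sec b) (M.isLift_sec c)] at e2
  simp only [corr_sec, one_mul, mul_one] at e1 e2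
  have e3 : M.corr (a * b * c) (fun i => M.sec a (b • c • i) * M.sec b (c • i) * M.sec c i) =
      M.corr (a * (b * c)) (fun i => M.sec a ((b * c) • i) * (M.sec b (c • i) * M.sec c i)) := by
    simp only [mul_assoc, mul_smul]
  rw [e1, e2] at e3
  rw [mul_comm, e3, mul_comm]

theorem cocycle_one_left (g : G) : M.cocycle 1 g = M.cocycle 1 1 := by
  simpa using (M.cocycle_assoc 1 1 g).symm

theorem cocycle_one_right (g : G) : M.cocycle g 1 = M.cocycle 1 1 := by
  simpa using M.cocycle_assoc g 1 1

end Monomial

/-- The induced extension: pairs of a group element and a central element. -/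
@[ext]
structure Ind {G E I : Type*} [Group G] [Group E] [MulAction G I] [Fintype I] (M : Monomial G E I) where
  /-- The image. -/
  g : G
  /-- The central component. -/
  a : Subgroup.center E

namespace Ind

variable {G E I : Type*} [Group G] [Group E] [MulAction G I] [Fintype I] {M : Monomial G E I}

noncomputable instance : Mul (Ind M) := ⟨fun x y => ⟨x.g * y.g, x.a * y.a * M.cocycle x.g y.g⟩⟩

noncomputable instance : One (Ind M) := ⟨⟨1, (M.cocycle 1 1)⁻¹⟩⟩

noncomputable instance : Inv (Ind M) :=
  ⟨fun x => ⟨x.g⁻¹, (x.a * M.cocycle x.g⁻¹ x.g * M.cocycle 1 1)⁻¹⟩⟩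

noncomputable instance : Group (Ind M) := Group.ofLeftAxioms
  (fun x y z => by
    refine Ind.ext (mul_assoc _ _ _) ?_
    show x.a * y.a * M.cocycle x.g y.g * z.a * M.cocycle (x.g * y.g) z.g =
      x.a * (y.a * z.a * M.cocycle y.g z.g) * M.cocycle x.g (y.g * z.g)
    have := M.cocycle_assoc x.g y.g z.g
    calc _ = x.a * y.a * z.a * (M.cocycle (x.g * y.g) z.g * M.cocycle x.g y.g) := by ac_rfl
      _ = x.a * y.a * z.a * (M.cocycle x.g (y.g * z.g) * M.cocycle y.g z.g) := by rw [this]
      _ = _ := by ac_rfl)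
  (fun x => by
    refine Ind.ext (one_mul _) ?_
    show (M.cocycle 1 1)⁻¹ * x.a * M.cocycle 1 x.g = x.a
    rw [M.cocycle_one_left x.g, mul_comm ((M.cocycle 1 1)⁻¹) x.a, inv_mul_cancel_right])
  (fun x => by
    refine Ind.ext (inv_mul_cancel _) ?_
    show (x.a * M.cocycle x.g⁻¹ x.g * M.cocycle 1 1)⁻¹ * x.a * M.cocycle x.g⁻¹ x.g = (M.cocycle 1 1)⁻¹
    rw [mul_inv, mul_inv]
    calc _ = (x.a⁻¹ * x.a) * ((M.cocycle x.g⁻¹ x.g)⁻¹ * M.cocycle x.g⁻¹ x.g) * (M.cocycle 1 1)⁻¹ := by ac_rfl
      _ = _ := by rw [inv_mul_cancel, inv_mul_cancel, one_mul, one_mul])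

/-- The projection. -/
noncomputable def proj : Ind M →* G where
  toFun x := x.g
  map_one' := rfl
  map_mul' _ _ := rfl

theorem proj_surjective : Function.Surjective (proj (M := M)) := fun g => ⟨⟨g, 1⟩, rfl⟩

theorem ker_le_center : (proj (M := M)).ker ≤ Subgroup.center (Ind M) := by
  intro x hx
  rw [Subgroup.mem_center_iff]
  intro y
  have hx' : x.g = 1 := hx
  refine Ind.ext (show y.g * x.g = x.g * y.g by rw [hx', mul_one, one_mul]) ?_
  show y.a * x.a * M.cocycle y.g x.g = x.a * y.a * M.cocycle x.g y.g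
  rw [hx', M.cocycle_one_left, M.cocycle_one_right, mul_comm y.a]

/-- The element given by a family of lifts. -/
noncomputable def mk' (M : Monomial G E I) (g : G) (f : I → E) : Ind M := ⟨g, M.corr g f⟩

theorem mk'_mul {g h : G} {f f' : I → E} (hf : M.IsLift g f) (hf' : M.IsLift h f') :
    mk' M g f * mk' M h f' = mk' M (g * h) fun i => f (h • i) * f' i :=
  Ind.ext rfl (M.corr_mul hf hf').symm

theorem mk'_one : mk' M 1 (fun _ => (1 : E)) = 1 := by
  refine Ind.ext rfl ?_
  show M.corr 1 (fun _ => (1 : E)) = (M.cocycle 1 1)⁻¹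
  have h1 : M.IsLift (1 : G) fun _ : I => (1 : E) := fun i => by simp [Monomial.fac]
  have e := M.corr_mul h1 h1
  simp only [one_mul] at e
  rw [eq_inv_iff_mul_eq_one]
  exact mul_eq_left.1 (by rw [← mul_assoc]; exact e.symm)

/-- The family of lifts of a product, coset by coset. -/
def prodLift : List (G × (I → E)) → I → E
  | [], _ => 1
  | x :: L, i => x.2 ((L.map Prod.fst).prod • i) * prodLift L i

theorem prod_mk' : ∀ L : List (G × (I → E)), (∀ x ∈ L, M.IsLift x.1 x.2) →
    M.IsLift (L.map Prod.fst).prod (prodLift L) ∧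
      (L.map fun x => mk' M x.1 x.2).prod = mk' M (L.map Prod.fst).prod (prodLift L) := by
  intro L
  induction L with
  | nil =>
    intro _
    exact ⟨fun i => by simp [prodLift, Monomial.fac], by simpa [prodLift] using (mk'_one (M := M)).symm⟩
  | cons x L ih =>
    intro h
    obtain ⟨h1, h2⟩ := ih fun y hy => h y (List.mem_cons_of_mem _ hy)
    have hx := h x List.mem_cons_self
    refine ⟨?_, ?_⟩
    · simpa [prodLift] using M.isLift_mul hx h1
    · rw [List.map_cons, List.prod_cons, h2, mk'_mul hx h1]
      simp [prodLift]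

/-- Two words with the same letters and the same image give a kernel element inside the commutator subgroup. -/
theorem mem_commutator_of_perm {L L' : List (G × (I → E))} (hp : L'.Perm L) (hL : ∀ x ∈ L, M.IsLift x.1 x.2)
    (he : (L.map Prod.fst).prod = (L'.map Prod.fst).prod) :
    ∃ z ∈ (proj (M := M)).ker ⊓ commutator (Ind M),
      z = mk' M 1 (fun i => (prodLift L' i)⁻¹ * prodLift L i) := by
  have hL' : ∀ x ∈ L', M.IsLift x.1 x.2 := fun x hx => hL x (hp.mem_iff.1 hx)
  obtain ⟨l1, e1⟩ := prod_mk' L hL
  obtain ⟨l2, e2⟩ := prod_mk' L' hL'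
  rw [← he] at l2 e2
  set g := (L.map Prod.fst).prod
  have l3 : M.IsLift 1 fun i => (prodLift L' i)⁻¹ * prodLift L i := fun i => by
    rw [map_mul, map_inv, l1, l2, inv_mul_cancel]
    simp [Monomial.fac]
  refine ⟨(L'.map fun x => mk' M x.1 x.2).prod⁻¹ * (L.map fun x => mk' M x.1 x.2).prod,
    Subgroup.mem_inf.2 ⟨?_, ?_⟩, ?_⟩
  · rw [MonoidHom.mem_ker, e1, e2, map_mul, map_inv]
    exact inv_mul_cancel g
  · rw [← Abelianization.ker_of, MonoidHom.mem_ker, map_mul, map_inv, map_list_prod, map_list_prod,
      List.map_map, List.map_map, (hp.map _).prod_eq, inv_mul_cancel]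
  · have := mk'_mul l2 l3
    rw [mul_one] at this
    rw [e1, e2, inv_mul_eq_iff_eq_mul, this]
    simp

theorem mk'_one_val {f : I → E} (hf : ∀ i, M.π (f i) = 1) :
    ((mk' M 1 f).a * M.cocycle 1 1 : Subgroup.center E) = ∏ i, Monomial.cent (f i) := by
  have h1 : ∀ i, M.π (M.sec (1 : G) i) = 1 := fun i => by rw [M.sec_spec]; simp [Monomial.fac]
  show M.corr 1 f * M.cocycle 1 1 = _
  rw [Monomial.corr, Monomial.cocycle, Monomial.corr, ← Finset.prod_mul_distrib]
  refine Finset.prod_congr rfl fun i _ => ?_
  simp only [one_mul, one_smul]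
  rw [← M.cent_mul (by simp [hf, h1]) (by simp [h1])]
  congr 1
  group

end Ind

end Cfsg.Agent.SchurMult
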