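import Cfsg.Agent.Lib.SchurMult.Bound
import Cfsg.Agent.Lib.Golay.Mathieu

/-! The coded representation of a Mathieu group, for the multiplier computation. -/

set_option autoImplicit false

namespace Cfsg.Agent.SchurMult

open Cfsg Cfsg.Agent.PermCert Cfsg.Agent.Golay

/-- Reading a subgroup of permutations of the Golay points on `Fin 24`. -/
def ptHom (M : Subgroup (Equiv.Perm GolayPt)) : M →* Equiv.Perm (Fin 24) :=
  phi.symm.toMonoidHom.comp M.subtype

theorem ptHom_injective (M : Subgroup (Equiv.Perm GolayPt)) : Function.Injective (ptHom M) :=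
  phi.symm.injective.comp M.subtype_injective

theorem ptHom_range {M : Subgroup (Equiv.Perm GolayPt)} {gens : List Elt} (h : genPerm gens = M) :
    (ptHom M).range = genGroup 5 24 gens := by
  rw [ptHom, MonoidHom.range_comp, Subgroup.range_subtype, ← h, genPerm, Subgroup.map_map]
  have : phi.symm.toMonoidHom.comp phi.toMonoidHom = MonoidHom.id _ := MonoidHom.ext fun x => by simp
  rw [this, Subgroup.map_id]

end Cfsg.Agent.SchurMult
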