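import Cfsg.Agent.Lib.SchurMult.Bound
import Mathlib.Data.ZMod.Basic
import Mathlib.GroupTheory.OrderOfElement

/-! From quotients of the multiplier seen in central extensions to the multiplier itself. -/

set_option autoImplicit false

namespace Cfsg.Agent.SchurMult

variable {Q : Type*} [Group Q] [Finite Q]

/-- A central extension with a map from its kernel inside the commutator subgroup onto a group. -/
theorem exists_surj {X : Type*} [Group X] {A : Type*} [Group A] (ξ : X →* Q) (hs : Function.Surjective ξ)
    (hc : ξ.ker ≤ Subgroup.center X) (v : ↥(ξ.ker ⊓ commutator X) →* A) (hv : Function.Surjective v) :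
    ∃ f : Schur.Multiplier Q →* A, Function.Surjective f := by
  obtain ⟨θ, hθ⟩ := Schur.exists_surj_of_central _ (Schur.stdPres_surjective Q) ξ hs hc
  exact ⟨v.comp θ, hv.comp hθ⟩

/-- A cyclic quotient divides the exponent. -/
theorem dvd_exponent {q r : ℕ} [NeZero q] {f : Schur.Multiplier Q →* Multiplicative (ZMod q × ZMod r)}
    (hf : Function.Surjective f) : q ∣ Monoid.exponent (Schur.Multiplier Q) := by
  obtain ⟨m, hm⟩ := hf (Multiplicative.ofAdd (1, 0))
  refine Dvd.dvd.trans ?_ ((orderOf_map_dvd f m).trans (Monoid.order_dvd_exponent m))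
  rw [hm, orderOf_ofAdd_eq_addOrderOf, Prod.addOrderOf]
  simp [ZMod.addOrderOf_one]

/-- Two quotients of coprime orders give their product. -/
theorem surj_prod {M A B : Type*} [Group M] [Group A] [Group B] [Finite A] [Finite B]
    {f : M →* A} (hf : Function.Surjective f) {g : M →* B} (hg : Function.Surjective g)
    (hcop : (Nat.card A).Coprime (Nat.card B)) : Function.Surjective (f.prod g) := by
  have hA : Nat.card A ∣ Nat.card (f.prod g).range :=
    Subgroup.card_dvd_of_surjective ((MonoidHom.fst A B).comp (f.prod g).range.subtype) fun a => by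
      obtain ⟨m, hm⟩ := hf a
      exact ⟨⟨_, m, rfl⟩, hm⟩
  have hB : Nat.card B ∣ Nat.card (f.prod g).range :=
    Subgroup.card_dvd_of_surjective ((MonoidHom.snd A B).comp (f.prod g).range.subtype) fun b => by
      obtain ⟨m, hm⟩ := hg b
      exact ⟨⟨_, m, rfl⟩, hm⟩
  have h := Nat.le_of_dvd Nat.card_pos (hcop.mul_dvd_of_dvd_of_dvd hA hB)
  rw [← MonoidHom.range_eq_top]
  exact Subgroup.eq_top_of_le_card _ (by rw [Nat.card_prod]; exact h)

/-- A quotient as large as the bound is the multiplier. -/
theorem hasSchurMultiplier_of_surj {A : Type*} [CommGroup A] [Finite A] {f : Schur.Multiplier Q →* A}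
    (hf : Function.Surjective f) (hle : Nat.card (Schur.Multiplier Q) ≤ Nat.card A) :
    Cfsg.HasSchurMultiplier Q A :=
  Schur.hasSchurMultiplier_congr (Schur.hasSchurMultiplier_multiplier Q)
    (MulEquiv.ofBijective f (Function.Surjective.bijective_of_nat_card_le hf hle))

end Cfsg.Agent.SchurMult
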