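import Cfsg.Agent.Lib.Compute.SchurSpec
import Cfsg.Agent.Lib.Schur.Basic

/-!
From the certificates for the separate primes to the multiplier of a group with a faithful coded
permutation representation.
-/

set_option autoImplicit false

namespace Cfsg.Agent.SchurMult

open Cfsg.Agent.PermCert Cfsg.Agent.PermSchur

universe u

variable {w n : ℕ} [NeZero n] {Q : Type u} [Group Q] [Finite Q]

/-- A certificate for one prime: a fixed power takes at most `k` values on the kernel. -/
def Certified (w n : ℕ) (gens : List Elt) (i k : ℕ) : Prop :=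
  ∀ (Γ : Type u) [Group Γ] [Finite Γ] (ξ : Γ →* Equiv.Perm (Fin n)), ξ.ker ≤ Subgroup.center Γ →
    ξ.range = genGroup w n gens → ∃ S : Finset Γ, S.card ≤ k ∧ ∀ z ∈ ξ.ker ⊓ commutator Γ, z ^ i ∈ S

theorem certified_of {gens : List Elt} {derived : List (Elt × List ℕ)} {levels : List CLevel}
    {d : SchurData} {i k : ℕ} (hc : checkCert w n gens derived levels = true)
    (hb : schurBaseOK w n d levels = true) (hr : rowsOK d = true)
    (hrel : d.rels.all (fun r => match r with
      | .assoc a b c => (a ++ b ++ c).all (fun q => Nat.blt q d.a.length) | .fuse .. => true) = true)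
    (hd : derivedOK w n d = true) (hi : certOrder levels / certOrder d.levels = i)
    (hk : d.ext.length + 1 = k) : Certified.{u} w n gens i k := by
  intro Γ _ _ ξ hker hrange
  obtain ⟨S, hS, h⟩ := PermSchur.kill hc hb hr hrel hd ξ hker hrange
  exact ⟨S, hk ▸ hS, fun z hz => hi ▸ h z hz⟩

/-- A finite stem extension realising the multiplier, seen in the permutation group. -/
theorem realise {gens : List Elt} (φ : Q →* Equiv.Perm (Fin n)) (hφ : Function.Injective φ)
    (hrange : φ.range = genGroup w n gens) :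
    ∃ (Γ : Type u) (_ : Group Γ) (_ : Finite Γ) (ξ : Γ →* Equiv.Perm (Fin n)),
      ξ.ker ≤ Subgroup.center Γ ∧ ξ.range = genGroup w n gens ∧
      Nat.card (Schur.Multiplier Q) = Nat.card ↥(ξ.ker ⊓ commutator Γ) := by
  obtain ⟨⟨Γ, iG, iF, σ, ⟨hs, hc, hm⟩, ⟨e⟩⟩, -⟩ := Schur.hasSchurMultiplier_multiplier Q
  have hk : (φ.comp σ).ker = σ.ker := by
    ext x
    simp [MonoidHom.mem_ker, map_eq_one_iff φ hφ]
  refine ⟨Γ, iG, iF, φ.comp σ, hk.le.trans hc, ?_, ?_⟩
  · rw [MonoidHom.range_comp, MonoidHom.range_eq_top.2 hs, ← MonoidHom.range_eq_map, hrange]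
  · rw [hk, inf_eq_left.2 hm, Nat.card_congr e.toEquiv]

/-- Power maps with small images and exponents without a common factor bound a central subgroup. -/
theorem card_le_prod {Γ : Type*} [Group Γ] [Finite Γ] : ∀ (L : List (ℕ × ℕ)) (g : ℕ) (H : Subgroup Γ),
    H ≤ Subgroup.center Γ → (∀ z ∈ H, z ^ g = 1) → Nat.gcd g ((L.map Prod.fst).foldr Nat.gcd 0) = 1 →
    (∀ a ∈ L, ∃ S : Finset Γ, S.card ≤ a.2 ∧ ∀ z ∈ H, z ^ a.1 ∈ S) →
    Nat.card H ≤ (L.map Prod.snd).prod := by
  intro L
  induction L with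
  | nil =>
    intro g H _ hg hgcd _
    simp only [List.map_nil, List.foldr_nil, Nat.gcd_zero_right] at hgcd
    subst hgcd
    rw [(Subgroup.eq_bot_iff_forall H).2 fun z hz => by simpa using hg z hz, Subgroup.card_bot]
    simp
  | cons a L ih =>
    intro g H hH hg hgcd hS
    obtain ⟨S, hScard, hSmem⟩ := hS a List.mem_cons_self
    let φ : H →* Γ :=
      { toFun := fun z => (z : Γ) ^ a.1
        map_one' := one_pow _
        map_mul' := fun x y => by
          have hc : Commute (x : Γ) (y : Γ) := Subgroup.mem_center_iff.1 (hH y.2) x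
          rw [Subgroup.coe_mul, hc.mul_pow] }
    have hle : φ.ker.map H.subtype ≤ H := by rintro _ ⟨x, -, rfl⟩; exact x.2
    have h1 : Nat.card φ.ker ≤ (L.map Prod.snd).prod := by
      rw [Nat.card_congr (φ.ker.equivMapOfInjective H.subtype H.subtype_injective).toEquiv]
      refine ih (Nat.gcd g a.1) _ (hle.trans hH) ?_ ?_ fun b hb => ?_
      · rintro _ ⟨x, hx, rfl⟩
        exact pow_gcd_eq_one.2 ⟨hg _ x.2, hx⟩
      · rw [Nat.gcd_assoc]; simpa using hgcd
      · obtain ⟨T, hT, hTm⟩ := hS b (List.mem_cons_of_mem _ hb)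
        exact ⟨T, hT, fun z hz => hTm z (hle hz)⟩
    have h2 : Nat.card φ.range ≤ a.2 := by
      refine le_trans ?_ hScard
      rw [← Nat.card_eq_finsetCard]
      refine Nat.card_le_card_of_injective
        (fun x : φ.range => (⟨x, by obtain ⟨z, hz⟩ := x.2; rw [← hz]; exact hSmem _ z.2⟩ : S))
        fun x y h => Subtype.ext (congrArg (fun t : S => (t : Γ)) h)
    calc Nat.card H = Nat.card φ.range * Nat.card φ.ker := by
          rw [Subgroup.card_eq_card_quotient_mul_card_subgroup φ.ker,
            Nat.card_congr (QuotientGroup.quotientKerEquivRange φ).toEquiv]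
      _ ≤ a.2 * (L.map Prod.snd).prod := Nat.mul_le_mul h2 h1
      _ = _ := by simp

/-- The order of the multiplier is bounded by the product over the primes. -/
theorem card_le (φ : Q →* Equiv.Perm (Fin n)) (hφ : Function.Injective φ) {gens : List Elt}
    (hrange : φ.range = genGroup w n gens) (L : List (ℕ × ℕ))
    (hL : ∀ a ∈ L, Certified.{u} w n gens a.1 a.2) (hg : (L.map Prod.fst).foldr Nat.gcd 0 = 1) :
    Nat.card (Schur.Multiplier Q) ≤ (L.map Prod.snd).prod := by
  obtain ⟨Γ, iG, iF, ξ, hker, hr, hcard⟩ := realise φ hφ hrange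
  rw [hcard]
  refine card_le_prod L 0 _ (inf_le_left.trans hker) (fun z _ => pow_zero z) (by rw [Nat.gcd_zero_left, hg]) ?_
  exact fun a ha => hL a ha Γ ξ hker hr

/-- A bound of one: the multiplier is trivial. -/
theorem trivial_of (φ : Q →* Equiv.Perm (Fin n)) (hφ : Function.Injective φ) {gens : List Elt}
    (hrange : φ.range = genGroup w n gens) (L : List (ℕ × ℕ))
    (hL : ∀ a ∈ L, Certified.{u} w n gens a.1 a.2) (hg : (L.map Prod.fst).foldr Nat.gcd 0 = 1)
    (hk : (L.map Prod.snd).prod = 1) : Cfsg.HasCyclicSchurMultiplier Q 1 := by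
  have h : Nat.card (Schur.Multiplier Q) ≤ 1 := (card_le φ hφ hrange L hL hg).trans hk.le
  have hpos : 0 < Nat.card (Schur.Multiplier Q) := Nat.card_pos
  exact Schur.hasCyclicSchurMultiplier_one_iff_bot.2 (Subgroup.eq_bot_of_card_eq _ (by omega))

/-- An element of a given order in the kernel of a central extension and the commutator subgroup divides
the order of some element of the multiplier. -/
theorem exists_orderOf {X : Type*} [Group X] (ξ : X →* Q) (hs : Function.Surjective ξ)
    (hc : ξ.ker ≤ Subgroup.center X) {z : X} (hz : z ∈ ξ.ker ⊓ commutator X) :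
    orderOf z ∣ Monoid.exponent (Schur.Multiplier Q) := by
  obtain ⟨θ, hθ⟩ := Schur.exists_surj_of_central _ (Schur.stdPres_surjective Q) ξ hs hc
  obtain ⟨m, hm⟩ := hθ ⟨z, hz⟩
  rw [← Subgroup.orderOf_mk z hz, ← hm]
  exact (orderOf_map_dvd θ m).trans (Monoid.order_dvd_exponent m)

/-- The bound is reached by orders of kernel elements: the multiplier is cyclic. -/
theorem cyclic_of (k : ℕ) [NeZero k] (hle : Nat.card (Schur.Multiplier Q) ≤ k)
    (hdvd : k ∣ Monoid.exponent (Schur.Multiplier Q)) : Cfsg.HasCyclicSchurMultiplier Q k := by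
  letI : CommGroup (Schur.Multiplier Q) :=
    { (inferInstance : Group (Schur.Multiplier Q)) with
      mul_comm := fun a b => Subtype.ext (Subgroup.mem_center_iff.1 (Schur.mult_le_center _ b.2) a) }
  have h1 : k ∣ Nat.card (Schur.Multiplier Q) := hdvd.trans Group.exponent_dvd_nat_card
  have h2 : Nat.card (Schur.Multiplier Q) = k :=
    le_antisymm hle (Nat.le_of_dvd Nat.card_pos h1)
  refine (Schur.hasCyclicSchurMultiplier_iff k).2 ⟨?_, h2⟩
  exact IsCyclic.iff_exponent_eq_card.2 (Nat.dvd_antisymm Group.exponent_dvd_nat_card (h2 ▸ hdvd))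

/-- With a central extension whose kernel meets the commutator subgroup, the multiplier has order two. -/
theorem cyclic_two_of {X : Type*} [Group X] (ξ : X →* Q) (hs : Function.Surjective ξ)
    (hc : ξ.ker ≤ Subgroup.center X) (hne : ξ.ker ⊓ commutator X ≠ ⊥)
    (hle : Nat.card (Schur.Multiplier Q) ≤ 2) : Cfsg.HasCyclicSchurMultiplier Q 2 := by
  have hdvd := Schur.card_dvd_card_multiplier ξ hs hc
  have h1 : Nat.card ↥(ξ.ker ⊓ commutator X) ≠ 1 := fun h => hne (Subgroup.eq_bot_of_card_eq _ h)
  have hne1 : Nat.card (Schur.Multiplier Q) ≠ 1 := fun h => h1 (Nat.dvd_one.1 (h ▸ hdvd))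
  have hpos : 0 < Nat.card (Schur.Multiplier Q) := Nat.card_pos
  have h2 : Nat.card (Schur.Multiplier Q) = 2 := by omega
  haveI : Fact (Nat.Prime 2) := ⟨Nat.prime_two⟩
  exact (Schur.hasCyclicSchurMultiplier_iff 2).2 ⟨isCyclic_of_prime_card h2, h2⟩

end Cfsg.Agent.SchurMult
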