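import Cfsg.Agent.Lib.SchurMult.U43Group
import Cfsg.Agent.Lib.SchurMult.U43Data
import Cfsg.Agent.S0280
import Cfsg.Agent.Lib.Classical.HermSU
import Cfsg.Agent.Lib.Classical.UnitaryStd
import Mathlib.FieldTheory.Finite.GaloisField
import Mathlib.LinearAlgebra.Matrix.SpecialLinearGroup

/-! The coded action of the four-dimensional unitary group over nine elements on its totally isotropic lines. -/

set_option autoImplicit false
set_option maxRecDepth 100000

namespace Cfsg.Agent.SchurMult

open Cfsg Cfsg.Agent.PermCert Matrix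

/-- The first spanning vector of a line. -/
def lineA (i : Fin 112) : Fin 4 → K9 := u43Vec (u43LineA.getD i 0)
/-- The second spanning vector of a line. -/
def lineB (i : Fin 112) : Fin 4 → K9 := u43Vec (u43LineB.getD i 0)

/-- The hermitian form. -/
def hf (u v : Fin 4 → K9) : K9 := u 0 * v 0 ^ 3 + u 1 * v 1 ^ 3 + u 2 * v 2 ^ 3 + u 3 * v 3 ^ 3

theorem hf_line : ∀ i : Fin 112, hf (lineA i) (lineA i) = 0 ∧ hf (lineB i) (lineA i) = 0 ∧
    hf (lineA i) (lineB i) = 0 ∧ hf (lineB i) (lineB i) = 0 := by decide +kernel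

theorem hf_sep : ∀ i j : Fin 112, i = j ∨ hf (lineA i) (lineA j) ≠ 0 ∨ hf (lineA i) (lineB j) ≠ 0 ∨
    hf (lineB i) (lineA j) ≠ 0 ∨ hf (lineB i) (lineB j) ≠ 0 := by decide +kernel

theorem hf_comb (x y : K9) (a b v : Fin 4 → K9) :
    hf (x • a + y • b) v = x * hf a v + y * hf b v := by
  simp only [hf, Pi.add_apply, Pi.smul_apply, smul_eq_mul]
  ring

/-- A coefficient of a line map. -/
def coef (l : List ℕ) (i : Fin 112) (k : ℕ) : K9 := K9.tab (l.getD i 0) k

/-- The certificate that a matrix moves the lines as a coded permutation. -/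
def LineMap (M : Matrix (Fin 4) (Fin 4) K9) (l : List ℕ) (e : Elt) : Prop :=
  ∀ i : Fin 112,
    M *ᵥ lineA i = coef l i 0 • lineA (toPerm 7 112 e i) + coef l i 1 • lineB (toPerm 7 112 e i) ∧
    M *ᵥ lineB i = coef l i 2 • lineA (toPerm 7 112 e i) + coef l i 3 • lineB (toPerm 7 112 e i) ∧
    lineA (toPerm 7 112 e i) = coef l i 4 • (M *ᵥ lineA i) + coef l i 5 • (M *ᵥ lineB i) ∧
    lineB (toPerm 7 112 e i) = coef l i 6 • (M *ᵥ lineA i) + coef l i 7 • (M *ᵥ lineB i)

theorem lineMap_a : LineMap (u43Mat 0) u43CoA (u43Gens.getD 0 (0, 0)) := by unfold LineMap; decide +kernel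

theorem lineMap_b : LineMap (u43Mat 1) u43CoB (u43Gens.getD 1 (0, 0)) := by unfold LineMap; decide +kernel

theorem mats_su : ∀ k : Fin 5, (u43Mat k).det = 1 ∧
    (u43Mat k)ᵀ * (u43Mat k).map (fun x => x ^ 3) = 1 := by decide +kernel

theorem mats_inv : u43Mat 0 * u43Mat 2 = 1 ∧ u43Mat 1 * u43Mat 3 = 1 := by decide +kernel

theorem mat_scalar : u43Mat 4 = K9.mk 3 • 1 := by decide +kernel

/-- The value of a word. -/
def evW : List ℕ → Matrix (Fin 4) (Fin 4) K9
  | [] => 1
  | k :: w => u43Mat k * evW w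

theorem word_eq : evW u43W1 = evW u43W0 * u43Mat 4 := by decide +kernel

theorem scalar_facts : (K9.mk 3) ^ 4 = 1 ∧ (K9.mk 3) ^ 2 ≠ 1 := by decide +kernel

/-- Exponents of the two generators in a word. -/
def wordExp : List ℕ → ℤ × ℤ
  | [] => (0, 0)
  | k :: w => let r := wordExp w
    (r.1 + (if k = 0 then 1 else if k = 2 then -1 else 0), r.2 + (if k = 1 then 1 else if k = 3 then -1 else 0))

theorem prod_word {A : Type*} [CommGroup A] (v : ℕ → A) (h2 : v 2 = (v 0)⁻¹) (h3 : v 3 = (v 1)⁻¹) :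
    ∀ w : List ℕ, (∀ k ∈ w, k < 4) → (w.map v).prod = v 0 ^ (wordExp w).1 * v 1 ^ (wordExp w).2
  | [], _ => by simp [wordExp]
  | k :: w, hw => by
    have hk := hw k List.mem_cons_self
    rw [List.map_cons, List.prod_cons, prod_word v h2 h3 w fun x hx => hw x (List.mem_cons_of_mem _ hx)]
    interval_cases k <;> simp [wordExp, h2, h3, _root_.zpow_add, mul_comm, mul_left_comm] <;>
      simp only [mul_assoc, mul_comm, mul_left_comm]

variable {F : Type*} [Field F] [Fintype F]

theorem u43_center_card (hF : Fintype.card F = 9) : Nat.card (Subgroup.center (Cfsg.SU 4 F 3)) = 4 := by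
  obtain ⟨σ, hσ, hne, hinv, hq, -⟩ := HermStd.exists_sigma (q := 3) (show Fintype.card F = 3 ^ 2 by rw [hF]; rfl)
  rw [HermSU.card_center_SU hne hinv hσ (by norm_num) hq]
  rfl

theorem u43_card (hF : Fintype.card F = 9) : Nat.card (Cfsg.SU 4 F 3) = 13063680 := by
  have h := S0280.result (q := 3) (show Fintype.card F = 3 ^ 2 by rw [hF]; rfl) 4 (by norm_num)
  simp [Finset.prod_range_succ, show ¬ Even 3 by decide, show Even 2 from even_two] at h
  rw [Subgroup.card_eq_card_quotient_mul_card_subgroup (Subgroup.center (Cfsg.SU 4 F 3)), u43_center_card hF]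
  show Nat.card (Cfsg.PSU 4 F 3) * 4 = 13063680
  omega

/-- The coded action, the scalar and its place in the derived group. -/
theorem exists_u43_hom (hF : Fintype.card F = 9) :
    ∃ φ : Cfsg.SU 4 F 3 →* Equiv.Perm (Fin 112), φ.range = genGroup 7 112 u43Gens ∧
      φ.ker = Subgroup.center (Cfsg.SU 4 F 3) ∧
      ∃ z : Cfsg.SU 4 F 3, z ∈ commutator (Cfsg.SU 4 F 3) ∧ z ∈ Subgroup.center (Cfsg.SU 4 F 3) ∧
        orderOf z = 4 := by
  classical
  obtain ⟨f⟩ : Nonempty (K9 ≃+* F) := ⟨FiniteField.ringEquivOfCardEq (K9.card.trans hF.symm)⟩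
  obtain ⟨σ, hσ, -⟩ := HermStd.exists_sigma (q := 3) (show Fintype.card F = 3 ^ 2 by rw [hF]; rfl)
  -- the five matrices in the group
  have hmem : ∀ k : Fin 5, ∃ g : Cfsg.SU 4 F 3,
      ((g : Matrix.SpecialLinearGroup (Fin 4) F) : Matrix (Fin 4) (Fin 4) F) = (u43Mat k).map f := by
    intro k
    have hd : ((u43Mat k).map f).det = 1 :=
      (RingHom.map_det f.toRingHom (u43Mat k)).symm.trans (by rw [(mats_su k).1]; exact map_one f)
    refine ⟨⟨⟨(u43Mat k).map f, hd⟩, (HermSU.mem_SU_iff (q := 3) hσ _).2 ?_⟩, rfl⟩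
    show ((u43Mat k).map f)ᵀ * ((u43Mat k).map f).map σ = 1
    have e : ((u43Mat k).map f).map σ = ((u43Mat k).map (fun x => x ^ 3)).map f := by
      ext i j
      simp [hσ]
    rw [e, ← Matrix.transpose_map, ← Matrix.map_mul, (mats_su k).2]
    exact Matrix.map_one _ (map_zero f) (map_one f)
  choose gm hgm using hmem
  -- the sets of the lines
  let L : Fin 112 → Set (Fin 4 → F) := fun i => {w | ∃ x y : F, w = x • (⇑f ∘ lineA i) + y • (⇑f ∘ lineB i)}
  have hLinj : Function.Injective L := by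
    intro i j e
    by_contra hne
    have hback : ∀ v : Fin 4 → K9, ⇑f ∘ v ∈ L i → ∀ t, (t = lineA j ∨ t = lineB j) → hf v t = 0 := by
      intro v hv t ht
      rw [e] at hv
      obtain ⟨x, y, hxy⟩ := hv
      have : v = f.symm x • lineA j + f.symm y • lineB j := funext fun k => f.injective (by
        have := congrFun hxy k
        simp only [Function.comp_apply, Pi.add_apply, Pi.smul_apply, smul_eq_mul] at this
        rw [this]
        simp)
      rw [this, hf_comb]
      rcases ht with rfl | rfl <;> simp [(hf_line j).1, (hf_line j).2.1, (hf_line j).2.2.1, (hf_line j).2.2.2]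
    have hA : ⇑f ∘ lineA i ∈ L i := ⟨1, 0, by simp⟩
    have hB : ⇑f ∘ lineB i ∈ L i := ⟨0, 1, by simp⟩
    rcases (hf_sep i j).resolve_left hne with h | h | h | h
    exacts [h (hback _ hA _ (Or.inl rfl)), h (hback _ hA _ (Or.inr rfl)), h (hback _ hB _ (Or.inl rfl)),
      h (hback _ hB _ (Or.inr rfl))]
  let act : Cfsg.SU 4 F 3 → (Fin 4 → F) → (Fin 4 → F) := fun g v =>
    ((g : Matrix.SpecialLinearGroup (Fin 4) F) : Matrix (Fin 4) (Fin 4) F) *ᵥ v
  have act_mul : ∀ g g' v, act (g * g') v = act g (act g' v) := fun g g' v => by simp [act, Matrix.mulVec_mulVec]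
  have act_one : ∀ v, act 1 v = v := fun v => by simp [act]
  have act_lin : ∀ g (x y : F) (a b : Fin 4 → F), act g (x • a + y • b) = x • act g a + y • act g b := fun g x y a b => by
    simp [act, Matrix.mulVec_add, Matrix.mulVec_smul]
  have hfv : ∀ (k : Fin 5) (v : Fin 4 → K9), act (gm k) (⇑f ∘ v) = ⇑f ∘ (u43Mat k *ᵥ v) := fun k v => by
    show ((gm k : Matrix.SpecialLinearGroup (Fin 4) F) : Matrix (Fin 4) (Fin 4) F) *ᵥ (⇑f ∘ v) = _
    rw [hgm]
    funext r
    exact (RingHom.map_mulVec f.toRingHom _ v r).symm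
  have hcomb : ∀ (x y : K9) (a b : Fin 4 → K9), ⇑f ∘ (x • a + y • b) = f x • (⇑f ∘ a) + f y • (⇑f ∘ b) :=
    fun x y a b => funext fun r => by simp
  have hmove : ∀ (k : Fin 5) (l : List ℕ) (e : Elt), LineMap (u43Mat k) l e →
      ∀ i, act (gm k) '' L i = L (toPerm 7 112 e i) := by
    intro k l e hl i
    obtain ⟨h1, h2, h3, h4⟩ := hl i
    set j := toPerm 7 112 e i
    refine Set.Subset.antisymm ?_ ?_
    · rintro _ ⟨_, ⟨x, y, rfl⟩, rfl⟩
      rw [act_lin, hfv, hfv, h1, h2, hcomb, hcomb]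
      exact ⟨x * f (coef l i 0) + y * f (coef l i 2), x * f (coef l i 1) + y * f (coef l i 3), by module⟩
    · rintro _ ⟨x, y, rfl⟩
      rw [h3, h4, hcomb, hcomb, ← hfv, ← hfv]
      refine ⟨(x * f (coef l i 4) + y * f (coef l i 6)) • (⇑f ∘ lineA i) +
        (x * f (coef l i 5) + y * f (coef l i 7)) • (⇑f ∘ lineB i), ⟨_, _, rfl⟩, ?_⟩
      rw [act_lin]
      module
  -- the subgroup moving lines to lines
  let K : Subgroup (Cfsg.SU 4 F 3) :=
    { carrier := {g | ∀ i, ∃ j, act g '' L i = L j}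
      one_mem' := fun i => ⟨i, by simp [act_one]⟩
      mul_mem' := fun {g g'} hg hg' i => by
        obtain ⟨j, hj⟩ := hg' i
        obtain ⟨k, hk⟩ := hg j
        exact ⟨k, by rw [show act (g * g') = act g ∘ act g' from funext (act_mul g g'), Set.image_comp, hj, hk]⟩
      inv_mem' := fun {g} hg i => by
        choose t ht using hg
        have hinj : Function.Injective t := fun a b e => hLinj (by
          have h : act g '' L a = act g '' L b := by rw [ht, ht, e]
          refine (Set.image_eq_image fun v v' hv => ?_).1 h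
          simpa [← act_mul, act_one] using congrArg (act g⁻¹) hv)
        obtain ⟨a, rfl⟩ := (Finite.injective_iff_surjective.1 hinj) i
        refine ⟨a, ?_⟩
        rw [← ht, ← Set.image_comp]
        have : act g⁻¹ ∘ act g = id := funext fun v => by simp [← act_mul, act_one]
        rw [this, Set.image_id] }
  choose τ hτ using fun g : K => g.2
  let A : K →* Function.End (Fin 112) :=
    { toFun := τ
      map_one' := funext fun i => hLinj (by show L (τ 1 i) = L i; rw [← hτ, OneMemClass.coe_one]; simp [act_one])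
      map_mul' := fun g g' => funext fun i => hLinj (by
        show L (τ (g * g') i) = L (τ g (τ g' i))
        rw [← hτ, ← hτ, ← hτ, ← Set.image_comp]
        congr 1
        exact funext (act_mul g.1 g'.1)) }
  let φK : K →* Equiv.Perm (Fin 112) :=
    MonoidHom.toHomPerm A
  have φK_apply : ∀ (g : K) i, L (φK g i) = act g.1 '' L i := fun g i => (hτ g i).symm
  have hgenK : ∀ (k : Fin 5) (l : List ℕ) (e : Elt), LineMap (u43Mat k) l e → ∃ g : K, φK g = toPerm 7 112 e := by
    intro k l e hl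
    refine ⟨⟨gm k, fun i => ⟨_, hmove k l e hl i⟩⟩, Equiv.ext fun i => hLinj ?_⟩
    rw [φK_apply]
    exact hmove k l e hl i
  -- the scalar
  set s := gm 4
  have hs : ∀ v, act s v = f (K9.mk 3) • v := fun v => by
    show ((gm 4 : Matrix.SpecialLinearGroup (Fin 4) F) : Matrix (Fin 4) (Fin 4) F) *ᵥ v = _
    rw [hgm, show ((4 : Fin 5) : ℕ) = 4 from rfl, mat_scalar]
    funext r
    simp [Matrix.mulVec, dotProduct, Matrix.one_apply, apply_ite f]
  have hne : f (K9.mk 3) ≠ 0 := by
    intro h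
    have h4 := congrArg f scalar_facts.1
    rw [map_pow, h, map_one] at h4
    norm_num at h4
  have hsfix : ∀ i, act s '' L i = L i := fun i => by
    refine Set.Subset.antisymm ?_ ?_
    · rintro _ ⟨_, ⟨x, y, rfl⟩, rfl⟩
      rw [hs]
      exact ⟨f (K9.mk 3) * x, f (K9.mk 3) * y, by module⟩
    · rintro _ ⟨x, y, rfl⟩
      exact ⟨_, ⟨(f (K9.mk 3))⁻¹ * x, (f (K9.mk 3))⁻¹ * y, rfl⟩, by
        rw [hs, smul_add, smul_smul, smul_smul, mul_inv_cancel_left₀ hne, mul_inv_cancel_left₀ hne]⟩
  let sK : K := ⟨s, fun i => ⟨i, hsfix i⟩⟩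
  have act_ext : ∀ g g' : Cfsg.SU 4 F 3, (∀ v, act g v = act g' v) → g = g' := fun g g' h =>
    Subtype.ext (Subtype.ext (Matrix.ext_of_mulVec_single fun k => h (Pi.single k 1)))
  have hscen : s ∈ Subgroup.center (Cfsg.SU 4 F 3) := by
    refine Subgroup.mem_center_iff.2 fun g => act_ext _ _ fun v => ?_
    rw [act_mul, act_mul, hs, hs]
    show ((g : Matrix.SpecialLinearGroup (Fin 4) F) : Matrix (Fin 4) (Fin 4) F) *ᵥ (f (K9.mk 3) • v) = _
    rw [Matrix.mulVec_smul]
  have hspow : ∀ (n : ℕ) v, act (s ^ n) v = f (K9.mk 3) ^ n • v := by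
    intro n
    induction n with
    | zero => intro v; simp [act_one]
    | succ n ih => intro v; rw [pow_succ, act_mul, hs, ih, smul_smul, ← pow_succ]
  have hord : orderOf s = 4 := by
    have : Fact (Nat.Prime 2) := ⟨Nat.prime_two⟩
    refine orderOf_eq_prime_pow (p := 2) (n := 1) (fun h => ?_) (act_ext _ _ fun v => ?_)
    · have h1 := congrFun ((hspow 2 (Pi.single 0 1)).symm.trans ((congrArg (fun g => act g (Pi.single 0 1))
        (show s ^ 2 = 1 from h)).trans (act_one _))) 0
      simp only [Pi.smul_apply, Pi.single_eq_same, smul_eq_mul, mul_one] at h1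
      exact scalar_facts.2 (f.injective (by rw [map_pow, h1, map_one]))
    · rw [hspow, act_one, ← map_pow, show 2 ^ (1 + 1) = 4 from rfl, scalar_facts.1, map_one, one_smul]
  have hsK : orderOf sK = 4 := by rw [← Subgroup.orderOf_coe sK]; exact hord
  have hker : Subgroup.zpowers sK ≤ φK.ker := Subgroup.zpowers_le.2 (Equiv.ext fun i => hLinj (by
    rw [φK_apply]; exact hsfix i))
  have hrange : genGroup 7 112 u43Gens ≤ φK.range := by
    refine (Subgroup.closure_le _).2 fun π hπ => ?_
    obtain ⟨e, he, rfl⟩ := List.mem_map.1 hπ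
    rw [show u43Gens = [u43Gens.getD 0 (0, 0), u43Gens.getD 1 (0, 0)] from rfl] at he
    simp only [List.mem_cons, List.not_mem_nil, or_false] at he
    rcases he with rfl | rfl
    exacts [hgenK 0 _ _ lineMap_a, hgenK 1 _ _ lineMap_b]
  have hSU := u43_card hF
  have hfin : Finite (Cfsg.SU 4 F 3) := Nat.finite_of_card_ne_zero (by rw [hSU]; norm_num)
  have hk4 : 4 ≤ Nat.card φK.ker := by
    exact ((Nat.card_zpowers sK).trans hsK).symm.le.trans (Subgroup.card_le_of_le hker)
  have hr : 3265920 ≤ Nat.card φK.range := by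
    rw [← u43_order, ← cert_card u43_cert]
    exact Subgroup.card_le_of_le hrange
  have hprod : Nat.card K = Nat.card φK.range * Nat.card φK.ker := by
    rw [Subgroup.card_eq_card_quotient_mul_card_subgroup φK.ker,
      Nat.card_congr (QuotientGroup.quotientKerEquivRange φK).toEquiv]
  have hKle : Nat.card K ≤ 13063680 := hSU ▸ Subgroup.card_le_card_group K
  have hker4 : Nat.card φK.ker = 4 := by nlinarith
  have hr4 : Nat.card φK.range = 3265920 := by nlinarith
  have htop : K = ⊤ := by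
    refine Subgroup.eq_top_of_card_eq K ?_
    rw [hprod, hr4, hker4, hSU]
  let ι : Cfsg.SU 4 F 3 →* K := (MonoidHom.id _).codRestrict K fun g => htop ▸ Subgroup.mem_top g
  refine ⟨φK.comp ι, ?_, ?_, s, ?_, hscen, hord⟩
  · rw [MonoidHom.range_comp, MonoidHom.range_eq_top.2 (fun g => ⟨g.1, Subtype.ext rfl⟩),
      ← MonoidHom.range_eq_map]
    exact (Subgroup.eq_of_le_of_card_ge hrange (by rw [hr4, cert_card u43_cert, u43_order])).symm
  · have hz : Subgroup.zpowers sK = φK.ker :=
      Subgroup.eq_of_le_of_card_ge hker (by rw [Nat.card_zpowers, hsK, hker4])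
    have hc : Subgroup.zpowers s = Subgroup.center (Cfsg.SU 4 F 3) :=
      Subgroup.eq_of_le_of_card_ge (Subgroup.zpowers_le.2 hscen)
        (by rw [Nat.card_zpowers, hord, u43_center_card hF])
    rw [← MonoidHom.comap_ker, ← hz, ← hc]
    ext g
    simp only [Subgroup.mem_comap, Subgroup.mem_zpowers_iff]
    exact exists_congr fun n => ⟨fun h => congrArg Subtype.val h, fun h => Subtype.ext h⟩
  · -- the scalar is in the derived group
    let gw : List ℕ → Cfsg.SU 4 F 3 := fun w => (w.map fun k => gm (Fin.ofNat 5 k)).prod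
    have hev : ∀ w : List ℕ, (∀ k ∈ w, k < 5) →
        ((gw w : Matrix.SpecialLinearGroup (Fin 4) F) : Matrix (Fin 4) (Fin 4) F) = (evW w).map f := by
      intro w hw
      induction w with
      | nil => exact (Matrix.map_one _ (map_zero f) (map_one f)).symm
      | cons k w ih =>
        show ((gm (Fin.ofNat 5 k) * gw w : Cfsg.SU 4 F 3) : Matrix.SpecialLinearGroup (Fin 4) F).1 = _
        have hk : (Fin.ofNat 5 k : ℕ) = k := Nat.mod_eq_of_lt (hw k List.mem_cons_self)
        rw [evW, Matrix.map_mul, ← ih fun x hx => hw x (List.mem_cons_of_mem _ hx),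
          show u43Mat k = u43Mat (Fin.ofNat 5 k : ℕ) by rw [hk], ← hgm]
        rfl
    have hinv : gm 2 = (gm 0)⁻¹ ∧ gm 3 = (gm 1)⁻¹ := by
      constructor <;>
        · refine eq_inv_of_mul_eq_one_right (Subtype.ext (Subtype.ext ?_))
          show ((gm _ : Matrix.SpecialLinearGroup (Fin 4) F) : Matrix (Fin 4) (Fin 4) F) *
            ((gm _ : Matrix.SpecialLinearGroup (Fin 4) F) : Matrix (Fin 4) (Fin 4) F) = 1
          rw [hgm, hgm, ← Matrix.map_mul]
          simp [mats_inv.1, mats_inv.2]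
    let ab : Cfsg.SU 4 F 3 →* Abelianization (Cfsg.SU 4 F 3) := Abelianization.of
    have hab : ∀ w, ab (gw w) = (w.map fun k => ab (gm (Fin.ofNat 5 k))).prod := fun w => by
      simp [gw, map_list_prod, List.map_map, Function.comp_def]
    have h1 : ab (gw u43W1) = 1 := by
      rw [hab, prod_word (fun k => ab (gm (Fin.ofNat 5 k))) ((congrArg ab hinv.1).trans (map_inv ab _))
        ((congrArg ab hinv.2).trans (map_inv ab _)) _ (by decide), show wordExp u43W1 = (0, 0) by decide]
      simp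
    have h0 : ab (gw u43W0) = 1 := by
      rw [hab, prod_word (fun k => ab (gm (Fin.ofNat 5 k))) ((congrArg ab hinv.1).trans (map_inv ab _))
        ((congrArg ab hinv.2).trans (map_inv ab _)) _ (by decide), show wordExp u43W0 = (0, 0) by decide]
      simp
    have e : gw u43W1 = gw u43W0 * s := by
      refine Subtype.ext (Subtype.ext ?_)
      show _ = ((gw u43W0 : Matrix.SpecialLinearGroup (Fin 4) F) : Matrix (Fin 4) (Fin 4) F) *
        ((s : Matrix.SpecialLinearGroup (Fin 4) F) : Matrix (Fin 4) (Fin 4) F)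
      rw [hev _ (by decide), hev _ (by decide), hgm, ← Matrix.map_mul, show ((4 : Fin 5) : ℕ) = 4 from rfl, word_eq]
    have h := congrArg ab e
    rw [map_mul, h1, h0, one_mul] at h
    rw [← Abelianization.ker_of]
    exact MonoidHom.mem_ker.2 h.symm

end Cfsg.Agent.SchurMult
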