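import Cfsg.Agent.Lib.Compute.PermCert

/-! The alternating group of degree 6 as a coded permutation group. -/

set_option autoImplicit false

namespace Cfsg.Agent.SchurMult

open Cfsg.Agent.PermCert

/-- Generators. -/
def a6Gens : List Elt :=
  [(181777, 181826),
    (55504, 144488)]

/-- Derived elements. -/
def a6Derived : List (Elt × List ℕ) :=
  [((181826, 181777), [0, 0]),
    ((144488, 55504), [1, 1, 1, 1]),
    ((120968, 146056), [3, 3, 3, 3, 2, 2, 3, 0, 1, 0, 0]),
    ((146056, 120968), [4, 4]),
    ((141128, 87816), [5, 3, 4, 1])]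

/-- Level 0. -/
def a6Level0 : CLevel :=
  (0, [(181777, 181826),
    (55504, 144488),
    (120968, 146056),
    (141128, 87816)],
   [(0, (181896, 181896), 0, 0),
    (1, (181777, 181826), 0, 0),
    (2, (181826, 181777), 1, 0),
    (3, (55427, 143529), 2, 1),
    (5, (140869, 22289), 2, 3),
    (4, (72388, 99681), 3, 1)])

/-- Level 1. -/
def a6Level1 : CLevel :=
  (1, [(55504, 144488),
    (120968, 146056),
    (141128, 87816)],
   [(1, (181896, 181896), 0, 0),
    (2, (55504, 144488), 0, 0),
    (3, (72472, 107360), 1, 0),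
    (5, (50408, 50408), 1, 2),
    (4, (107360, 72472), 2, 0)])

/-- Level 2. -/
def a6Level2 : CLevel :=
  (3, [(120968, 146056),
    (141128, 87816)],
   [(3, (181896, 181896), 0, 0),
    (4, (120968, 146056), 0, 0),
    (5, (146056, 120968), 1, 0),
    (2, (116040, 84680), 1, 1)])

/-- Level 3. -/
def a6Level3 : CLevel :=
  (2, [(141128, 87816)],
   [(2, (181896, 181896), 0, 0),
    (5, (141128, 87816), 0, 0),
    (4, (87816, 141128), 1, 0)])

/-- The stabiliser chain. -/
def a6Levels : List CLevel :=
  [a6Level0, a6Level1, a6Level2, a6Level3]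

theorem a6_cert : checkCert 3 6 a6Gens a6Derived a6Levels = true := by decide +kernel

end Cfsg.Agent.SchurMult
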