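import Cfsg.Agent.Lib.Compute.PermCert

/-! The alternating group of degree 7 as a coded permutation group. -/

set_option autoImplicit false

namespace Cfsg.Agent.SchurMult

open Cfsg.Agent.PermCert

/-- Generators. -/
def a7Gens : List Elt :=
  [(1754641, 1754690),
    (219345, 1455174)]

/-- Derived elements. -/
def a7Derived : List (Elt × List ℕ) :=
  [((1754690, 1754641), [0, 0]),
    ((1455174, 219345), [1, 1, 1, 1, 1, 1]),
    ((444304, 706160), [2, 2, 3, 0, 1, 0, 0]),
    ((476840, 1361584), [2, 2, 3, 3, 0, 1, 1, 0, 0]),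
    ((1361584, 476840), [5, 5]),
    ((739144, 1394568), [6, 4, 5]),
    ((743624, 1455496), [2, 1]),
    ((1455496, 743624), [8, 8, 8, 8]),
    ((1267336, 1468040), [9, 7, 8]),
    ((1468040, 1267336), [10, 10]),
    ((1428616, 1002120), [11, 9, 9, 7, 8, 8])]

/-- Level 0. -/
def a7Level0 : CLevel :=
  (0, [(219345, 1455174),
    (476840, 1361584),
    (743624, 1455496),
    (1267336, 1468040),
    (1428616, 1002120)],
   [(0, (1754760, 1754760), 0, 0),
    (1, (219345, 1455174), 0, 0),
    (2, (289562, 1155637), 1, 0),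
    (5, (59605, 1061998), 1, 1),
    (3, (560483, 856492), 2, 0),
    (6, (330526, 107380), 3, 0),
    (4, (856492, 560483), 4, 0)])

/-- Level 1. -/
def a7Level1 : CLevel :=
  (1, [(476840, 1361584),
    (743624, 1455496),
    (1267336, 1468040),
    (1428616, 1002120)],
   [(1, (1754760, 1754760), 0, 0),
    (5, (476840, 1361584), 0, 0),
    (6, (1361584, 476840), 1, 0),
    (3, (445592, 967344), 1, 3),
    (2, (1628368, 1717352), 2, 1),
    (4, (1627808, 1709736), 2, 2)])

/-- Level 2. -/
def a7Level2 : CLevel :=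
  (2, [(743624, 1455496),
    (1267336, 1468040),
    (1428616, 1002120)],
   [(2, (1754760, 1754760), 0, 0),
    (3, (743624, 1455496), 0, 0),
    (4, (879368, 1158472), 1, 0),
    (6, (702856, 702856), 1, 2),
    (5, (1158472, 879368), 2, 0)])

/-- Level 3. -/
def a7Level3 : CLevel :=
  (4, [(1267336, 1468040),
    (1428616, 1002120)],
   [(4, (1754760, 1754760), 0, 0),
    (5, (1267336, 1468040), 0, 0),
    (6, (1468040, 1267336), 1, 0),
    (3, (1227912, 977032), 1, 1)])

/-- Level 4. -/
def a7Level4 : CLevel :=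
  (3, [(1428616, 1002120)],
   [(3, (1754760, 1754760), 0, 0),
    (6, (1428616, 1002120), 0, 0),
    (5, (1002120, 1428616), 1, 0)])

/-- The stabiliser chain. -/
def a7Levels : List CLevel :=
  [a7Level0, a7Level1, a7Level2, a7Level3, a7Level4]

theorem a7_cert : checkCert 3 7 a7Gens a7Derived a7Levels = true := by decide +kernel

end Cfsg.Agent.SchurMult
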