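import Cfsg.Agent.Lib.SchurMult.A7I2Data
import Cfsg.Agent.Lib.SchurMult.A7Group

/-! Kernel checks of the induced extension of A7 for the prime 2. -/

set_option autoImplicit false
set_option maxRecDepth 100000

namespace Cfsg.Agent.SchurMult

open Cfsg.Agent.PermCert Cfsg.Agent.PermInd

theorem a7I2_base : baseOK 3 7 SchurMult.a7Gens SchurMult.a7Levels a7I2Data = true := by decide +kernel

theorem a7I2_words0 : wordsOK 3 7 SchurMult.a7Gens a7I2Data a7I2Test0 = true := by decide +kernel

theorem a7I2_wit0 : allBelow (witOK a7I2Data a7I2Test0) 315 = true := by decide +kernel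

theorem a7I2_span : spanOK a7I2Data = true := by decide +kernel

theorem a7I2_cos0 : allBelow (fun i => cosetOK 3 7 SchurMult.a7Gens a7I2Data (0 + i)) 256 = true := by decide +kernel

theorem a7I2_cos1 : allBelow (fun i => cosetOK 3 7 SchurMult.a7Gens a7I2Data (256 + i)) 59 = true := by decide +kernel

theorem a7I2_cosets : ∀ i < a7I2Data.m, cosetOK 3 7 SchurMult.a7Gens a7I2Data i = true := by
  intro i hi
  replace hi : i < 315 := hi
  rcases Nat.lt_or_ge i 256 with h | h
  · have := allBelow_spec _ _ a7I2_cos0 (i - 0) (by omega)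
    rwa [Nat.add_sub_cancel' (by omega : 0 ≤ i)] at this
  have := allBelow_spec _ _ a7I2_cos1 (i - 256) (by omega)
  rwa [Nat.add_sub_cancel' (by omega : 256 ≤ i)] at this

theorem a7I2_wits : ∀ T ∈ a7I2Data.tests, ∀ i < a7I2Data.m, witOK a7I2Data T i = true := by
  intro T hT
  simp only [a7I2Data, List.mem_cons, List.not_mem_nil, or_false] at hT
  rcases hT with rfl
  · exact allBelow_spec _ _ a7I2_wit0

theorem a7I2_words : ∀ T ∈ a7I2Data.tests, wordsOK 3 7 SchurMult.a7Gens a7I2Data T = true := by
  intro T hT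
  simp only [a7I2Data, List.mem_cons, List.not_mem_nil, or_false] at hT
  rcases hT with rfl
  · exact a7I2_words0

end Cfsg.Agent.SchurMult
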