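import Cfsg.Agent.Lib.SchurMult.A7P3Data
import Cfsg.Agent.Lib.SchurMult.A7Group

/-! Kernel checks of the 3-part certificate of A7. -/

set_option autoImplicit false

namespace Cfsg.Agent.SchurMult

open Cfsg.Agent.PermCert Cfsg.Agent.PermSchur

theorem a7P3_base : schurBaseOK 3 7 a7P3Data SchurMult.a7Levels = true := by decide +kernel

theorem a7P3_rows : rowsOK a7P3Data = true := by decide +kernel

theorem a7P3_rels : a7P3Data.rels.all (fun r => match r with
    | .assoc a b c => (a ++ b ++ c).all (fun q => Nat.blt q a7P3Data.a.length) | .fuse .. => true) = true := by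
  decide +kernel

theorem a7P3_derived : derivedOK 3 7 a7P3Data = true := by decide +kernel

theorem a7P3_orders : certOrder SchurMult.a7Levels / certOrder a7P3Data.levels = 280 := by decide +kernel

theorem a7P3_ext : a7P3Data.ext.length + 1 = 3 := by decide +kernel

end Cfsg.Agent.SchurMult
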