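import Cfsg.Agent.Lib.SchurMult.Surj
import Cfsg.Agent.Lib.Compute.IndSpec
import Cfsg.Agent.Lib.SchurMult.A6Group
import Cfsg.Agent.Lib.SchurMult.A7Group
import Cfsg.Agent.Lib.SchurMult.A6P2Cert
import Cfsg.Agent.Lib.SchurMult.A6P3Cert
import Cfsg.Agent.Lib.SchurMult.A6P5Cert
import Cfsg.Agent.Lib.SchurMult.A7P2Cert
import Cfsg.Agent.Lib.SchurMult.A7P3Cert
import Cfsg.Agent.Lib.SchurMult.A7P5Cert
import Cfsg.Agent.Lib.SchurMult.A7P7Cert
import Cfsg.Agent.Lib.SchurMult.A6I2Cert
import Cfsg.Agent.Lib.SchurMult.A6I3Cert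
import Cfsg.Agent.Lib.SchurMult.A7I2Cert
import Cfsg.Agent.Lib.SchurMult.A7I3Cert
import Mathlib.GroupTheory.SpecificGroups.Alternating
import Mathlib.GroupTheory.Perm.Sign

/-! The multipliers of the alternating groups of degrees six and seven. -/

set_option autoImplicit false

namespace Cfsg.Agent.SchurMult

open Cfsg.Agent.PermCert

/-- A coded group of even permutations of the right order is the alternating group. -/
theorem genGroup_eq_alt {n : ℕ} [NeZero n] {w : ℕ} {gens : List Elt} {derived : List (Elt × List ℕ)}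
    {levels : List CLevel} (hc : checkCert w n gens derived levels = true)
    (hs : ∀ e ∈ gens, Equiv.Perm.sign (toPerm w n e) = 1)
    (ho : Nat.card (alternatingGroup (Fin n)) ≤ certOrder levels) : genGroup w n gens = alternatingGroup (Fin n) := by
  refine Subgroup.eq_of_le_of_card_ge ((Subgroup.closure_le _).2 fun σ hσ => ?_) (by rwa [cert_card hc])
  obtain ⟨e, he, rfl⟩ := List.mem_map.1 hσ
  exact Equiv.Perm.mem_alternatingGroup.2 (hs e he)

theorem a6_eq : genGroup 3 6 a6Gens = alternatingGroup (Fin 6) := by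
  refine genGroup_eq_alt a6_cert (by decide +kernel) ?_
  have h := two_mul_nat_card_alternatingGroup (α := Fin 6)
  rw [Nat.card_perm, Nat.card_fin] at h
  rw [show certOrder a6Levels = 360 by decide +kernel]
  have : Nat.factorial 6 = 720 := rfl
  omega

theorem a7_eq : genGroup 3 7 a7Gens = alternatingGroup (Fin 7) := by
  refine genGroup_eq_alt a7_cert (by decide +kernel) ?_
  have h := two_mul_nat_card_alternatingGroup (α := Fin 7)
  rw [Nat.card_perm, Nat.card_fin] at h
  rw [show certOrder a7Levels = 2520 by decide +kernel]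
  have : Nat.factorial 7 = 5040 := rfl
  omega

variable {n : ℕ} {w : ℕ} {gens : List Elt}

/-- An induced extension seen over the alternating group. -/
theorem alt_extension (he : genGroup w n gens = alternatingGroup (Fin n)) {q r : ℕ} [NeZero q]
    (h : ∃ (X : Type) (_ : Group X) (σ : X →* genGroup w n gens), Function.Surjective σ ∧
      σ.ker ≤ Subgroup.center X ∧
      ∃ v : ↥(σ.ker ⊓ commutator X) →* Multiplicative (ZMod q × ZMod r), Function.Surjective v) :
    ∃ f : Schur.Multiplier (alternatingGroup (Fin n)) →* Multiplicative (ZMod q × ZMod r),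
      Function.Surjective f := by
  obtain ⟨X, iX, σ, hs, hc, v, hv⟩ := h
  have hk : ((MulEquiv.subgroupCongr he).toMonoidHom.comp σ).ker = σ.ker := by
    ext x
    simp [MonoidHom.mem_ker]
  exact exists_surj ((MulEquiv.subgroupCongr he).toMonoidHom.comp σ)
    ((MulEquiv.subgroupCongr he).surjective.comp hs) (hk.le.trans hc)
    (v.comp (Subgroup.inclusion (inf_le_inf_right _ hk.le))) (hv.comp fun z => ⟨⟨z, hk.ge z.2.1, z.2.2⟩, rfl⟩)

theorem a6_surj2 : ∃ f : Schur.Multiplier (alternatingGroup (Fin 6)) →* Multiplicative (ZMod 2 × ZMod 1),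
    Function.Surjective f :=
  alt_extension (q := 2) (r := 1) a6_eq
    (PermInd.exists_extension a6_cert a6I2_base a6I2_cosets a6I2_wits a6I2_words a6I2_span)

theorem a6_surj3 : ∃ f : Schur.Multiplier (alternatingGroup (Fin 6)) →* Multiplicative (ZMod 3 × ZMod 1),
    Function.Surjective f :=
  alt_extension (q := 3) (r := 1) a6_eq
    (PermInd.exists_extension a6_cert a6I3_base a6I3_cosets a6I3_wits a6I3_words a6I3_span)

theorem a7_surj2 : ∃ f : Schur.Multiplier (alternatingGroup (Fin 7)) →* Multiplicative (ZMod 2 × ZMod 1),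
    Function.Surjective f :=
  alt_extension (q := 2) (r := 1) a7_eq
    (PermInd.exists_extension a7_cert a7I2_base a7I2_cosets a7I2_wits a7I2_words a7I2_span)

theorem a7_surj3 : ∃ f : Schur.Multiplier (alternatingGroup (Fin 7)) →* Multiplicative (ZMod 3 × ZMod 1),
    Function.Surjective f :=
  alt_extension (q := 3) (r := 1) a7_eq
    (PermInd.exists_extension a7_cert a7I3_base a7I3_cosets a7I3_wits a7I3_words a7I3_span)

theorem a6_card_le : Nat.card (Schur.Multiplier (alternatingGroup (Fin 6))) ≤ 6 := by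
  refine (card_le (alternatingGroup (Fin 6)).subtype (Subgroup.subtype_injective _)
    (by rw [Subgroup.range_subtype, a6_eq]) [(45, 2), (40, 3), (72, 1)] ?_ (by decide)).trans (by decide)
  intro i hi
  simp only [List.mem_cons, List.not_mem_nil, or_false] at hi
  rcases hi with rfl | rfl | rfl
  · exact certified_of a6_cert a6P2_base a6P2_rows a6P2_rels a6P2_derived a6P2_orders a6P2_ext
  · exact certified_of a6_cert a6P3_base a6P3_rows a6P3_rels a6P3_derived a6P3_orders a6P3_ext
  · exact certified_of a6_cert a6P5_base a6P5_rows a6P5_rels a6P5_derived a6P5_orders a6P5_ext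

theorem a7_card_le : Nat.card (Schur.Multiplier (alternatingGroup (Fin 7))) ≤ 6 := by
  refine (card_le (alternatingGroup (Fin 7)).subtype (Subgroup.subtype_injective _)
    (by rw [Subgroup.range_subtype, a7_eq]) [(315, 2), (280, 3), (504, 1), (360, 1)] ?_ (by decide)).trans
    (by decide)
  intro i hi
  simp only [List.mem_cons, List.not_mem_nil, or_false] at hi
  rcases hi with rfl | rfl | rfl | rfl
  · exact certified_of a7_cert a7P2_base a7P2_rows a7P2_rels a7P2_derived a7P2_orders a7P2_ext
  · exact certified_of a7_cert a7P3_base a7P3_rows a7P3_rels a7P3_derived a7P3_orders a7P3_ext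
  · exact certified_of a7_cert a7P5_base a7P5_rows a7P5_rels a7P5_derived a7P5_orders a7P5_ext
  · exact certified_of a7_cert a7P7_base a7P7_rows a7P7_rels a7P7_derived a7P7_orders a7P7_ext

/-- Quotients of orders two and three and a bound of six. -/
theorem cyclic_six {Q : Type} [Group Q] [Finite Q] (hle : Nat.card (Schur.Multiplier Q) ≤ 6)
    (h2 : ∃ f : Schur.Multiplier Q →* Multiplicative (ZMod 2 × ZMod 1), Function.Surjective f)
    (h3 : ∃ f : Schur.Multiplier Q →* Multiplicative (ZMod 3 × ZMod 1), Function.Surjective f) :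
    Cfsg.HasCyclicSchurMultiplier Q 6 := by
  obtain ⟨f, hf⟩ := h2
  obtain ⟨g, hg⟩ := h3
  exact cyclic_of 6 hle (Nat.Coprime.mul_dvd_of_dvd_of_dvd (show Nat.Coprime 2 3 by decide)
    (dvd_exponent hf) (dvd_exponent hg))

end Cfsg.Agent.SchurMult
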