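import Cfsg.Agent.Lib.SchurMult.O82Group
import Cfsg.Agent.Lib.SchurMult.O82Data
import Cfsg.Agent.Lib.Orthogonal.POmega
import Cfsg.Agent.S0293
import Mathlib.FieldTheory.Finite.GaloisField

/-! The coded action of the orthogonal group of plus type in dimension eight over two elements. -/

set_option autoImplicit false
set_option maxRecDepth 100000

namespace Cfsg.Agent.SchurMult

open Cfsg Cfsg.Agent.PermCert Matrix
open scoped commutatorElement

/-- Coordinates. -/
abbrev I8 := Fin 4 ⊕ Fin 4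

/-- Bit position of a coordinate. -/
def pos8 : I8 → ℕ
  | .inl i => i
  | .inr i => 4 + i

/-- The vector of a code. -/
def vec8 (c : ℕ) : I8 → ZMod 2 := fun k => if c.testBit (pos8 k) then 1 else 0

/-- The vector of a coded point. -/
def o82Vec (i : Fin 120) : I8 → ZMod 2 := vec8 (o82Vecs.getD i 0)

/-- A matrix from its columns. -/
def mat8 (m : ℕ) : Matrix I8 I8 (ZMod 2) := Matrix.of fun i j => vec8 ((m >>> (8 * pos8 j)) % 256) i

/-- All the matrices of the certificate. -/
def o82All : List ℕ := o82Roots ++ o82RootWit.map Prod.fst ++ o82RootWit.map Prod.snd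

theorem o82_inv : ∀ m ∈ o82All, mat8 m * mat8 m = 1 := by decide +kernel

theorem o82_iso : ∀ m ∈ o82All, ∀ v : I8 → ZMod 2,
    quadFormPlus 4 (ZMod 2) (mat8 m *ᵥ v) = quadFormPlus 4 (ZMod 2) v := by decide +kernel

theorem o82_wit : ∀ k : Fin 8, mat8 (o82Roots.getD k 0) =
    mat8 (o82RootWit.getD k (0, 0)).1 * mat8 (o82RootWit.getD k (0, 0)).2 *
      mat8 (o82RootWit.getD k (0, 0)).1 * mat8 (o82RootWit.getD k (0, 0)).2 := by decide +kernel

/-- The value of a word in the root elements. -/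
def ev8 : List ℕ → Matrix I8 I8 (ZMod 2)
  | [] => 1
  | k :: w => mat8 (o82Roots.getD k 0) * ev8 w

theorem o82_words_lt : ∀ w ∈ o82Words, ∀ k ∈ w, k < 8 := by decide +kernel

theorem o82_act : ∀ (g : Fin 2) (i : Fin 120), ev8 (o82Words.getD g []) *ᵥ o82Vec i =
    o82Vec (toPerm 7 120 (o82Gens.getD g (0, 0)) i) := by decide +kernel

theorem o82Vec_inj : ∀ i j : Fin 120, o82Vec i = o82Vec j → i = j := by decide +kernel

theorem o82Vec_q : ∀ i : Fin 120, quadFormPlus 4 (ZMod 2) (o82Vec i) = 1 := by decide +kernel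

theorem o82Vec_surj : ∀ v : I8 → ZMod 2, quadFormPlus 4 (ZMod 2) v = 1 → ∃ i, o82Vec i = v := by
  decide +kernel

theorem basis_sum : ∀ k : I8, ∃ i j : Fin 120, Pi.single k 1 = o82Vec i + o82Vec j := by decide +kernel

variable {F : Type*} [Field F] [Fintype F]

/-- The coded action. -/
theorem exists_o82_hom (hF : Fintype.card F = 2) :
    ∃ φ : Omega F (quadFormPlus 4 F) →* Equiv.Perm (Fin 120), Function.Injective φ ∧
      φ.range = genGroup 7 120 o82Gens ∧ Subgroup.center (Omega F (quadFormPlus 4 F)) = ⊥ := by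
  classical
  obtain ⟨f⟩ : Nonempty (ZMod 2 ≃+* F) := ⟨FiniteField.ringEquivOfCardEq ((ZMod.card 2).trans hF.symm)⟩
  have hQf : ∀ v : I8 → ZMod 2, quadFormPlus 4 F (⇑f ∘ v) = f (quadFormPlus 4 (ZMod 2) v) := fun v => by
    simp [quadFormPlus, map_sum, map_mul]
  have hf2 : ∀ x : F, x ≠ 0 → f.symm x = 1 := fun x hx =>
    (by decide : ∀ y : ZMod 2, y ≠ 0 → y = 1) _ fun h => hx (by simpa using congrArg f h)
  let O := isometryGroup F (quadFormPlus 4 F)
  have hmv : ∀ (M : Matrix I8 I8 (ZMod 2)) (v : I8 → ZMod 2), M.map f *ᵥ (⇑f ∘ v) = ⇑f ∘ (M *ᵥ v) :=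
    fun M v => funext fun r => (RingHom.map_mulVec f.toRingHom M v r).symm
  have hmem : ∀ m ∈ o82All, ∃ g : O, ((g : GL I8 F) : Matrix I8 I8 F) = (mat8 m).map f := by
    intro m hm
    have h1 : (mat8 m).map f * (mat8 m).map f = 1 := by
      rw [← Matrix.map_mul, o82_inv m hm]; exact Matrix.map_one _ (map_zero f) (map_one f)
    refine ⟨⟨⟨(mat8 m).map f, (mat8 m).map f, h1, h1⟩, fun u v => ?_⟩, rfl⟩
    show quadFormPlus 4 F ((mat8 m).map f *ᵥ u) = quadFormPlus 4 F u
    have hu : u = ⇑f ∘ (⇑f.symm ∘ u) := funext fun k => (f.apply_symm_apply (u k)).symm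
    rw [hu, hmv, hQf, hQf, o82_iso m hm]
  choose gm hgm using hmem
  let act : O → (I8 → F) → (I8 → F) := fun g v => ((g : GL I8 F) : Matrix I8 I8 F) *ᵥ v
  have act_mul : ∀ g g' v, act (g * g') v = act g (act g' v) := fun g g' v => by simp [act, Matrix.mulVec_mulVec]
  have act_one : ∀ v, act 1 v = v := fun v => by simp [act]
  have act_Q : ∀ g v, quadFormPlus 4 F (act g v) = quadFormPlus 4 F v := fun g v => g.2 v v
  -- the nonsingular vectors
  let Ω := {v : I8 → F // quadFormPlus 4 F v ≠ 0}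
  let p : Fin 120 → Ω := fun i => ⟨⇑f ∘ o82Vec i, by rw [hQf, o82Vec_q, map_one]; exact one_ne_zero⟩
  have hp : Function.Bijective p := by
    refine ⟨fun i j e => o82Vec_inj i j (f.injective.comp_left (congrArg Subtype.val e)), fun v => ?_⟩
    obtain ⟨i, hi⟩ := o82Vec_surj (⇑f.symm ∘ v.1) (by
      have h := hQf (⇑f.symm ∘ v.1)
      rw [show ⇑f ∘ ⇑f.symm ∘ v.1 = v.1 from funext fun k => f.apply_symm_apply _] at h
      rw [← f.symm_apply_apply (quadFormPlus 4 (ZMod 2) (⇑f.symm ∘ v.1)), ← h]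
      exact hf2 _ v.2)
    refine ⟨i, Subtype.ext (funext fun k => ?_)⟩
    show f (o82Vec i k) = _
    rw [hi]
    exact f.apply_symm_apply _
  let E : Fin 120 ≃ Ω := Equiv.ofBijective p hp
  let A : O →* Equiv.Perm Ω :=
    MonoidHom.mk' (fun g =>
      { toFun := fun v => ⟨act g v.1, by rw [act_Q]; exact v.2⟩
        invFun := fun v => ⟨act g⁻¹ v.1, by rw [act_Q]; exact v.2⟩
        left_inv := fun v => Subtype.ext (by simp [← act_mul, act_one])
        right_inv := fun v => Subtype.ext (by simp [← act_mul, act_one]) })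
      (fun g g' => Equiv.ext fun v => Subtype.ext (act_mul g g' v.1))
  let ψ : O →* Equiv.Perm (Fin 120) := E.symm.permCongrHom.toMonoidHom.comp A
  have hψ : Function.Injective ψ := by
    refine (E.symm.permCongrHom.injective).comp ((injective_iff_map_eq_one A).2 fun g hg => ?_)
    refine Subtype.ext (Units.ext (Matrix.ext_of_mulVec_single fun k => ?_))
    obtain ⟨i, j, hij⟩ := basis_sum k
    have hfix : ∀ i, act g (⇑f ∘ o82Vec i) = ⇑f ∘ o82Vec i := fun i =>
      congrArg Subtype.val (Equiv.ext_iff.1 hg (p i))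
    have hk : (Pi.single k 1 : I8 → F) = ⇑f ∘ o82Vec i + ⇑f ∘ o82Vec j := funext fun r => by
      have h := congrArg f (congrFun hij r)
      rw [Pi.add_apply, map_add] at h
      rw [Pi.add_apply, Function.comp_apply, Function.comp_apply, ← h]
      rcases eq_or_ne r k with e | e <;> simp [e]
    show act g (Pi.single k 1) = ((1 : GL I8 F) : Matrix I8 I8 F) *ᵥ Pi.single k 1
    rw [Units.val_one, Matrix.one_mulVec, hk]
    show ((g : GL I8 F) : Matrix I8 I8 F) *ᵥ _ = _
    rw [Matrix.mulVec_add]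
    exact congrArg₂ (· + ·) (hfix i) (hfix j)
  -- the root elements lie in the derived group
  have hroot : ∀ k : Fin 8, ∃ x : Omega F (quadFormPlus 4 F),
      (((x : O) : GL I8 F) : Matrix I8 I8 F) = (mat8 (o82Roots.getD k 0)).map f := by
    intro k
    have hr : k.val < o82Roots.length := k.2
    have hl : k.val < o82RootWit.length := k.2
    have h1 : (o82RootWit.getD k (0, 0)).1 ∈ o82All := by
      rw [List.getD_eq_getElem _ _ hl, o82All]
      exact List.mem_append_left _ (List.mem_append_right _ (List.mem_map_of_mem (List.getElem_mem hl)))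
    have h2 : (o82RootWit.getD k (0, 0)).2 ∈ o82All := by
      rw [List.getD_eq_getElem _ _ hl, o82All]
      exact List.mem_append_right _ (List.mem_map_of_mem (List.getElem_mem hl))
    refine ⟨⟨⁅gm _ h1, gm _ h2⁆, Subgroup.commutator_mem_commutator (Subgroup.mem_top _) (Subgroup.mem_top _)⟩, ?_⟩
    have hi : ∀ m (hm : m ∈ o82All), (gm m hm)⁻¹ = gm m hm := fun m hm => by
      refine inv_eq_of_mul_eq_one_right (Subtype.ext (Units.ext ?_))
      show ((gm m hm : GL I8 F) : Matrix I8 I8 F) * ((gm m hm : GL I8 F) : Matrix I8 I8 F) = 1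
      rw [hgm, ← Matrix.map_mul, o82_inv m hm]
      exact Matrix.map_one _ (map_zero f) (map_one f)
    show (((⁅gm _ h1, gm _ h2⁆ : O) : GL I8 F) : Matrix I8 I8 F) = _
    rw [commutatorElement_def, hi, hi, o82_wit, Matrix.map_mul, Matrix.map_mul, Matrix.map_mul, ← hgm _ h1,
      ← hgm _ h2]
    rfl
  choose xr hxr using hroot
  let ψΩ : Omega F (quadFormPlus 4 F) →* Equiv.Perm (Fin 120) := ψ.comp (Omega F (quadFormPlus 4 F)).subtype
  have hgen : ∀ g : Fin 2, toPerm 7 120 (o82Gens.getD g (0, 0)) ∈ ψΩ.range := by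
    intro g
    have hw : ∀ w : List ℕ, (∀ k ∈ w, k < 8) → ∃ x : Omega F (quadFormPlus 4 F),
        (((x : O) : GL I8 F) : Matrix I8 I8 F) = (ev8 w).map f := by
      intro w
      induction w with
      | nil => intro _; exact ⟨1, (Matrix.map_one _ (map_zero f) (map_one f)).symm⟩
      | cons k w ih =>
        intro hk
        obtain ⟨x, hx⟩ := ih fun y hy => hk y (List.mem_cons_of_mem _ hy)
        refine ⟨xr ⟨k, hk k List.mem_cons_self⟩ * x, ?_⟩
        show (((xr _ : Omega F _) : O) : GL I8 F).1 * (((x : O) : GL I8 F) : Matrix I8 I8 F) = _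
        rw [hxr, hx, ev8, Matrix.map_mul]
    obtain ⟨x, hx⟩ := hw (o82Words.getD g []) (by
      rw [List.getD_eq_getElem _ _ (show (g : ℕ) < o82Words.length from g.2)]
      exact o82_words_lt _ (List.getElem_mem _))
    refine ⟨x, Equiv.ext fun i => E.injective (Subtype.ext ?_)⟩
    show (E (E.symm (A (x : O) (E i))) : Ω).1 = _
    rw [Equiv.apply_symm_apply]
    show (((x : O) : GL I8 F) : Matrix I8 I8 F) *ᵥ (⇑f ∘ o82Vec i) = ⇑f ∘ o82Vec (toPerm 7 120 _ i)
    rw [hx, hmv, o82_act]
  have hle : genGroup 7 120 o82Gens ≤ ψΩ.range := by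
    refine (Subgroup.closure_le _).2 fun σ hσ => ?_
    obtain ⟨e, he, rfl⟩ := List.mem_map.1 hσ
    rw [show o82Gens = [o82Gens.getD 0 (0, 0), o82Gens.getD 1 (0, 0)] from rfl] at he
    simp only [List.mem_cons, List.not_mem_nil, or_false] at he
    rcases he with rfl | rfl
    exacts [hgen 0, hgen 1]
  have hinj : Function.Injective ψΩ := hψ.comp Subtype.val_injective
  have hQ := Orth.qPlus_nondeg (F := F) 4
  have h2 : (2 : F) = 0 := by
    rw [← map_ofNat f 2, show (2 : ZMod 2) = 0 by decide, map_zero]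
  have hz : Subgroup.center (Omega F (quadFormPlus 4 F)) = ⊥ := by
    have := Orth.card_center_one hQ (by simp) (Or.inl h2)
    rw [Orth.coe_qPlus] at this
    exact Subgroup.card_eq_one.1 this
  have hcard : Nat.card (Omega F (quadFormPlus 4 F)) = 174182400 := by
    have h := S0293.result hF 4 le_rfl
    have e : Nat.card (Omega F (quadFormPlus 4 F)) = Nat.card (Cfsg.POmega F (quadFormPlus 4 F)) := by
      rw [Subgroup.card_eq_card_quotient_mul_card_subgroup (Subgroup.center (Omega F (quadFormPlus 4 F))),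
        Subgroup.card_eq_one.2 hz, mul_one]
    rw [e]
    rw [show Nat.gcd 4 (2 ^ 4 - 1) = 1 by rfl, one_mul] at h
    rw [h]
    norm_num [Finset.prod_range_succ]
  refine ⟨ψΩ, hinj, ?_, hz⟩
  exact (Subgroup.eq_of_le_of_card_ge hle (by
    rw [cert_card o82_cert, o82_order, ← Nat.card_congr (MonoidHom.ofInjective hinj).toEquiv, hcard])).symm

end Cfsg.Agent.SchurMult
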