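import Cfsg.Agent.Lib.SchurMult.Sp62Group
import Cfsg.Agent.Lib.Classical.Symplectic
import Mathlib.LinearAlgebra.SymplecticGroup
import Mathlib.FieldTheory.Finite.GaloisField

/-! The coded action of the six-dimensional symplectic group over two elements on the nonzero vectors. -/

set_option autoImplicit false

namespace Cfsg.Agent.SchurMult

open Cfsg.Agent.PermCert Matrix

/-- Bit position of a coordinate. -/
def bitPos : Fin 3 ⊕ Fin 3 → ℕ
  | .inl i => i
  | .inr i => 3 + i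

/-- The vector with a given code. -/
def spVec (c : ℕ) (k : Fin 3 ⊕ Fin 3) : ZMod 2 := if c.testBit (bitPos k) then 1 else 0

/-- Matrix with coded columns. -/
def spMat (cols : List ℕ) : Matrix (Fin 3 ⊕ Fin 3) (Fin 3 ⊕ Fin 3) (ZMod 2) :=
  Matrix.of fun i j => spVec (cols.getD (bitPos j) 0) i

/-- Generator 0. -/
def spA0 : Matrix (Fin 3 ⊕ Fin 3) (Fin 3 ⊕ Fin 3) (ZMod 2) := spMat [44, 38, 57, 47, 60, 36]

theorem spA0_mem : spA0 * J (Fin 3) (ZMod 2) * spA0ᵀ = J (Fin 3) (ZMod 2) := by decide +kernel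

theorem spA0_act : ∀ i : Fin 63, spA0 *ᵥ spVec (i + 1) = spVec (toPerm 6 63 (sp62Gens.getD 0 (0, 0)) i + 1) := by
  decide +kernel

/-- Generator 1. -/
def spA1 : Matrix (Fin 3 ⊕ Fin 3) (Fin 3 ⊕ Fin 3) (ZMod 2) := spMat [21, 41, 27, 53, 10, 57]

theorem spA1_mem : spA1 * J (Fin 3) (ZMod 2) * spA1ᵀ = J (Fin 3) (ZMod 2) := by decide +kernel

theorem spA1_act : ∀ i : Fin 63, spA1 *ᵥ spVec (i + 1) = spVec (toPerm 6 63 (sp62Gens.getD 1 (0, 0)) i + 1) := by
  decide +kernel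

theorem spVec_inj : ∀ i j : Fin 63, spVec (i + 1) = spVec (j + 1) → i = j := by decide +kernel

theorem spVec_ne : ∀ i : Fin 63, spVec (i + 1) ≠ 0 := by decide +kernel

theorem spVec_surj : ∀ v : Fin 3 ⊕ Fin 3 → ZMod 2, v ≠ 0 → ∃ i : Fin 63, spVec (i + 1) = v := by decide +kernel

variable {F : Type*} [Field F] [Fintype F]

/-- The coded action on nonzero vectors. -/
theorem exists_sp62_hom (hF : Fintype.card F = 2) :
    ∃ φ : symplecticGroup (Fin 3) F →* Equiv.Perm (Fin 63), Function.Injective φ ∧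
      φ.range = genGroup 6 63 sp62Gens := by
  obtain ⟨f⟩ : Nonempty (ZMod 2 ≃+* F) := ⟨FiniteField.ringEquivOfCardEq ((ZMod.card 2).trans hF.symm)⟩
  let Ω := {v : Fin 3 ⊕ Fin 3 → F // v ≠ 0}
  have hz : ∀ v : Fin 3 ⊕ Fin 3 → ZMod 2, (⇑f ∘ v = 0) → v = 0 := fun v hv => funext fun k =>
    f.injective ((congrFun hv k).trans (map_zero f).symm)
  let p : Fin 63 → Ω := fun i => ⟨⇑f ∘ spVec (i + 1), fun e => spVec_ne i (hz _ e)⟩
  have hp : Function.Bijective p := by
    refine ⟨fun i j e => spVec_inj i j (f.injective.comp_left (congrArg Subtype.val e)), fun v => ?_⟩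
    obtain ⟨i, hi⟩ := spVec_surj (⇑f.symm ∘ v.1) fun e => v.2 (funext fun k => by
      simpa using congrArg f (congrFun e k))
    refine ⟨i, Subtype.ext (funext fun k => ?_)⟩
    show f (spVec (i + 1) k) = _
    rw [hi]
    simp
  let E : Fin 63 ≃ Ω := Equiv.ofBijective p hp
  have hne : ∀ (g : symplecticGroup (Fin 3) F) (v : Ω), (g : Matrix (Fin 3 ⊕ Fin 3) (Fin 3 ⊕ Fin 3) F) *ᵥ v.1 ≠ 0 := by
    intro g v e
    apply v.2
    have := congrArg (fun w => ((g⁻¹ : symplecticGroup (Fin 3) F) : Matrix (Fin 3 ⊕ Fin 3) (Fin 3 ⊕ Fin 3) F) *ᵥ w) e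
    simpa [Matrix.mulVec_mulVec, ← Submonoid.coe_mul] using this
  let A : symplecticGroup (Fin 3) F →* Equiv.Perm Ω :=
    MonoidHom.mk' (fun g =>
      { toFun := fun v => ⟨(g : Matrix (Fin 3 ⊕ Fin 3) (Fin 3 ⊕ Fin 3) F) *ᵥ v.1, hne g v⟩
        invFun := fun v => ⟨((g⁻¹ : symplecticGroup (Fin 3) F) : Matrix (Fin 3 ⊕ Fin 3) (Fin 3 ⊕ Fin 3) F) *ᵥ v.1,
          hne g⁻¹ v⟩
        left_inv := fun v => Subtype.ext (by simp [Matrix.mulVec_mulVec, ← Submonoid.coe_mul])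
        right_inv := fun v => Subtype.ext (by simp [Matrix.mulVec_mulVec, ← Submonoid.coe_mul]) })
      (fun g g' => Equiv.ext fun v => Subtype.ext (by simp [Matrix.mulVec_mulVec]))
  let φ : symplecticGroup (Fin 3) F →* Equiv.Perm (Fin 63) := E.symm.permCongrHom.toMonoidHom.comp A
  have hJ : (J (Fin 3) (ZMod 2)).map f = J (Fin 3) F := by
    ext i j
    rcases i with i | i <;> rcases j with j | j <;>
      simp [Matrix.J, Matrix.one_apply, apply_ite (f : ZMod 2 → F)] <;> split_ifs <;>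
        simp [show (-1 : F) = 1 by rw [← map_one f, ← map_neg f]; rfl]
  have key : ∀ (M : Matrix (Fin 3 ⊕ Fin 3) (Fin 3 ⊕ Fin 3) (ZMod 2)) (e : Elt),
      M * J (Fin 3) (ZMod 2) * Mᵀ = J (Fin 3) (ZMod 2) →
      (∀ i : Fin 63, M *ᵥ spVec (i + 1) = spVec (toPerm 6 63 e i + 1)) → toPerm 6 63 e ∈ φ.range := by
    intro M e hM he
    have hmem : M.map f ∈ symplecticGroup (Fin 3) F := by
      rw [SymplecticGroup.mem_iff, ← hJ, ← Matrix.transpose_map, ← Matrix.map_mul, ← Matrix.map_mul, hM]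
    refine ⟨⟨M.map f, hmem⟩, Equiv.ext fun i => E.injective (Subtype.ext ?_)⟩
    show (E (E.symm (A _ (E i))) : Ω).1 = _
    rw [Equiv.apply_symm_apply]
    show M.map f *ᵥ (⇑f ∘ spVec (i + 1)) = ⇑f ∘ spVec (toPerm 6 63 e i + 1)
    rw [← he i]
    funext k
    exact (RingHom.map_mulVec f.toRingHom M (spVec (i + 1)) k).symm
  refine ⟨φ, E.symm.permCongrHom.injective.comp ((injective_iff_map_eq_one A).2 fun g hg => ?_), ?_⟩
  · refine Subtype.ext (Matrix.ext_of_mulVec_single fun k => ?_)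
    have h1 : (Pi.single k 1 : Fin 3 ⊕ Fin 3 → F) ≠ 0 := by simp
    refine (congrArg Subtype.val (Equiv.ext_iff.1 hg ⟨_, h1⟩)).trans ?_
    show _ = (1 : Matrix (Fin 3 ⊕ Fin 3) (Fin 3 ⊕ Fin 3) F) *ᵥ _
    rw [Matrix.one_mulVec]
    rfl
  · symm
    have hle : genGroup 6 63 sp62Gens ≤ φ.range := by
      refine (Subgroup.closure_le _).2 fun σ hσ => ?_
      obtain ⟨e, he, rfl⟩ := List.mem_map.1 hσ
      rw [show sp62Gens = [sp62Gens.getD 0 (0, 0), sp62Gens.getD 1 (0, 0)] from rfl] at he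
      simp only [List.mem_cons, List.not_mem_nil, or_false] at he
      rcases he with rfl | rfl
      exacts [key _ _ spA0_mem spA0_act, key _ _ spA1_mem spA1_act]
    refine Subgroup.eq_of_le_of_card_ge hle ?_
    rw [cert_card sp62_cert, sp62_order]
    refine (Nat.card_le_card_of_surjective φ.rangeRestrict φ.rangeRestrict_surjective).trans ?_
    rw [ClassicalSp.card_sp, Nat.card_eq_fintype_card, hF]
    decide

end Cfsg.Agent.SchurMult
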