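import Cfsg.Agent.Lib.SchurMult.SP62P5Data
import Cfsg.Agent.Lib.SchurMult.Sp62Group

/-! Kernel checks of the 5-part certificate of SP62. -/

set_option autoImplicit false

namespace Cfsg.Agent.SchurMult

open Cfsg.Agent.PermCert Cfsg.Agent.PermSchur

theorem sp62P5_base : schurBaseOK 6 63 sp62P5Data SchurMult.sp62Levels = true := by decide +kernel

theorem sp62P5_rows : rowsOK sp62P5Data = true := by decide +kernel

theorem sp62P5_rels : sp62P5Data.rels.all (fun r => match r with
    | .assoc a b c => (a ++ b ++ c).all (fun q => Nat.blt q sp62P5Data.a.length) | .fuse .. => true) = true := by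
  decide +kernel

theorem sp62P5_derived : derivedOK 6 63 sp62P5Data = true := by decide +kernel

theorem sp62P5_orders : certOrder SchurMult.sp62Levels / certOrder sp62P5Data.levels = 290304 := by decide +kernel

theorem sp62P5_ext : sp62P5Data.ext.length + 1 = 1 := by decide +kernel

end Cfsg.Agent.SchurMult
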