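import Cfsg.Agent.Lib.SchurMult.M23P7Data
import Cfsg.Agent.Lib.Golay.MathieuData

/-! Kernel checks of the 7-part certificate of M23. -/

set_option autoImplicit false

namespace Cfsg.Agent.SchurMult

open Cfsg.Agent.PermCert Cfsg.Agent.PermSchur

theorem m23P7_base : schurBaseOK 5 24 m23P7Data Golay.Cert.m23Levels = true := by decide +kernel

theorem m23P7_rows : rowsOK m23P7Data = true := by decide +kernel

theorem m23P7_rels : m23P7Data.rels.all (fun r => match r with
    | .assoc a b c => (a ++ b ++ c).all (fun q => Nat.blt q m23P7Data.a.length) | .fuse .. => true) = true := by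
  decide +kernel

theorem m23P7_derived : derivedOK 5 24 m23P7Data = true := by decide +kernel

theorem m23P7_orders : certOrder Golay.Cert.m23Levels / certOrder m23P7Data.levels = 1457280 := by decide +kernel

theorem m23P7_ext : m23P7Data.ext.length + 1 = 1 := by decide +kernel

end Cfsg.Agent.SchurMult
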