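import Cfsg.Agent.Lib.SchurMult.M24P2Closure
import Cfsg.Agent.Lib.Golay.M24Data

/-! Kernel checks of the 2-part certificate of M24. -/

set_option autoImplicit false

namespace Cfsg.Agent.SchurMult

open Cfsg.Agent.PermCert Cfsg.Agent.PermSchur

theorem m24P2_base : schurBaseOK 5 24 m24P2Data Golay.Cert.m24Levels = true := by decide +kernel

theorem m24P2_rows : rowsOK m24P2Data = true := by decide +kernel

theorem m24P2_rels : m24P2Data.rels.all (fun r => match r with
    | .assoc a b c => (a ++ b ++ c).all (fun q => Nat.blt q m24P2Data.a.length) | .fuse .. => true) = true := by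
  decide +kernel

theorem m24P2_zero : m24P2Data.elts.any (fun t => t == normal m24P2Data [] []) = true := by decide +kernel

theorem m24P2_gs : m24P2Data.gs.all (fun s => s.1.all fun q => Nat.blt q m24P2Data.a.length) = true := by decide +kernel

theorem m24P2_wit : allBelow (fun i =>
    allBelow (fun j =>
      let I := invGen m24P2Data i
      let J := invGen m24P2Data j
      let W := gsProd m24P2Data ((m24P2Data.commWit.getD i []).getD j [])
      ((m24P2Data.commWit.getD i []).getD j []).all (fun q => Nat.blt q m24P2Data.gs.length) &&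
        normal m24P2Data (i :: j :: (I.1 ++ J.1)) (vadd I.2 J.2) == normal m24P2Data W.1 W.2) i &&
    allBelow (fun s =>
      let I := invGen m24P2Data i
      let W := gsProd m24P2Data ((m24P2Data.conjWit.getD i []).getD s [])
      ((m24P2Data.conjWit.getD i []).getD s []).all (fun q => Nat.blt q m24P2Data.gs.length) &&
        normal m24P2Data ((i :: (m24P2Data.gs.getD s ([], [])).1) ++ I.1) (vadd (m24P2Data.gs.getD s ([], [])).2 I.2) == normal m24P2Data W.1 W.2)
      m24P2Data.gs.length) m24P2Data.a.length = true := by decide +kernel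

theorem m24P2_elts : m24P2Data.elts.all (fun t => t.1.all (fun q => Nat.blt q m24P2Data.a.length) &&
    (!sameC 5 24 (wcodes m24P2Data t.1) [] ||
      (t.1 == [] && (t.2 == reduce m24P2Data.rows (List.replicate m24P2Data.nv 0) || m24P2Data.ext.contains t.2)))) = true := by decide +kernel

theorem m24P2_derived : derivedOK 5 24 m24P2Data = true := by
  rw [derivedOK, Bool.and_eq_true, Bool.and_eq_true, Bool.and_eq_true, Bool.and_eq_true]
  exact ⟨⟨⟨⟨m24P2_zero, m24P2_gs⟩, m24P2_clos⟩, m24P2_wit⟩, m24P2_elts⟩

theorem m24P2_orders : certOrder Golay.Cert.m24Levels / certOrder m24P2Data.levels = 239085 := by decide +kernel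

theorem m24P2_ext : m24P2Data.ext.length + 1 = 1 := by decide +kernel

end Cfsg.Agent.SchurMult
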