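import Cfsg.Agent.Lib.SchurMult.A6I3Data
import Cfsg.Agent.Lib.SchurMult.A6Group

/-! Kernel checks of the induced extension of A6 for the prime 3. -/

set_option autoImplicit false
set_option maxRecDepth 100000

namespace Cfsg.Agent.SchurMult

open Cfsg.Agent.PermCert Cfsg.Agent.PermInd

theorem a6I3_base : baseOK 3 6 SchurMult.a6Gens SchurMult.a6Levels a6I3Data = true := by decide +kernel

theorem a6I3_words0 : wordsOK 3 6 SchurMult.a6Gens a6I3Data a6I3Test0 = true := by decide +kernel

theorem a6I3_wit0 : allBelow (witOK a6I3Data a6I3Test0) 40 = true := by decide +kernel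

theorem a6I3_span : spanOK a6I3Data = true := by decide +kernel

theorem a6I3_cos0 : allBelow (fun i => cosetOK 3 6 SchurMult.a6Gens a6I3Data (0 + i)) 40 = true := by decide +kernel

theorem a6I3_cosets : ∀ i < a6I3Data.m, cosetOK 3 6 SchurMult.a6Gens a6I3Data i = true := by
  intro i hi
  replace hi : i < 40 := hi
  have := allBelow_spec _ _ a6I3_cos0 (i - 0) (by omega)
  rwa [Nat.add_sub_cancel' (by omega : 0 ≤ i)] at this

theorem a6I3_wits : ∀ T ∈ a6I3Data.tests, ∀ i < a6I3Data.m, witOK a6I3Data T i = true := by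
  intro T hT
  simp only [a6I3Data, List.mem_cons, List.not_mem_nil, or_false] at hT
  rcases hT with rfl
  · exact allBelow_spec _ _ a6I3_wit0

theorem a6I3_words : ∀ T ∈ a6I3Data.tests, wordsOK 3 6 SchurMult.a6Gens a6I3Data T = true := by
  intro T hT
  simp only [a6I3Data, List.mem_cons, List.not_mem_nil, or_false] at hT
  rcases hT with rfl
  · exact a6I3_words0

end Cfsg.Agent.SchurMult
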