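import Cfsg.Agent.Lib.Compute.SchurDefs

/-! Certificate for the 5-part of the Schur multiplier of A6. -/

set_option autoImplicit false
set_option maxRecDepth 20000

namespace Cfsg.Agent.SchurMult

open Cfsg.Agent.PermCert Cfsg.Agent.PermSchur

/-- Generators. -/
def a6P5CGens : List Elt :=
  [(172257, 169219)]

/-- Derived elements. -/
def a6P5CDerived : List (Elt × List ℕ) :=
  []

/-- Level 0. -/
def a6P5CLevel0 : CLevel :=
  (0, [(172257, 169219)],
   [(0, (181896, 181896), 0, 0),
    (1, (172257, 169219), 0, 0),
    (4, (176660, 165978), 1, 0),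
    (2, (165978, 176660), 2, 0),
    (3, (169219, 172257), 3, 0)])

/-- The stabiliser chain. -/
def a6P5CLevels : List CLevel :=
  [a6P5CLevel0]

/-- Conjugations. -/
def a6P5Fus : List Fusion :=
  []

/-- Relations. -/
def a6P5Rels : List Rel :=
  []

/-- Derived rows. -/
def a6P5Rows : List (ℕ × List ℤ × List (ℕ × ℤ)) :=
  []

/-- Generators of the derived group. -/
def a6P5Gs : List (List ℕ × List ℤ) :=
  []

/-- Elements of the derived group. -/
def a6P5Elts : List (List ℕ × List ℤ) :=
  [([], [0])]

/-- The data. -/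
def a6P5Data : SchurData where
  p := 5
  a := a6P5CGens
  derived := a6P5CDerived
  levels := a6P5CLevels
  pow := [[]]
  comm := [[]]
  ords := [5]
  fus := a6P5Fus
  nv := 1
  rels := a6P5Rels
  rows := a6P5Rows
  gs := a6P5Gs
  elts := a6P5Elts
  commWit := [[]]
  conjWit := [[]]
  ext := []

end Cfsg.Agent.SchurMult
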