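import Cfsg.Agent.Lib.Compute.SchurDefs

/-! Certificate for the 2-part of the Schur multiplier of A7. -/

set_option autoImplicit false
set_option maxRecDepth 20000

namespace Cfsg.Agent.SchurMult

open Cfsg.Agent.PermCert Cfsg.Agent.PermSchur

/-- Generators. -/
def a7P2CGens : List Elt :=
  [(153230, 153230),
    (1682184, 1682184),
    (1725640, 1725640)]

/-- Derived elements. -/
def a7P2CDerived : List (Elt × List ℕ) :=
  []

/-- Level 0. -/
def a7P2CLevel0 : CLevel :=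
  (0, [(153230, 153230),
    (1682184, 1682184),
    (1725640, 1725640)],
   [(0, (1754760, 1754760), 0, 0),
    (6, (153230, 153230), 0, 0)])

/-- Level 1. -/
def a7P2CLevel1 : CLevel :=
  (2, [(1682184, 1682184),
    (1725640, 1725640)],
   [(2, (1754760, 1754760), 0, 0),
    (4, (1682184, 1682184), 0, 0),
    (3, (1725640, 1725640), 0, 1),
    (5, (1653064, 1653064), 1, 1)])

/-- The stabiliser chain. -/
def a7P2CLevels : List CLevel :=
  [a7P2CLevel0, a7P2CLevel1]

/-- Conjugations. -/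
def a7P2Fus : List Fusion :=
  []

/-- Relations. -/
def a7P2Rels : List Rel :=
  [Rel.assoc [2] [0] [0],
   Rel.assoc [1] [0] [0],
   Rel.assoc [1] [1] [0]]

/-- Derived rows. -/
def a7P2Rows : List (ℕ × List ℤ × List (ℕ × ℤ)) :=
  [(5, [0, 0, 1, 2, 0, 1], [(2, (-1))]),
   (4, [0, 0, 1, 2, 1, 0], [(1, 1)]),
   (3, [0, 0, 2, 4, 0, 0], [(0, (-1)), (1, 2)])]

/-- Generators of the derived group. -/
def a7P2Gs : List (List ℕ × List ℤ) :=
  [([2], [0, 0, 0, 1, 0, 0])]

/-- Elements of the derived group. -/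
def a7P2Elts : List (List ℕ × List ℤ) :=
  [([], [0, 0, 0, 0, 0, 0]),
   ([2], [0, 0, 0, 1, 0, 0]),
   ([], [0, 0, 1, 2, 0, 0]),
   ([2], [0, 0, 1, 3, 0, 0])]

/-- The data. -/
def a7P2Data : SchurData where
  p := 2
  a := a7P2CGens
  derived := a7P2CDerived
  levels := a7P2CLevels
  pow := [[], [], []]
  comm := [[], [[0, 1, 2]], [[0, 2], [1, 2]]]
  ords := [2, 2, 2]
  fus := a7P2Fus
  nv := 6
  rels := a7P2Rels
  rows := a7P2Rows
  gs := a7P2Gs
  elts := a7P2Elts
  commWit := [[], [[0]], [[0, 0], [0, 0]]]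
  conjWit := [[[0, 0, 0]], [[0, 0, 0]], [[0]]]
  ext := [[0, 0, 1, 2, 0, 0]]

end Cfsg.Agent.SchurMult
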