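import Cfsg.Agent.Lib.Compute.SchurDefs

/-! Certificate for the 3-part of the Schur multiplier of A7. -/

set_option autoImplicit false
set_option maxRecDepth 20000

namespace Cfsg.Agent.SchurMult

open Cfsg.Agent.PermCert Cfsg.Agent.PermSchur

/-- Generators. -/
def a7P3CGens : List Elt :=
  [(183435, 966798),
    (1627808, 1709736)]

/-- Derived elements. -/
def a7P3CDerived : List (Elt × List ℕ) :=
  []

/-- Level 0. -/
def a7P3CLevel0 : CLevel :=
  (0, [(183435, 966798),
    (1627808, 1709736)],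
   [(0, (1754760, 1754760), 0, 0),
    (3, (183435, 966798), 0, 0),
    (6, (966798, 183435), 1, 0)])

/-- Level 1. -/
def a7P3CLevel1 : CLevel :=
  (1, [(1627808, 1709736)],
   [(1, (1754760, 1754760), 0, 0),
    (4, (1627808, 1709736), 0, 0),
    (5, (1709736, 1627808), 1, 0)])

/-- The stabiliser chain. -/
def a7P3CLevels : List CLevel :=
  [a7P3CLevel0, a7P3CLevel1]

/-- Conjugations. -/
def a7P3Fus : List Fusion :=
  []

/-- Relations. -/
def a7P3Rels : List Rel :=
  [Rel.assoc [1] [0, 0] [0]]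

/-- Derived rows. -/
def a7P3Rows : List (ℕ × List ℤ × List (ℕ × ℤ)) :=
  [(2, [0, 0, 3], [(0, 1)])]

/-- Generators of the derived group. -/
def a7P3Gs : List (List ℕ × List ℤ) :=
  [([], [0, 0, 1])]

/-- Elements of the derived group. -/
def a7P3Elts : List (List ℕ × List ℤ) :=
  [([], [0, 0, 0]),
   ([], [0, 0, 1]),
   ([], [0, 0, 2])]

/-- The data. -/
def a7P3Data : SchurData where
  p := 3
  a := a7P3CGens
  derived := a7P3CDerived
  levels := a7P3CLevels
  pow := [[], []]
  comm := [[], [[0, 1]]]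
  ords := [3, 3]
  fus := a7P3Fus
  nv := 3
  rels := a7P3Rels
  rows := a7P3Rows
  gs := a7P3Gs
  elts := a7P3Elts
  commWit := [[], [[0]]]
  conjWit := [[[0]], [[0]]]
  ext := [[0, 0, 1], [0, 0, 2]]

end Cfsg.Agent.SchurMult
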