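import Cfsg.Agent.Lib.Compute.SchurDefs

/-! Certificate for the 5-part of the Schur multiplier of A7. -/

set_option autoImplicit false
set_option maxRecDepth 20000

namespace Cfsg.Agent.SchurMult

open Cfsg.Agent.PermCert Cfsg.Agent.PermSchur

/-- Generators. -/
def a7P5CGens : List Elt :=
  [(1443505, 480900)]

/-- Derived elements. -/
def a7P5CDerived : List (Elt × List ℕ) :=
  []

/-- Level 0. -/
def a7P5CLevel0 : CLevel :=
  (0, [(1443505, 480900)],
   [(0, (1754760, 1754760), 0, 0),
    (1, (1443505, 480900), 0, 0),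
    (6, (1054382, 59045), 1, 0),
    (5, (59045, 1054382), 2, 0),
    (4, (480900, 1443505), 3, 0)])

/-- The stabiliser chain. -/
def a7P5CLevels : List CLevel :=
  [a7P5CLevel0]

/-- Conjugations. -/
def a7P5Fus : List Fusion :=
  []

/-- Relations. -/
def a7P5Rels : List Rel :=
  []

/-- Derived rows. -/
def a7P5Rows : List (ℕ × List ℤ × List (ℕ × ℤ)) :=
  []

/-- Generators of the derived group. -/
def a7P5Gs : List (List ℕ × List ℤ) :=
  []

/-- Elements of the derived group. -/
def a7P5Elts : List (List ℕ × List ℤ) :=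
  [([], [0])]

/-- The data. -/
def a7P5Data : SchurData where
  p := 5
  a := a7P5CGens
  derived := a7P5CDerived
  levels := a7P5CLevels
  pow := [[]]
  comm := [[]]
  ords := [5]
  fus := a7P5Fus
  nv := 1
  rels := a7P5Rels
  rows := a7P5Rows
  gs := a7P5Gs
  elts := a7P5Elts
  commWit := [[]]
  conjWit := [[]]
  ext := []

end Cfsg.Agent.SchurMult
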