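import Cfsg.Agent.Lib.SchurMult.Bound
import Cfsg.Agent.Lib.Compute.SchurFast

/-! A prime part certified with projected tails. -/

set_option autoImplicit false

namespace Cfsg.Agent.SchurMult

open Cfsg.Agent.PermCert Cfsg.Agent.PermSchur

universe u

variable {w n : ℕ} [NeZero n]

theorem certified_of_fast {gens : List Elt} {derived : List (Elt × List ℕ)} {levels : List CLevel}
    {d : SchurData} {FD : FastData} {i k : ℕ} (hc : checkCert w n gens derived levels = true)
    (hb : schurBaseOK w n d levels = true) (hr : rowsOK d = true)
    (hrel : d.rels.all (fun r => match r with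
      | .assoc a b c => (a ++ b ++ c).all (fun q => Nat.blt q d.a.length) | .fuse .. => true) = true)
    (hd : derivedFast w n d FD = true) (he : projOK d FD = true)
    (hi : certOrder levels / certOrder d.levels = i)
    (hk : d.ext.length + 1 = k) : Certified.{u} w n gens i k := by
  intro Γ _ _ ξ hker hrange
  obtain ⟨S, hS, h⟩ := PermSchur.kill2 hc hb hr hrel he hd ξ hker hrange
  exact ⟨S, hk ▸ hS, fun z hz => hi ▸ h z hz⟩

end Cfsg.Agent.SchurMult
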