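import Cfsg.Agent.Lib.SchurMult.G23Hom
import Cfsg.Agent.Lib.SchurMult.Surj
import Mathlib.GroupTheory.Abelianization.Defs

/-! The threefold cover of G₂(3) on three points above each line of the second orbit. -/

set_option autoImplicit false
set_option maxRecDepth 100000

namespace Cfsg.Agent.SchurMult

open Cfsg.Agent.PermCert

/-- The line below a point. -/
def base3 (x : Fin 1134) : Fin 378 := Fin.ofNat 378 ((x : ℕ) / 3)

/-- The shift of a point. -/
def shiftBy (s : ℕ) (x : Fin 1134) : Fin 1134 := Fin.ofNat 1134 (3 * ((x : ℕ) / 3) + ((x : ℕ) % 3 + s) % 3)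

/-- The first point above a line. -/
def top3 (k : Fin 378) : Fin 1134 := Fin.ofNat 1134 (3 * k)

theorem base_shift (s : ℕ) (x : Fin 1134) : base3 (shiftBy s x) = base3 x := by
  apply Fin.ext
  simp only [base3, shiftBy, Fin.val_ofNat]
  have := x.2
  omega

theorem base_top (k : Fin 378) : base3 (top3 k) = k := by
  apply Fin.ext
  simp only [base3, top3, Fin.val_ofNat]
  have := k.2
  omega

theorem shift_top (x : Fin 1134) : shiftBy ((x : ℕ) % 3) (top3 (base3 x)) = x := by
  apply Fin.ext
  simp only [base3, shiftBy, top3, Fin.val_ofNat]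
  have := x.2
  omega

theorem shift_shift (s t : ℕ) (x : Fin 1134) : shiftBy s (shiftBy t x) = shiftBy (t + s) x := by
  apply Fin.ext
  simp only [shiftBy, Fin.val_ofNat]
  have := x.2
  omega

theorem shift_mod (s : ℕ) (x : Fin 1134) : shiftBy (s % 3) x = shiftBy s x := by
  apply Fin.ext
  simp only [shiftBy, Fin.val_ofNat]
  have := x.2
  omega

theorem shift_zero (x : Fin 1134) : shiftBy 0 x = x := by
  apply Fin.ext
  simp only [shiftBy, Fin.val_ofNat]
  have := x.2
  omega

/-- The neighbours of a point. -/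
def nbrList (x : ℕ) : List ℕ :=
  (g23Nbr.getD (x / 3) []).map fun t => 3 * t.1 + (t.2 + x % 3) % 3

theorem nbr_ok : g23Nbr.all (fun r => r.all fun t => Nat.blt t.1 378) = true := by decide +kernel

theorem nbr_lt (x : ℕ) : ∀ y ∈ nbrList x, y < 1134 := by
  intro y hy
  obtain ⟨t, ht, rfl⟩ := List.mem_map.1 hy
  have h : g23Nbr.getD (x / 3) [] ∈ g23Nbr ∨ g23Nbr.getD (x / 3) [] = [] := by
    rcases Nat.lt_or_ge (x / 3) g23Nbr.length with h | h
    · left; rw [List.getD_eq_getElem _ _ h]; exact List.getElem_mem h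
    · right; exact List.getD_eq_default _ _ h
  rcases h with h | h
  · have := List.all_eq_true.1 (List.all_eq_true.1 nbr_ok _ h) t ht
    rw [Nat.blt_eq] at this
    omega
  · rw [h] at ht; simp at ht

/-- The bit mask of a list. -/
def maskL : List ℕ → ℕ
  | [] => 0
  | a :: l => maskL l ||| 1 <<< a

theorem testBit_maskL (j : ℕ) : ∀ l : List ℕ, (maskL l).testBit j = true ↔ j ∈ l
  | [] => by simp [maskL]
  | a :: l => by
    rw [maskL, Nat.testBit_or, Bool.or_eq_true, Nat.one_shiftLeft, Nat.testBit_two_pow, decide_eq_true_iff,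
      testBit_maskL j l, List.mem_cons]
    exact ⟨fun h => h.elim Or.inr fun e => Or.inl e.symm, fun h => h.elim (fun e => Or.inr e.symm) Or.inl⟩

/-- Adjacency of two points. -/
def Adj3 (x y : Fin 1134) : Prop := (y : ℕ) ∈ nbrList x

/-- The permutations preserving the shift and the adjacency. -/
def coverGroup : Subgroup (Equiv.Perm (Fin 1134)) where
  carrier := {p | (∀ x, p (shiftBy 1 x) = shiftBy 1 (p x)) ∧ ∀ x y, Adj3 (p x) (p y) ↔ Adj3 x y}
  one_mem' := ⟨fun _ => rfl, fun _ _ => Iff.rfl⟩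
  mul_mem' := fun {p q} hp hq => ⟨fun x => by
    rw [Equiv.Perm.mul_apply, hq.1, hp.1]; rfl, fun x y => (hp.2 _ _).trans (hq.2 x y)⟩
  inv_mem' := fun {p} hp => ⟨fun x => p.injective (by rw [hp.1]; simp),
    fun x y => by rw [← hp.2]; simp⟩

theorem cover_shift (p : coverGroup) : ∀ (s : ℕ) (x : Fin 1134),
    (p : Equiv.Perm (Fin 1134)) (shiftBy s x) = shiftBy s ((p : Equiv.Perm (Fin 1134)) x)
  | 0, x => by rw [shift_zero, shift_zero]
  | s + 1, x => by rw [← shift_shift 1 s, p.2.1, cover_shift p s, shift_shift]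

theorem base_apply (p : coverGroup) (x : Fin 1134) :
    base3 ((p : Equiv.Perm (Fin 1134)) (top3 (base3 x))) = base3 ((p : Equiv.Perm (Fin 1134)) x) := by
  conv_rhs => rw [← shift_top x, cover_shift p, base_shift]

/-- The action on lines. -/
def down3 : coverGroup →* Equiv.Perm (Fin 378) :=
  MonoidHom.toHomPerm
    { toFun := fun p k => base3 ((p : Equiv.Perm (Fin 1134)) (top3 k))
      map_one' := funext base_top
      map_mul' := fun p q => funext fun k => (base_apply p ((q : Equiv.Perm (Fin 1134)) (top3 k))).symm }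

theorem down3_apply (p : coverGroup) (k : Fin 378) :
    down3 p k = base3 ((p : Equiv.Perm (Fin 1134)) (top3 k)) := rfl

/-- One step of the tree: the neighbours above a line pin down the shift. -/
def stepTest (k : ℕ) : Bool :=
  Nat.beq k 0 ||
    (let m := g23Par.getD k 0
     Nat.blt (g23Rank.getD m 0) (g23Rank.getD k 0) && Nat.blt m 378 &&
      (let M := maskL (nbrList (3 * m))
       (M.testBit (3 * k) || M.testBit (3 * k + 1) || M.testBit (3 * k + 2)) &&
         !(M.testBit (3 * k) && M.testBit (3 * k + 1)) && !(M.testBit (3 * k) && M.testBit (3 * k + 2)) &&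
         !(M.testBit (3 * k + 1) && M.testBit (3 * k + 2))))

theorem steps_ok : allBelow stepTest 378 = true := by decide +kernel

theorem adj_shift (s : ℕ) (x : Fin 1134) (y : Fin 1134) : Adj3 (shiftBy s x) (shiftBy s y) ↔ Adj3 x y := by
  have hy := y.2
  have hx := x.2
  have e1 : (shiftBy s x : ℕ) = 3 * ((x : ℕ) / 3) + ((x : ℕ) % 3 + s) % 3 := by
    simp only [shiftBy, Fin.val_ofNat]; omega
  have e2 : (shiftBy s y : ℕ) = 3 * ((y : ℕ) / 3) + ((y : ℕ) % 3 + s) % 3 := by
    simp only [shiftBy, Fin.val_ofNat]; omega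
  simp only [Adj3, nbrList, List.mem_map, e1, e2,
    show (3 * ((x : ℕ) / 3) + ((x : ℕ) % 3 + s) % 3) / 3 = (x : ℕ) / 3 by omega]
  constructor
  · rintro ⟨t, ht, e⟩
    exact ⟨t, ht, by omega⟩
  · rintro ⟨t, ht, e⟩
    exact ⟨t, ht, by omega⟩

theorem uniq_true (f : ℕ → Bool) (h01 : f 0 = false ∨ f 1 = false) (h02 : f 0 = false ∨ f 2 = false)
    (h12 : f 1 = false ∨ f 2 = false) (i : ℕ) (hi : i < 3) (j : ℕ) (hj : j < 3) (hi' : f i = true)
    (hj' : f j = true) : i = j := by
  interval_cases i <;> interval_cases j <;> simp_all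

/-- An element fixing every line is a shift. -/
theorem down3_ker {p : coverGroup} (h : down3 p = 1) :
    ∃ s < 3, ∀ x, (p : Equiv.Perm (Fin 1134)) x = shiftBy s x := by
  set σ := (p : Equiv.Perm (Fin 1134))
  have hk : ∀ k, ∃ a < 3, σ (top3 k) = shiftBy a (top3 k) := fun k => by
    refine ⟨(σ (top3 k) : ℕ) % 3, Nat.mod_lt _ (by norm_num), ?_⟩
    have hb : base3 (σ (top3 k)) = k := by rw [← down3_apply, h]; rfl
    conv_lhs => rw [← shift_top (σ (top3 k)), hb]
  choose a ha hσ using hk
  have key : ∀ (r : ℕ) (k : Fin 378), g23Rank.getD k 0 = r → a k = a 0 := by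
    intro r
    induction r using Nat.strong_induction_on with
    | _ r ih =>
      intro k hr
      have ht := allBelow_spec _ _ steps_ok k k.2
      simp only [stepTest, Bool.or_eq_true, Bool.and_eq_true, Nat.beq_eq, Nat.blt_eq, Bool.not_eq_true',
        Bool.and_eq_false_iff] at ht
      rcases ht with h0 | ⟨⟨hlt, hm⟩, ⟨⟨hex, h01⟩, h02⟩, h12⟩
      · rw [show k = 0 from Fin.ext h0]
      · set m : Fin 378 := Fin.ofNat 378 (g23Par.getD k 0)
        have hmv : (m : ℕ) = g23Par.getD k 0 := Nat.mod_eq_of_lt hm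
        have := ih _ (hr ▸ hlt) m (by rw [hmv])
        rw [← this]
        have ek : ∀ c, c < 3 → ((shiftBy c (top3 k)) : ℕ) = 3 * k + c := fun c hc => by
          simp only [shiftBy, top3, Fin.val_ofNat]; have := k.2; omega
        have em : ((top3 m : Fin 1134) : ℕ) = 3 * g23Par.getD k 0 := by
          simp only [top3, Fin.val_ofNat]; omega
        have hbit : ∀ c, c < 3 → (Adj3 (top3 m) (shiftBy c (top3 k)) ↔
            (maskL (nbrList (3 * g23Par.getD k 0))).testBit (3 * k + c) = true) := fun c hc => by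
          rw [testBit_maskL, Adj3, ek c hc, em]
        obtain ⟨c, hc, hA⟩ : ∃ c < 3, Adj3 (top3 m) (shiftBy c (top3 k)) := by
          rcases hex with (e | e) | e
          · exact ⟨0, by norm_num, (hbit 0 (by norm_num)).2 e⟩
          · exact ⟨1, by norm_num, (hbit 1 (by norm_num)).2 e⟩
          · exact ⟨2, by norm_num, (hbit 2 (by norm_num)).2 e⟩
        have h2 := (p.2.2 (top3 m) (shiftBy c (top3 k))).2 hA
        rw [show (p : Equiv.Perm (Fin 1134)) = σ from rfl, cover_shift p c,
          show (p : Equiv.Perm (Fin 1134)) = σ from rfl, hσ m, hσ k, shift_shift] at h2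
        have h3 : Adj3 (top3 m) (shiftBy ((c + a k + (3 - a m)) % 3) (top3 k)) := by
          have h4 := (adj_shift (3 - a m) _ _).2 h2
          rw [shift_shift, shift_shift] at h4
          rw [← shift_mod (a m + (3 - a m)), show (a m + (3 - a m)) % 3 = 0 by have := ha m; omega,
            shift_zero] at h4
          rw [shift_mod, show c + a k + (3 - a m) = a k + c + (3 - a m) by omega]
          exact h4
        set c' := (c + a k + (3 - a m)) % 3 with hc'
        have b1 := (hbit c hc).1 hA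
        have b2 := (hbit c' (Nat.mod_lt _ (by norm_num))).1 h3
        have hcc : c = c' := by
          have hc'3 : c' < 3 := Nat.mod_lt _ (by norm_num)
          exact uniq_true (fun i => (maskL (nbrList (3 * g23Par.getD k 0))).testBit (3 * k + i))
            h01 h02 h12 c hc c' hc'3 b1 b2
        have := ha k
        have := ha m
        omega
  refine ⟨a 0, ha 0, fun x => ?_⟩
  conv_lhs => rw [← shift_top x]
  rw [show σ = (p : Equiv.Perm (Fin 1134)) from rfl, cover_shift p, show (p : Equiv.Perm (Fin 1134)) = σ from rfl,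
    hσ, key _ (base3 x) rfl, shift_shift, Nat.add_comm, ← shift_shift, shift_top]

/-- A coded lift in the cover. -/
def liftTest (e : Elt) : Bool :=
  validElt 11 1134 e && allBelow (fun x =>
    Nat.beq (get 11 e.1 (3 * (x / 3) + (x % 3 + 1) % 3))
      (3 * (get 11 e.1 x / 3) + (get 11 e.1 x % 3 + 1) % 3) &&
    Nat.beq (maskL ((nbrList x).map fun y => get 11 e.1 y)) (maskL (nbrList (get 11 e.1 x)))) 1134

theorem liftTest_mem {e : Elt} (h : liftTest e = true) : toPerm 11 1134 e ∈ coverGroup := by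
  simp only [liftTest, Bool.and_eq_true] at h
  obtain ⟨hv, hall⟩ := h
  have hr := rep_toPerm hv
  refine ⟨fun x => Fin.ext ?_, fun x y => ?_⟩
  · have h1 := allBelow_spec _ _ hall x x.2
    simp only [Bool.and_eq_true, Nat.beq_eq] at h1
    have e1 : (shiftBy 1 x : ℕ) = 3 * ((x : ℕ) / 3) + ((x : ℕ) % 3 + 1) % 3 := by
      simp only [shiftBy, Fin.val_ofNat]; have := x.2; omega
    rw [← (hr _).1, e1, h1.1]
    simp only [shiftBy, Fin.val_ofNat, (hr x).1]
    have := (toPerm 11 1134 e x).2
    omega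
  · have h1 := allBelow_spec _ _ hall x x.2
    simp only [Bool.and_eq_true, Nat.beq_eq] at h1
    show (toPerm 11 1134 e y : ℕ) ∈ nbrList (toPerm 11 1134 e x) ↔ (y : ℕ) ∈ nbrList x
    rw [← (hr x).1, ← testBit_maskL, ← h1.2, testBit_maskL, List.mem_map]
    constructor
    · rintro ⟨z, hz, ez⟩
      have hz' := nbr_lt _ z hz
      rw [show z = ((⟨z, hz'⟩ : Fin 1134) : ℕ) from rfl, (hr _).1] at ez
      rw [← (toPerm 11 1134 e).injective (Fin.ext ez)]
      exact hz
    · intro hy
      exact ⟨y, hy, (hr y).1⟩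

theorem lifts_ok : ∀ g : Fin 2, liftTest (g23Lifts.getD g (0, 0)) = true := by decide +kernel

theorem lifts_down : ∀ g : Fin 2, allBelow (fun k =>
    Nat.beq (get 11 (g23Lifts.getD g (0, 0)).1 (3 * k) / 3) (get 9 (g23GensB.getD g (0, 0)).1 k)) 378 = true := by
  decide +kernel

theorem gensB_valid : ∀ g : Fin 2, validElt 9 378 (g23GensB.getD g (0, 0)) = true := by decide +kernel

/-- The value of a word in the lifts and their inverses. -/
def evLifts : List ℕ → ℕ → ℕ
  | [], x => x
  | k :: w, x =>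
    if k < 2 then get 11 (g23Lifts.getD k (0, 0)).1 (evLifts w x)
    else get 11 (g23Lifts.getD (k - 2) (0, 0)).2 (evLifts w x)

/-- Exponents of the two generators in a word. -/
def expW : List ℕ → ℤ × ℤ
  | [] => (0, 0)
  | k :: w => let r := expW w
    (r.1 + (if k = 0 then 1 else if k = 2 then -1 else 0), r.2 + (if k = 1 then 1 else if k = 3 then -1 else 0))

theorem word_facts : (g23Word.all fun k => Nat.blt k 4) = true ∧ expW g23Word = (0, 0) ∧
    evLifts g23Word 0 = 1 ∧ allBelow (fun k => Nat.beq (evLifts g23Word (3 * k) / 3) k) 378 = true := by decide +kernel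

theorem prod_expW {A : Type*} [CommGroup A] (v : ℕ → A) (h2 : v 2 = (v 0)⁻¹) (h3 : v 3 = (v 1)⁻¹) :
    ∀ w : List ℕ, (∀ k ∈ w, k < 4) → (w.map v).prod = v 0 ^ (expW w).1 * v 1 ^ (expW w).2
  | [], _ => by simp [expW]
  | k :: w, hw => by
    have hk := hw k List.mem_cons_self
    rw [List.map_cons, List.prod_cons, prod_expW v h2 h3 w fun x hx => hw x (List.mem_cons_of_mem _ hx)]
    interval_cases k <;> simp [expW, h2, h3, _root_.zpow_add, mul_comm, mul_left_comm] <;>
      simp only [mul_assoc, mul_comm, mul_left_comm]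

set_option maxHeartbeats 1000000 in
/-- The multiplier of G₂(3) maps onto a group of order three. -/
theorem g23_multiplier_three : ∃ f : Schur.Multiplier G23.G3 →* Multiplicative (ZMod 3), Function.Surjective f := by
  classical
  obtain ⟨-, ψ, -, hψ, -, hr⟩ := exists_g23_homs
  have : Finite G23.G3 := Finite.of_injective ψ hψ
  let l : Fin 2 → coverGroup := fun g => ⟨_, liftTest_mem (lifts_ok g)⟩
  let X : Subgroup coverGroup := Subgroup.closure (Set.range l)
  have hl : ∀ g, down3 (l g) = toPerm 9 378 (g23GensB.getD g (0, 0)) := fun g => by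
    refine Equiv.ext fun k => Fin.ext ?_
    rw [down3_apply, ← (rep_toPerm (gensB_valid g) k).1]
    have h := allBelow_spec _ _ (lifts_down g) k k.2
    rw [Nat.beq_eq] at h
    rw [← h]
    have hv : validElt 11 1134 (g23Lifts.getD g (0, 0)) = true := by
      have := lifts_ok g
      simp only [liftTest, Bool.and_eq_true] at this
      exact this.1
    show (base3 (toPerm 11 1134 _ (top3 k)) : ℕ) = _
    simp only [base3, Fin.val_ofNat, ← (rep_toPerm hv (top3 k)).1]
    have e : ((top3 k : Fin 1134) : ℕ) = 3 * k := by simp only [top3, Fin.val_ofNat]; have := k.2; omega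
    rw [e]
    have := (toPerm 11 1134 (g23Lifts.getD g (0, 0)) (top3 k)).2
    rw [← (rep_toPerm hv (top3 k)).1, e] at this
    omega
  have hX : (down3.comp X.subtype).range = ψ.range := by
    rw [MonoidHom.range_comp, Subgroup.range_subtype, MonoidHom.map_closure, hr, genGroup,
      closure_two (toPerm 9 378) (by rfl), ← Set.range_comp]
    exact congrArg Subgroup.closure (congrArg Set.range (funext hl))
  let e : ψ.range ≃* G23.G3 := (MonoidHom.ofInjective hψ).symm
  let ξ : X →* G23.G3 := (e.toMonoidHom.comp (MulEquiv.subgroupCongr hX).toMonoidHom).comp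
    (down3.comp X.subtype).rangeRestrict
  have hξ : Function.Surjective ξ :=
    (e.surjective.comp (MulEquiv.subgroupCongr hX).surjective).comp (MonoidHom.rangeRestrict_surjective _)
  have hξk : ∀ x : X, ξ x = 1 ↔ down3 x.1 = 1 := fun x => by
    show e (MulEquiv.subgroupCongr hX ((down3.comp X.subtype).rangeRestrict x)) = 1 ↔ _
    rw [map_eq_one_iff _ e.injective, map_eq_one_iff _ (MulEquiv.injective _)]
    exact ⟨fun h => congrArg Subtype.val h, fun h => Subtype.ext h⟩
  have hcen : ξ.ker ≤ Subgroup.center X := fun x hx => by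
    obtain ⟨s, -, hs⟩ := down3_ker ((hξk x).1 hx)
    refine Subgroup.mem_center_iff.2 fun y => Subtype.ext (Subtype.ext (Equiv.ext fun z => ?_))
    show (y.1 : Equiv.Perm (Fin 1134)) ((x.1 : Equiv.Perm (Fin 1134)) z) =
      (x.1 : Equiv.Perm (Fin 1134)) ((y.1 : Equiv.Perm (Fin 1134)) z)
    rw [hs, hs, cover_shift]
  let gl : ℕ → X := fun k => if k < 2 then ⟨l (Fin.ofNat 2 k), Subgroup.subset_closure ⟨_, rfl⟩⟩
    else (⟨l (Fin.ofNat 2 (k - 2)), Subgroup.subset_closure ⟨_, rfl⟩⟩ : X)⁻¹
  have hgl : ∀ k, k < 4 → ∀ x : Fin 1134, ((((gl k).1 : Equiv.Perm (Fin 1134)) x : Fin 1134) : ℕ) =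
      if k < 2 then get 11 (g23Lifts.getD k (0, 0)).1 x else get 11 (g23Lifts.getD (k - 2) (0, 0)).2 x := by
    have hv : ∀ g : Fin 2, validElt 11 1134 (g23Lifts.getD g (0, 0)) = true := fun g => by
      have := lifts_ok g
      simp only [liftTest, Bool.and_eq_true] at this
      exact this.1
    intro k hk x
    interval_cases k
    · exact (rep_toPerm (hv 0) x).1.symm
    · exact (rep_toPerm (hv 1) x).1.symm
    · exact (rep_toPerm (hv 0) x).2.symm
    · exact (rep_toPerm (hv 1) x).2.symm
  have hev : ∀ w : List ℕ, (∀ k ∈ w, k < 4) → ∀ x : Fin 1134,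
      ((((w.map gl).prod.1 : Equiv.Perm (Fin 1134)) x : Fin 1134) : ℕ) = evLifts w x := by
    intro w
    induction w with
    | nil => intro _ x; rfl
    | cons k w ih =>
      intro hw x
      rw [List.map_cons, List.prod_cons]
      show ((((gl k).1 : Equiv.Perm (Fin 1134)) (((w.map gl).prod.1 : Equiv.Perm (Fin 1134)) x) : Fin 1134) : ℕ) = _
      rw [hgl k (hw k List.mem_cons_self), ih (fun y hy => hw y (List.mem_cons_of_mem _ hy)) x]
      rfl
  obtain ⟨hlt, hexp, hnt, hfix⟩ := word_facts
  have hlt' : ∀ k ∈ g23Word, k < 4 := fun k hk => Nat.blt_eq.mp (List.all_eq_true.1 hlt k hk)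
  set z := (g23Word.map gl).prod with hz
  have hzk : z ∈ ξ.ker := by
    refine MonoidHom.mem_ker.2 ((hξk z).2 (Equiv.ext fun k => Fin.ext ?_))
    rw [down3_apply]
    show (base3 _ : ℕ) = (k : ℕ)
    simp only [base3, Fin.val_ofNat, hz, hev g23Word hlt' (top3 k)]
    have e : ((top3 k : Fin 1134) : ℕ) = 3 * k := by simp only [top3, Fin.val_ofNat]; have := k.2; omega
    have h := allBelow_spec _ _ hfix k k.2
    rw [Nat.beq_eq] at h
    rw [e, h]
    exact Nat.mod_eq_of_lt k.2
  have hzc : z ∈ commutator X := by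
    rw [hz, ← Abelianization.ker_of, MonoidHom.mem_ker, map_list_prod, List.map_map]
    show (List.map (fun k => Abelianization.of (gl k)) g23Word).prod = 1
    rw [prod_expW (fun k => Abelianization.of (gl k)) (map_inv _ _) (map_inv _ _) _ hlt', hexp]
    simp
  let v : ↥(ξ.ker ⊓ commutator X) →* Multiplicative (ZMod 3) :=
    { toFun := fun x => Multiplicative.ofAdd ((((x.1.1 : Equiv.Perm (Fin 1134)) 0 : Fin 1134) : ℕ) : ZMod 3)
      map_one' := rfl
      map_mul' := fun x y => by
        obtain ⟨s, hs3, hs⟩ := down3_ker ((hξk _).1 x.2.1)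
        obtain ⟨t, ht3, ht⟩ := down3_ker ((hξk _).1 y.2.1)
        rw [← ofAdd_add]
        refine congrArg Multiplicative.ofAdd ?_
        show ((((x.1.1 : Equiv.Perm (Fin 1134)) ((y.1.1 : Equiv.Perm (Fin 1134)) 0) : Fin 1134) : ℕ) : ZMod 3) = _
        rw [hs, ht, hs, shift_shift]
        simp only [shiftBy, Fin.val_ofNat, Fin.val_zero]
        interval_cases s <;> interval_cases t <;> decide }
  refine exists_surj ξ hξ hcen v fun c => ?_
  have hz0 : (((z.1 : Equiv.Perm (Fin 1134)) 0 : Fin 1134) : ℕ) = 1 := by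
    rw [hz, hev g23Word hlt' 0]
    exact hnt
  have hv : v ⟨z, hzk, hzc⟩ = Multiplicative.ofAdd 1 := by
    show Multiplicative.ofAdd ((((z.1 : Equiv.Perm (Fin 1134)) 0 : Fin 1134) : ℕ) : ZMod 3) = _
    rw [hz0, Nat.cast_one]
  obtain ⟨a, rfl⟩ := Multiplicative.ofAdd.surjective c
  refine ⟨⟨z, hzk, hzc⟩ ^ a.val, ?_⟩
  rw [map_pow, hv, ← ofAdd_nsmul, nsmul_one, ZMod.natCast_zmod_val]

end Cfsg.Agent.SchurMult
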