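import Cfsg.Agent.Lib.Compute.SchurWit
import Cfsg.Agent.Lib.SchurMult.G24P2Data
import Cfsg.Agent.Lib.SchurMult.G24Group

/-! Kernel checks of the 2-part certificate of G24. -/

set_option autoImplicit false
set_option Elab.async false

namespace Cfsg.Agent.SchurMult

open Cfsg.Agent.PermCert Cfsg.Agent.PermSchur

theorem g24P2_base : schurBaseOK 9 416 g24P2Data SchurMult.g24Levels = true := by decide +kernel

theorem g24P2_rows : rowsOK g24P2Data = true := by decide +kernel

theorem g24P2_rels : g24P2Data.rels.all (fun r => match r with
    | .assoc a b c => (a ++ b ++ c).all (fun q => Nat.blt q g24P2Data.a.length) | .fuse .. => true) = true := by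
  decide +kernel

theorem g24P2_proj : projOK g24P2Data g24P2FD = true := by decide +kernel

theorem g24P2_head : witHead g24P2Data g24P2FD = true := by decide +kernel

theorem g24P2_close0 : (block 64 0 (g24P2Data.elts.zip g24P2Wit)).all (witClose g24P2Data g24P2FD) = true := by
  decide +kernel

theorem g24P2_close1 : (block 64 1 (g24P2Data.elts.zip g24P2Wit)).all (witClose g24P2Data g24P2FD) = true := by
  decide +kernel

theorem g24P2_close2 : (block 64 2 (g24P2Data.elts.zip g24P2Wit)).all (witClose g24P2Data g24P2FD) = true := by
  decide +kernel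

theorem g24P2_close3 : (block 64 3 (g24P2Data.elts.zip g24P2Wit)).all (witClose g24P2Data g24P2FD) = true := by
  decide +kernel

theorem g24P2_close4 : (block 64 4 (g24P2Data.elts.zip g24P2Wit)).all (witClose g24P2Data g24P2FD) = true := by
  decide +kernel

theorem g24P2_close5 : (block 64 5 (g24P2Data.elts.zip g24P2Wit)).all (witClose g24P2Data g24P2FD) = true := by
  decide +kernel

theorem g24P2_close6 : (block 64 6 (g24P2Data.elts.zip g24P2Wit)).all (witClose g24P2Data g24P2FD) = true := by
  decide +kernel

theorem g24P2_close7 : (block 64 7 (g24P2Data.elts.zip g24P2Wit)).all (witClose g24P2Data g24P2FD) = true := by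
  decide +kernel

theorem g24P2_ker0 : (block 128 0 g24P2Data.elts).all (witKer 9 416 g24P2Data g24P2FD) = true := by
  decide +kernel

theorem g24P2_ker1 : (block 128 1 g24P2Data.elts).all (witKer 9 416 g24P2Data g24P2FD) = true := by
  decide +kernel

theorem g24P2_ker2 : (block 128 2 g24P2Data.elts).all (witKer 9 416 g24P2Data g24P2FD) = true := by
  decide +kernel

theorem g24P2_ker3 : (block 128 3 g24P2Data.elts).all (witKer 9 416 g24P2Data g24P2FD) = true := by
  decide +kernel

theorem g24P2_derived : derivedFast 9 416 g24P2Data g24P2FD = true :=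
  derivedFast_of_blocks 9 416 g24P2Data g24P2FD (wit := g24P2Wit) 64 8 128 4 (by decide +kernel) g24P2_head
    (fun i hi => match i, hi with
    | 0, _ => g24P2_close0
    | 1, _ => g24P2_close1
    | 2, _ => g24P2_close2
    | 3, _ => g24P2_close3
    | 4, _ => g24P2_close4
    | 5, _ => g24P2_close5
    | 6, _ => g24P2_close6
    | 7, _ => g24P2_close7
    | _ + 8, h => absurd h (by omega))
    (fun i hi => match i, hi with
    | 0, _ => g24P2_ker0
    | 1, _ => g24P2_ker1
    | 2, _ => g24P2_ker2
    | 3, _ => g24P2_ker3
    | _ + 4, h => absurd h (by omega))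


theorem g24P2_orders : certOrder SchurMult.g24Levels / certOrder g24P2Data.levels = 61425 := by decide +kernel

theorem g24P2_ext : g24P2Data.ext.length + 1 = 2 := by decide +kernel

end Cfsg.Agent.SchurMult
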