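import Cfsg.Agent.Lib.SchurMult.J2P2Data
import Cfsg.Agent.Lib.J2.CertData

/-! Kernel checks of the 2-part certificate of J2. -/

set_option autoImplicit false

namespace Cfsg.Agent.SchurMult

open Cfsg.Agent.PermCert Cfsg.Agent.PermSchur

theorem j2P2_base : schurBaseOK 7 100 j2P2Data J2.j2Levels = true := by decide +kernel

theorem j2P2_rows : rowsOK j2P2Data = true := by decide +kernel

theorem j2P2_rels : j2P2Data.rels.all (fun r => match r with
    | .assoc a b c => (a ++ b ++ c).all (fun q => Nat.blt q j2P2Data.a.length) | .fuse .. => true) = true := by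
  decide +kernel

theorem j2P2_derived : derivedOK 7 100 j2P2Data = true := by decide +kernel

theorem j2P2_orders : certOrder J2.j2Levels / certOrder j2P2Data.levels = 4725 := by decide +kernel

theorem j2P2_ext : j2P2Data.ext.length + 1 = 2 := by decide +kernel

end Cfsg.Agent.SchurMult
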