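import Cfsg.Agent.Lib.J2.Centre

/-!
The negation in the icosian reflection group is the square of a product of four reflections, so it
lies in the commutator subgroup.
-/

set_option autoImplicit false

noncomputable section

namespace Cfsg.Agent.SchurMult

open Cfsg.Spor Quaternion Cfsg.Agent.PermCert Cfsg.Agent.J2

/-- The reflections used, the first one applied last. -/
def quadIdx : List (Fin 315) := [169, 173, 260, 200]

/-- Apply reflections in listed lines, recording the integrality conditions. -/
def reflChain : List (Fin 315) → V → Bool × V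
  | [], v => (true, v)
  | i :: is, v =>
    let r := reflChain is v
    (r.1 && r.2.inI && (r.2.ip (lineAt i)).evenB && (r.2.ip (lineAt i)).half.inI, V.refl (lineAt i) r.2)

/-- Twice the coordinate vectors are negated by the square. -/
def quadOK : Bool :=
  allBelow (fun t =>
    let two : Q := ⟨(4, 0), (0, 0), (0, 0), (0, 0)⟩
    let e : V := if t = 0 then ⟨two, Q.zero, Q.zero⟩ else
      if t = 1 then ⟨Q.zero, two, Q.zero⟩ else ⟨Q.zero, Q.zero, two⟩
    let r := reflChain (quadIdx ++ quadIdx) e
    r.1 && decide (r.2 = ⟨e.x.neg, e.y.neg, e.z.neg⟩)) 3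

theorem quad_ok : quadOK = true := by decide +kernel

theorem reflChain_spec : ∀ (L : List (Fin 315)) (v : V) (x : icoLeech),
    (reflChain L v).1 = true → (x : Fin 3 → ℍ[ℝ]) = toV v →
    (((L.map F).prod x : icoLeech) : Fin 3 → ℍ[ℝ]) = toV (reflChain L v).2
  | [], v, x, _, hx => by simpa [reflChain] using hx
  | i :: L, v, x, h, hx => by
    simp only [reflChain, Bool.and_eq_true] at h
    obtain ⟨⟨⟨h0, hI⟩, he⟩, hh⟩ := h
    rw [List.map_cons, List.prod_cons, Equiv.Perm.mul_apply, F_apply, reflChain_spec L v x h0 hx]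
    show _ = toV (V.refl (lineAt i) (reflChain L v).2)
    simp only [lineAt_eq] at hh he ⊢
    rw [toV_refl (lineAt_spec i).2.1 hI he hh]

/-- The product of the four reflections. -/
def quad : twoJ2 :=
  ⟨(quadIdx.map F).prod, list_prod_mem (fun f hf => by
    obtain ⟨i, -, rfl⟩ := List.mem_map.1 hf
    exact F_mem i)⟩

theorem quad_sq : quad * quad = ⟨negP, negP_mem⟩ := by
  refine Subtype.ext (Equiv.ext fun x => Subtype.ext ?_)
  have hmem : ((quad * quad : twoJ2) : Equiv.Perm icoLeech) ∈ twoJ2 := (quad * quad).2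
  rw [coord_scale (a := fun _ => -1) (isAut_of_mem hmem) (fun t => ?_) x, negP_apply]
  · funext t; simp
  · have h0 := quad_ok
    unfold quadOK at h0
    have h := allBelow_spec _ _ h0 t t.2
    simp only [Bool.and_eq_true, decide_eq_true_eq] at h
    obtain ⟨h1, h2⟩ := h
    have e : ((quad * quad : twoJ2) : Equiv.Perm icoLeech) = ((quadIdx ++ quadIdx).map F).prod := by
      rw [List.map_append, List.prod_append]; rfl
    rw [e, reflChain_spec (quadIdx ++ quadIdx) (twoEV t) ⟨twoE t, twoE_mem t⟩ h1 (toV_twoEV t).symm,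
      show (reflChain (quadIdx ++ quadIdx) (twoEV t)).2 = _ from h2]
    funext s
    rw [← toV_twoEV t]
    show toV ⟨(twoEV t).x.neg, (twoEV t).y.neg, (twoEV t).z.neg⟩ s = -1 * toV (twoEV t) s
    fin_cases s <;> simp [toH_neg]

end Cfsg.Agent.SchurMult
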