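import Cfsg.Agent.Lib.Compute.SchurDefs

/-! Certificate for the 11-part of the Schur multiplier of M11. -/

set_option autoImplicit false
set_option maxRecDepth 20000

namespace Cfsg.Agent.SchurMult

open Cfsg.Agent.PermCert Cfsg.Agent.PermSchur

/-- Generators. -/
def m11P11CGens : List Elt :=
  [(932807430638019810482733161566964800, 321327449316406372262627583982634560)]

/-- Derived elements. -/
def m11P11CDerived : List (Elt × List ℕ) :=
  []

/-- Level 0. -/
def m11P11CLevel0 : CLevel :=
  (1, [(932807430638019810482733161566964800, 321327449316406372262627583982634560)],
   [(1, (984818244535754528103549039458486304, 984818244535754528103549039458486304), 0, 0),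
    (2, (932807430638019810482733161566964800, 321327449316406372262627583982634560), 0, 0),
    (3, (604017291752241010623593493224144992, 217371075822704172344108453839554752), 1, 0),
    (16, (734232699530059132247273539104945664, 630485601223115549596387296870472064), 2, 0),
    (13, (897607129220644802126077233387053472, 851194034431657252554952920424198272), 3, 0),
    (8, (802440871040005962365014114675336448, 441647855047046215068271832385065248), 4, 0),
    (9, (441647855047046215068271832385065248, 802440871040005962365014114675336448), 5, 0),
    (4, (851194034431657252554952920424198272, 897607129220644802126077233387053472), 6, 0),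
    (12, (630485601223115549596387296870472064, 734232699530059132247273539104945664), 7, 0),
    (6, (217371075822704172344108453839554752, 604017291752241010623593493224144992), 8, 0),
    (18, (321327449316406372262627583982634560, 932807430638019810482733161566964800), 9, 0)])

/-- The stabiliser chain. -/
def m11P11CLevels : List CLevel :=
  [m11P11CLevel0]

/-- Conjugations. -/
def m11P11Fus : List Fusion :=
  []

/-- Relations. -/
def m11P11Rels : List Rel :=
  []

/-- Derived rows. -/
def m11P11Rows : List (ℕ × List ℤ × List (ℕ × ℤ)) :=
  []

/-- Generators of the derived group. -/
def m11P11Gs : List (List ℕ × List ℤ) :=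
  []

/-- Elements of the derived group. -/
def m11P11Elts : List (List ℕ × List ℤ) :=
  [([], [0])]

/-- The data. -/
def m11P11Data : SchurData where
  p := 11
  a := m11P11CGens
  derived := m11P11CDerived
  levels := m11P11CLevels
  pow := [[]]
  comm := [[]]
  ords := [11]
  fus := m11P11Fus
  nv := 1
  rels := m11P11Rels
  rows := m11P11Rows
  gs := m11P11Gs
  elts := m11P11Elts
  commWit := [[]]
  conjWit := [[]]
  ext := []

end Cfsg.Agent.SchurMult
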