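import Cfsg.Agent.Lib.Compute.SchurDefs

/-! Certificate for the 2-part of the Schur multiplier of M11. -/

set_option autoImplicit false
set_option maxRecDepth 20000

namespace Cfsg.Agent.SchurMult

open Cfsg.Agent.PermCert Cfsg.Agent.PermSchur

/-- Generators. -/
def m11P2CGens : List Elt :=
  [(638312211508220252035264240710852800, 881845758304654955173063657755515264),
    (304383412539821291079733571624636448, 304383412539821291079733571624636448),
    (609427050158290803875579164624004160, 470817062927369605826825589672215680),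
    (310671514129840954554660569122705696, 310671514129840954554660569122705696)]

/-- Derived elements. -/
def m11P2CDerived : List (Elt × List ℕ) :=
  []

/-- Level 0. -/
def m11P2CLevel0 : CLevel :=
  (1, [(638312211508220252035264240710852800, 881845758304654955173063657755515264),
    (304383412539821291079733571624636448, 304383412539821291079733571624636448)],
   [(1, (984818244535754528103549039458486304, 984818244535754528103549039458486304), 0, 0),
    (6, (638312211508220252035264240710852800, 881845758304654955173063657755515264), 0, 0),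
    (2, (609427050158290803875579164624004160, 470817062927369605826825589672215680), 1, 0),
    (8, (886875677059500825496163184119224576, 434496813259532450667896152608847232), 1, 1),
    (4, (601882548367626221930818861778084992, 601882548367626221930818861778084992), 2, 1),
    (9, (983560180527281861326204193106037024, 983560180527281861326204193106037024), 3, 0),
    (12, (434496813259532450667896152608847232, 886875677059500825496163184119224576), 4, 0),
    (13, (653402443111045621098639741151191456, 923523574213069751757869413839253696), 5, 0)])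

/-- Level 1. -/
def m11P2CLevel1 : CLevel :=
  (2, [(304383412539821291079733571624636448, 304383412539821291079733571624636448)],
   [(2, (984818244535754528103549039458486304, 984818244535754528103549039458486304), 0, 0),
    (4, (304383412539821291079733571624636448, 304383412539821291079733571624636448), 0, 0)])

/-- The stabiliser chain. -/
def m11P2CLevels : List CLevel :=
  [m11P2CLevel0, m11P2CLevel1]

/-- Conjugations. -/
def m11P2Fus : List Fusion :=
  []

/-- Relations. -/
def m11P2Rels : List Rel :=
  [Rel.assoc [0] [0] [0],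
   Rel.assoc [2] [1] [0],
   Rel.assoc [2] [2] [2],
   Rel.assoc [2] [1] [1],
   Rel.assoc [1] [1] [0],
   Rel.assoc [1] [0] [0]]

/-- Derived rows. -/
def m11P2Rows : List (ℕ × List ℤ × List (ℕ × ℤ)) :=
  [(9, [0, 0, 0, 0, 0, 0, 0, 0, 0, 1], [(2, 1)]),
   (8, [0, 0, 0, 1, 0, 0, 2, 0, 1, 0], [(3, 1)]),
   (7, [0, 0, 0, 0, 0, 0, 0, 1, 0, 0], [(1, 1)]),
   (6, [0, 0, (-1), (-1), (-2), 0, 1, 0, 0, 0], [(3, 1), (4, 1)]),
   (5, [0, 0, 0, 0, 0, 1, 0, 0, 0, 0], [(0, 1)]),
   (4, [0, 0, 2, 3, 4, 0, 0, 0, 0, 0], [(0, (-1)), (1, (-1)), (2, (-2)), (3, (-1)), (4, (-1)), (5, 1)])]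

/-- Generators of the derived group. -/
def m11P2Gs : List (List ℕ × List ℤ) :=
  [([2], [0, 0, 1, 2, 3, 0, 0, 0, 0, 0])]

/-- Elements of the derived group. -/
def m11P2Elts : List (List ℕ × List ℤ) :=
  [([], [0, 0, 0, 0, 0, 0, 0, 0, 0, 0]),
   ([2], [0, 0, 1, 2, 3, 0, 0, 0, 0, 0]),
   ([3], [0, 0, 1, 1, 2, 0, 0, 0, 0, 0]),
   ([2, 3], [0, 0, 0, 0, 1, 0, 0, 0, 0, 0])]

/-- The data. -/
def m11P2Data : SchurData where
  p := 2
  a := m11P2CGens
  derived := m11P2CDerived
  levels := m11P2CLevels
  pow := [[2], [], [3], []]
  comm := [[], [[0, 1, 2, 3]], [[0, 2], [1, 2, 3]], [[0, 3], [1, 3], [2, 3]]]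
  ords := [8, 2, 4, 2]
  fus := m11P2Fus
  nv := 10
  rels := m11P2Rels
  rows := m11P2Rows
  gs := m11P2Gs
  elts := m11P2Elts
  commWit := [[], [[0]], [[], [0, 0]], [[], [], []]]
  conjWit := [[[0]], [[0, 0, 0]], [[0]], [[0]]]
  ext := []

end Cfsg.Agent.SchurMult
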