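import Cfsg.Agent.Lib.Compute.SchurDefs

/-! Certificate for the 3-part of the Schur multiplier of M11. -/

set_option autoImplicit false
set_option maxRecDepth 20000

namespace Cfsg.Agent.SchurMult

open Cfsg.Agent.PermCert Cfsg.Agent.PermSchur

/-- Generators. -/
def m11P3CGens : List Elt :=
  [(595234988630888461909145627736195200, 227996609770934691942503020412285120),
    (221550289410297402012191048719174720, 601885875835129268478585557547549792)]

/-- Derived elements. -/
def m11P3CDerived : List (Elt × List ℕ) :=
  []

/-- Level 0. -/
def m11P3CLevel0 : CLevel :=
  (1, [(595234988630888461909145627736195200, 227996609770934691942503020412285120),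
    (221550289410297402012191048719174720, 601885875835129268478585557547549792)],
   [(1, (984818244535754528103549039458486304, 984818244535754528103549039458486304), 0, 0),
    (4, (595234988630888461909145627736195200, 227996609770934691942503020412285120), 0, 0),
    (2, (221550289410297402012191048719174720, 601885875835129268478585557547549792), 0, 1),
    (6, (227996609770934691942503020412285120, 595234988630888461909145627736195200), 1, 0),
    (16, (975570416600636104522042024642356736, 969196510957040032812623886447679744), 1, 1),
    (3, (601885875835129268478585557547549792, 221550289410297402012191048719174720), 2, 1),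
    (12, (610928186176604734090881292092776832, 236966030015513512292779407253704992), 3, 1),
    (9, (236966030015513512292779407253704992, 610928186176604734090881292092776832), 4, 1),
    (8, (969196510957040032812623886447679744, 975570416600636104522042024642356736), 6, 1)])

/-- The stabiliser chain. -/
def m11P3CLevels : List CLevel :=
  [m11P3CLevel0]

/-- Conjugations. -/
def m11P3Fus : List Fusion :=
  [⟨(719730630383387936450927071469017152, 850459634532640435218768079450539520), [[0], [1]], [[0], [0, 0, 1, 1]]⟩]

/-- Relations. -/
def m11P3Rels : List Rel :=
  [Rel.fuse 0 [0, 0, 0] [],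
   Rel.fuse 0 [1, 1, 1] [],
   Rel.fuse 0 [1, 0] [0, 1]]

/-- Derived rows. -/
def m11P3Rows : List (ℕ × List ℤ × List (ℕ × ℤ)) :=
  [(4, [2, 1, 6, 0, 3], [(1, 1)]),
   (3, [0, 0, 0, 3, 0], [(0, 1)]),
   (2, [0, 0, 1, 0, 0], [(2, 1)])]

/-- Generators of the derived group. -/
def m11P3Gs : List (List ℕ × List ℤ) :=
  []

/-- Elements of the derived group. -/
def m11P3Elts : List (List ℕ × List ℤ) :=
  [([], [0, 0, 0, 0, 0])]

/-- The data. -/
def m11P3Data : SchurData where
  p := 3
  a := m11P3CGens
  derived := m11P3CDerived
  levels := m11P3CLevels
  pow := [[], []]
  comm := [[], [[0, 1]]]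
  ords := [3, 3]
  fus := m11P3Fus
  nv := 5
  rels := m11P3Rels
  rows := m11P3Rows
  gs := m11P3Gs
  elts := m11P3Elts
  commWit := [[], [[]]]
  conjWit := [[], []]
  ext := []

end Cfsg.Agent.SchurMult
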