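import Cfsg.Agent.Lib.SchurMult.M12CoverData
import Cfsg.Agent.Lib.Golay.Mathieu
import Mathlib.Logic.Equiv.Fin.Basic
import Mathlib.GroupTheory.Perm.Sign

/-! A double cover of the Mathieu group of degree twelve. -/

set_option autoImplicit false

namespace Cfsg.Agent.SchurMult

open Cfsg Cfsg.Agent.PermCert Cfsg.Agent.Golay
open scoped commutatorElement

/-- Pairs of permutations of 24 points as permutations of 48. -/
noncomputable def both : Equiv.Perm (Fin 24) × Equiv.Perm (Fin 24) →* Equiv.Perm (Fin 48) :=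
  (finSumFinEquiv (m := 24) (n := 24)).permCongrHom.toMonoidHom.comp
    (Equiv.Perm.sumCongrHom (Fin 24) (Fin 24))

theorem both_injective : Function.Injective both :=
  (finSumFinEquiv (m := 24) (n := 24)).permCongrHom.injective.comp Equiv.Perm.sumCongrHom_injective

/-- The code of a pair against the codes of its two parts. -/
def pairCodeOK (c a b : Elt) : Bool :=
  validElt 6 48 c && validElt 5 24 a && validElt 5 24 b &&
    allBelow (fun i => Nat.beq (get 6 c.1 i) (get 5 a.1 i) && Nat.beq (get 6 c.1 (24 + i)) (24 + get 5 b.1 i)) 24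

theorem both_code {c a b : Elt} (h : pairCodeOK c a b = true) :
    both (toPerm 5 24 a, toPerm 5 24 b) = toPerm 6 48 c := by
  simp only [pairCodeOK, Bool.and_eq_true] at h
  obtain ⟨⟨⟨hc, ha⟩, hb⟩, hall⟩ := h
  refine Equiv.ext fun x => ?_
  obtain ⟨y, rfl⟩ := (finSumFinEquiv (m := 24) (n := 24)).surjective x
  show finSumFinEquiv (Equiv.sumCongr (toPerm 5 24 a) (toPerm 5 24 b)
    (finSumFinEquiv.symm (finSumFinEquiv y))) = _
  rw [Equiv.symm_apply_apply]
  apply Fin.ext
  rw [← (rep_toPerm hc _).1]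
  rcases y with i | i
  · have := allBelow_spec _ _ hall i i.2
    simp only [Bool.and_eq_true, Nat.beq_eq] at this
    simp only [Equiv.sumCongr_apply, Sum.map_inl, finSumFinEquiv_apply_left, Fin.val_castAdd]
    rw [this.1, (rep_toPerm ha i).1]
  · have := allBelow_spec _ _ hall i i.2
    simp only [Bool.and_eq_true, Nat.beq_eq] at this
    simp only [Equiv.sumCongr_apply, Sum.map_inr, finSumFinEquiv_apply_right, Fin.val_natAdd]
    rw [this.2, (rep_toPerm hb i).1]

/-- The triples of codes of the generators. -/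
def dblTriples : List (Elt × Elt × Elt) := dblGens.zip (dblSigned.zip Cert.m12Gens)

/-- The double cover as pairs of permutations. -/
noncomputable def dblGroup : Subgroup (Equiv.Perm (Fin 24) × Equiv.Perm (Fin 24)) :=
  Subgroup.closure {x | x ∈ dblTriples.map fun t => (toPerm 5 24 t.2.1, toPerm 5 24 t.2.2)}

theorem dbl_cert : checkCert 6 48 dblGens dblDerived dblLevels = true := by decide +kernel

theorem dbl_triples : dblTriples.all (fun t => pairCodeOK t.1 t.2.1 t.2.2) = true := by decide +kernel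

theorem image_list {α β : Type*} (f : α → β) (l : List α) : f '' {x | x ∈ l} = {y | y ∈ l.map f} := by
  ext y
  simp

theorem map_both : dblGroup.map both = genGroup 6 48 dblGens := by
  rw [dblGroup, MonoidHom.map_closure, image_list, List.map_map, genGroup]
  congr 1
  have hfst : dblTriples.map Prod.fst = dblGens := by decide +kernel
  rw [← hfst, List.map_map,
    List.map_congr_left (l := dblTriples) (f := both ∘ fun t => (toPerm 5 24 t.2.1, toPerm 5 24 t.2.2))
      (g := toPerm 6 48 ∘ Prod.fst) fun t ht => both_code (List.all_eq_true.1 dbl_triples t ht)]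

theorem map_snd : dblGroup.map (MonoidHom.snd _ _) = genGroup 5 24 Cert.m12Gens := by
  rw [dblGroup, MonoidHom.map_closure, image_list, List.map_map, genGroup]
  congr 1

theorem card_dblGroup : Nat.card dblGroup = 190080 := by
  rw [Nat.card_congr (dblGroup.equivMapOfInjective both both_injective).toEquiv, map_both,
    cert_card dbl_cert]
  decide +kernel

/-- The projection onto M12. -/
noncomputable def dblHom : dblGroup →* Spor.M12 :=
  (phi.toMonoidHom.comp ((MonoidHom.snd _ _).comp dblGroup.subtype)).codRestrict Spor.M12 fun x => by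
    rw [show Spor.M12 = genPerm Cert.m12Gens from
      ((stabCert_spec m12_ok).1.trans (stabIn_m12.trans sporM12_eq.symm)).symm]
    exact ⟨_, map_snd ▸ ⟨(x : Equiv.Perm (Fin 24) × Equiv.Perm (Fin 24)), x.2, rfl⟩, rfl⟩

theorem dblHom_surjective : Function.Surjective dblHom := by
  rintro ⟨σ, hσ⟩
  rw [← (stabCert_spec m12_ok).1.trans (stabIn_m12.trans sporM12_eq.symm)] at hσ
  obtain ⟨τ, hτ, rfl⟩ := hσ
  rw [← map_snd] at hτ
  obtain ⟨x, hx, rfl⟩ := hτ
  exact ⟨⟨x, hx⟩, rfl⟩

theorem card_dblHom_ker : Nat.card dblHom.ker = 2 := by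
  have h := Subgroup.card_eq_card_quotient_mul_card_subgroup dblHom.ker
  rw [Nat.card_congr (QuotientGroup.quotientKerEquivOfSurjective dblHom dblHom_surjective).toEquiv,
    card_dblGroup, card_sporM12] at h
  omega

theorem dblHom_ker_le_center : dblHom.ker ≤ Subgroup.center dblGroup := by
  intro k hk
  rw [Subgroup.mem_center_iff]
  intro g
  by_cases h1 : k = 1
  · subst h1; simp
  · have hg : g * k * g⁻¹ ∈ dblHom.ker := dblHom.normal_ker.conj_mem k hk g
    obtain ⟨x, -, hu⟩ := Nat.card_eq_two_iff.1 card_dblHom_ker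
    have key : ∀ a b : dblHom.ker, a ≠ 1 → b ≠ 1 → a = b := by
      have h2 := card_dblHom_ker
      haveI : Finite dblHom.ker := Nat.finite_of_card_ne_zero (by omega)
      intro a b ha hb
      obtain ⟨c, hc, huniq⟩ := Nat.card_eq_two_iff' (1 : dblHom.ker) |>.1 h2
      rw [huniq a ha, huniq b hb]
    have := key ⟨_, hg⟩ ⟨k, hk⟩ (fun e => h1 (conj_eq_one_iff.1 (congrArg Subtype.val e)))
      (fun e => h1 (congrArg Subtype.val e))
    have e : g * k * g⁻¹ = k := congrArg Subtype.val this
    exact mul_inv_eq_iff_eq_mul.1 e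

theorem dbl_witness :
    (validElt 6 48 dblX && validElt 6 48 dblY && sift 6 48 dblLevels dblX.1 && sift 6 48 dblLevels dblY.1 &&
      pairCodeOK dblZ dblZ24 (one 5 24) &&
      Nat.beq (mul 6 48 (mul 6 48 dblX dblY) (mul 6 48 (dblX.2, dblX.1) (dblY.2, dblY.1))).1 dblZ.1 &&
      !Nat.beq (get 5 dblZ24.1 0) 0) = true := by decide +kernel

theorem dblHom_nontrivial : dblHom.ker ⊓ commutator dblGroup ≠ ⊥ := by
  have h := dbl_witness
  simp only [Bool.and_eq_true, Bool.not_eq_true', Nat.beq_eq] at h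
  obtain ⟨⟨⟨⟨⟨⟨hx, hy⟩, sx⟩, sy⟩, hz⟩, hxy⟩, hne⟩ := h
  obtain ⟨x, hxm, hxe⟩ : toPerm 6 48 dblX ∈ dblGroup.map both := map_both ▸ cert_mem dbl_cert hx sx
  obtain ⟨y, hym, hye⟩ : toPerm 6 48 dblY ∈ dblGroup.map both := map_both ▸ cert_mem dbl_cert hy sy
  have hinv : ∀ {e : Elt}, validElt 6 48 e = true → Rep 6 (e.2, e.1) (toPerm 6 48 e)⁻¹ := fun {e} he i => by
    rw [inv_inv]; exact ⟨(rep_toPerm he i).2, (rep_toPerm he i).1⟩
  have hzv : validElt 6 48 dblZ = true := by
    simp only [pairCodeOK, Bool.and_eq_true] at hz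
    exact hz.1.1.1
  have hcomm : ⁅toPerm 6 48 dblX, toPerm 6 48 dblY⁆ = toPerm 6 48 dblZ := by
    rw [commutatorElement_def, mul_assoc _ (toPerm 6 48 dblX)⁻¹]
    exact rep_eq_code (rep_mul (rep_mul (rep_toPerm hx) (rep_toPerm hy)) (rep_mul (hinv hx) (hinv hy)))
      (rep_toPerm hzv) hxy
  have he : ⁅x, y⁆ = (toPerm 5 24 dblZ24, toPerm 5 24 (one 5 24)) := both_injective (by
    rw [map_commutatorElement, hxe, hye, hcomm, both_code hz])
  have h1 : toPerm 5 24 (one 5 24) = 1 :=
    rep_unique (rep_toPerm (by decide +kernel)) (rep_one (by norm_num))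
  intro hbot
  let k : dblGroup := ⁅(⟨x, hxm⟩ : dblGroup), (⟨y, hym⟩ : dblGroup)⁆
  have hval : (k : Equiv.Perm (Fin 24) × Equiv.Perm (Fin 24)) = (toPerm 5 24 dblZ24, 1) := by
    rw [← h1, ← he]; rfl
  have hk : k ∈ dblHom.ker ⊓ commutator dblGroup := by
    refine Subgroup.mem_inf.2 ⟨Subtype.ext ?_, Subgroup.commutator_mem_commutator trivial trivial⟩
    show phi (k : Equiv.Perm (Fin 24) × Equiv.Perm (Fin 24)).2 = 1
    rw [hval]
    exact map_one phi
  rw [hbot, Subgroup.mem_bot] at hk
  rw [hk] at hval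
  have h3 : toPerm 5 24 dblZ24 = 1 := (congrArg Prod.fst hval).symm
  have hv24 : validElt 5 24 dblZ24 = true := by
    simp only [pairCodeOK, Bool.and_eq_true] at hz
    exact hz.1.1.2
  have h4 := (rep_toPerm hv24 0).1
  rw [h3] at h4
  rw [show get 5 dblZ24.1 0 = 0 from h4] at hne
  exact Bool.noConfusion hne

end Cfsg.Agent.SchurMult
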