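import Cfsg.Agent.Lib.Compute.SchurDefs

/-! Certificate for the 11-part of the Schur multiplier of M12. -/

set_option autoImplicit false
set_option maxRecDepth 20000

namespace Cfsg.Agent.SchurMult

open Cfsg.Agent.PermCert Cfsg.Agent.PermSchur

/-- Generators. -/
def m12P11CGens : List Elt :=
  [(881990251573649632781305602912960641, 849898028717907514621554874272780296)]

/-- Derived elements. -/
def m12P11CDerived : List (Elt × List ℕ) :=
  []

/-- Level 0. -/
def m12P11CLevel0 : CLevel :=
  (0, [(881990251573649632781305602912960641, 849898028717907514621554874272780296)],
   [(0, (984818244535754528103549039458486304, 984818244535754528103549039458486304), 0, 0),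
    (1, (881990251573649632781305602912960641, 849898028717907514621554874272780296), 0, 0),
    (4, (596736037920414961681538040146905156, 817313330240983337156083970671641869), 1, 0),
    (2, (920637159130298502620289036670373378, 446031940539269290192768021475426726), 2, 0),
    (16, (313310558639162526347994526242845264, 732526281342992297298396842910949580), 3, 0),
    (18, (470115445589649002030904381467007090, 233059108352978263019440040751183235), 4, 0),
    (3, (233059108352978263019440040751183235, 470115445589649002030904381467007090), 5, 0),
    (12, (732526281342992297298396842910949580, 313310558639162526347994526242845264), 6, 0),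
    (6, (446031940539269290192768021475426726, 920637159130298502620289036670373378), 7, 0),
    (13, (817313330240983337156083970671641869, 596736037920414961681538040146905156), 8, 0),
    (8, (849898028717907514621554874272780296, 881990251573649632781305602912960641), 9, 0)])

/-- The stabiliser chain. -/
def m12P11CLevels : List CLevel :=
  [m12P11CLevel0]

/-- Conjugations. -/
def m12P11Fus : List Fusion :=
  []

/-- Relations. -/
def m12P11Rels : List Rel :=
  []

/-- Derived rows. -/
def m12P11Rows : List (ℕ × List ℤ × List (ℕ × ℤ)) :=
  []

/-- Generators of the derived group. -/
def m12P11Gs : List (List ℕ × List ℤ) :=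
  []

/-- Elements of the derived group. -/
def m12P11Elts : List (List ℕ × List ℤ) :=
  [([], [0])]

/-- The data. -/
def m12P11Data : SchurData where
  p := 11
  a := m12P11CGens
  derived := m12P11CDerived
  levels := m12P11CLevels
  pow := [[]]
  comm := [[]]
  ords := [11]
  fus := m12P11Fus
  nv := 1
  rels := m12P11Rels
  rows := m12P11Rows
  gs := m12P11Gs
  elts := m12P11Elts
  commWit := [[]]
  conjWit := [[]]
  ext := []

end Cfsg.Agent.SchurMult
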