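import Cfsg.Agent.Lib.Compute.SchurDefs

/-! Certificate for the 2-part of the Schur multiplier of M12. -/

set_option autoImplicit false
set_option maxRecDepth 20000

namespace Cfsg.Agent.SchurMult

open Cfsg.Agent.PermCert Cfsg.Agent.PermSchur

/-- Generators. -/
def m12P2CGens : List Elt :=
  [(222385980639373302900800334119045155, 222385980639373302900800334119045155),
    (735587421144309950099182594919155744, 735587421144309950099182594919155744),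
    (235869900932881086455334515356637220, 235869900932881086455334515356637220),
    (845458914746647896407861453809361984, 305482809698240746803770261250344128),
    (817399055573594536269006775311773952, 734324290805714659386244954018925056),
    (237110930860796887111752653746575648, 237110930860796887111752653746575648)]

/-- Derived elements. -/
def m12P2CDerived : List (Elt × List ℕ) :=
  [((305482809698240746803770261250344128, 845458914746647896407861453809361984), [3, 3, 3]),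
    ((983553042649537266979977019204733184, 983553042649537266979977019204733184), [6, 1, 3])]

/-- Level 0. -/
def m12P2CLevel0 : CLevel :=
  (0, [(222385980639373302900800334119045155, 222385980639373302900800334119045155),
    (845458914746647896407861453809361984, 305482809698240746803770261250344128),
    (983553042649537266979977019204733184, 983553042649537266979977019204733184)],
   [(0, (984818244535754528103549039458486304, 984818244535754528103549039458486304), 0, 0),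
    (3, (222385980639373302900800334119045155, 222385980639373302900800334119045155), 0, 0),
    (13, (222396050112266467044617336828987661, 221137273076386872689657331435309571), 1, 2),
    (4, (984811819686368639541601192676264452, 984811819686368639541601192676264452), 2, 0)])

/-- Level 1. -/
def m12P2CLevel1 : CLevel :=
  (2, [(845458914746647896407861453809361984, 305482809698240746803770261250344128),
    (983553042649537266979977019204733184, 983553042649537266979977019204733184)],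
   [(2, (984818244535754528103549039458486304, 984818244535754528103549039458486304), 0, 0),
    (9, (845458914746647896407861453809361984, 305482809698240746803770261250344128), 0, 0),
    (6, (237110930860796887111752653746575648, 237110930860796887111752653746575648), 1, 0),
    (16, (596228340198185970107324894793875520, 304217743858263906280731574108849536), 1, 1),
    (1, (305482809698240746803770261250344128, 845458914746647896407861453809361984), 2, 0),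
    (12, (818648408741653738881167552609169696, 818648408741653738881167552609169696), 3, 0),
    (8, (637790037346564844365327260218466496, 844219102973664973545138610416035392), 4, 1),
    (18, (734324290805714659386244954018925056, 817399055573594536269006775311773952), 5, 1)])

/-- Level 2. -/
def m12P2CLevel2 : CLevel :=
  (1, [(983553042649537266979977019204733184, 983553042649537266979977019204733184)],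
   [(1, (984818244535754528103549039458486304, 984818244535754528103549039458486304), 0, 0),
    (8, (983553042649537266979977019204733184, 983553042649537266979977019204733184), 0, 0)])

/-- The stabiliser chain. -/
def m12P2CLevels : List CLevel :=
  [m12P2CLevel0, m12P2CLevel1, m12P2CLevel2]

/-- Conjugations. -/
def m12P2Fus : List Fusion :=
  [⟨(434172435930475149446756788977798729, 313621157443468642060653486292418700), [[0], [1], [2], [4], [5]], [[1, 2, 4, 5], [0, 2], [2, 5], [0, 1, 2], [2]]⟩,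
   ⟨(735145095160821832401464913419477027, 859793111934051394100654935149391917), [[2], [0], [4], [3], [5]], [[0, 2], [2], [3, 4, 5], [4], [5]]⟩]

/-- Relations. -/
def m12P2Rels : List Rel :=
  [Rel.assoc [3] [2] [0],
   Rel.assoc [3] [3] [3],
   Rel.assoc [4] [2] [0],
   Rel.assoc [4] [4] [4],
   Rel.assoc [4] [3] [1],
   Rel.assoc [3] [2] [1],
   Rel.assoc [1] [0] [0],
   Rel.assoc [1] [1] [0],
   Rel.assoc [3] [2] [2],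
   Rel.assoc [4] [1] [1],
   Rel.assoc [3] [1] [0],
   Rel.assoc [3] [1] [1],
   Rel.assoc [3] [3] [1],
   Rel.fuse 0 [0, 0] [],
   Rel.fuse 0 [1, 1] [],
   Rel.fuse 0 [3, 3] [4],
   Rel.fuse 0 [4, 4] [],
   Rel.fuse 0 [1, 0] [0, 1, 2],
   Rel.fuse 0 [3, 0] [0, 3, 4],
   Rel.fuse 1 [0, 0] [],
   Rel.fuse 1 [1, 1] [],
   Rel.fuse 1 [2, 2] [4],
   Rel.fuse 1 [3, 3] [4],
   Rel.fuse 1 [2, 0] [0, 2],
   Rel.fuse 1 [2, 1] [1, 2, 4]]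

/-- Derived rows. -/
def m12P2Rows : List (ℕ × List ℤ × List (ℕ × ℤ)) :=
  [(30, [0, 0, 0, (-1), 0, (-2), 0, 0, 0, 0, 0, 0, 0, 0, 0, (-1), 0, 0, 0, (-1), (-2), 0, 0, 0, 0, 0, 0, 0, (-2), 0, 1], [(21, (-1))]),
   (29, [0, 0, 0, (-2), 1, (-2), 0, 0, 0, 0, 0, 0, 0, 0, 0, (-1), 0, 0, 0, (-1), (-2), 0, 0, 0, 0, 0, 0, 0, (-2), 2, 0], [(21, (-1)), (22, 1)]),
   (28, [0, 0, 0, 1, 0, 2, 0, 0, 0, 0, 0, (-1), 1, 0, (-1), 1, 0, 0, (-1), 1, 1, 0, 0, 0, 0, 0, 0, 0, 2, 0, 0], [(21, 1), (24, (-1))]),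
   (27, [(-1), 0, 1, 0, 0, 0, 0, 0, 0, 0, 0, 0, 0, 0, 0, 0, 0, 0, 0, 0, 0, 0, 0, 0, 0, 0, 0, 2, 0, 0, 0], [(20, 1)]),
   (26, [1, 0, 0, 0, 0, 0, 0, 1, 0, 0, 0, 0, 0, 0, 0, 0, 0, 0, 0, 0, 0, 0, 0, 0, 0, 0, 2, 0, 0, 0, 0], [(19, 1)]),
   (25, [(-1), (-1), (-1), 0, 1, 0, (-1), (-1), 0, 0, 0, 0, 0, 0, 0, 0, 0, 0, 0, 0, 0, 0, 0, 0, (-2), 1, 0, 0, 0, 0, 0], [(15, (-1))]),
   (24, [1, 1, 2, 0, (-1), 1, 2, 2, (-1), 0, 0, 0, 2, 1, 2, 0, 1, 0, 2, 0, 0, 0, 0, 0, 2, 0, 0, 0, 0, 0, 0], [(15, 1), (18, (-1))]),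
   (23, [0, 0, 1, 0, 0, 1, 2, 1, (-1), 0, 0, 0, 1, 0, 2, 0, 1, 0, 0, 0, 0, 0, 0, 1, 0, 0, 0, 0, 0, 0, 0], [(17, (-1))]),
   (22, [1, (-1), 1, 0, 0, 0, 0, 1, 0, 0, 0, 0, 0, 0, 0, 0, 0, 0, 0, 0, 0, 0, 2, 0, 0, 0, 0, 0, 0, 0, 0], [(14, 1)]),
   (21, [(-1), 1, 1, 0, 1, 2, 0, 0, 1, 0, 0, 0, 0, 1, 1, 0, 0, 1, 0, 0, 0, 2, 0, 0, 0, 0, 0, 0, 0, 0, 0], [(13, 1)]),
   (20, [0, 0, 0, 0, 0, 0, 0, 0, 0, 0, 0, 0, 0, 0, 0, 0, 0, 0, 0, 0, 1, 0, 0, 0, 0, 0, 0, 0, 0, 0, 0], [(3, 1)]),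
   (19, [0, 0, 0, 0, 0, 0, 0, 0, 0, 0, 0, 0, 0, 0, 0, 0, 0, 0, 0, 1, 0, 0, 0, 0, 0, 0, 0, 0, 0, 0, 0], [(1, 1)]),
   (18, [0, 0, 0, 0, 0, 0, 0, 0, 0, 0, 0, 0, 0, 0, 0, 0, 0, 0, 1, 0, 0, 0, 0, 0, 0, 0, 0, 0, 0, 0, 0], [(2, (-1))]),
   (17, [0, 0, 0, 0, 0, 0, 0, 0, 0, 0, 0, 0, 0, 0, 0, 0, 0, 1, 0, 0, 0, 0, 0, 0, 0, 0, 0, 0, 0, 0, 0], [(1, 1), (4, 1)]),
   (16, [0, 0, 0, 0, 0, 0, 0, 0, 0, 0, 0, 0, 0, 0, 0, 0, 1, 0, 0, 0, 0, 0, 0, 0, 0, 0, 0, 0, 0, 0, 0], [(0, 1)]),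
   (15, [0, 0, 0, 0, 1, 1, 0, 0, 0, 0, 2, 0, 0, 0, 0, 1, 0, 0, 0, 0, 0, 0, 0, 0, 0, 0, 0, 0, 0, 0, 0], [(1, 1), (3, (-1)), (4, 1), (12, (-1))]),
   (14, [0, 0, 0, 0, 0, 0, 0, 0, 0, 0, 0, 0, 0, 0, 1, 0, 0, 0, 0, 0, 0, 0, 0, 0, 0, 0, 0, 0, 0, 0, 0], [(1, 1), (3, (-1)), (4, 1), (5, (-1))]),
   (13, [0, 0, 0, 0, 1, 1, 0, 0, 0, 0, 2, 0, 0, 1, 0, 0, 0, 0, 0, 0, 0, 0, 0, 0, 0, 0, 0, 0, 0, 0, 0], [(11, 1)]),
   (12, [0, 0, 0, 0, 0, 0, 0, 0, 0, 0, 0, (-1), 1, 0, 0, 0, 0, 0, 0, 0, 0, 0, 0, 0, 0, 0, 0, 0, 0, 0, 0], [(1, 1), (4, 1), (5, (-1)), (10, 1)]),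
   (11, [0, 0, 0, 0, 0, 1, 0, 0, 0, 0, 0, 2, 0, 0, 0, 0, 0, 0, 0, 0, 0, 0, 0, 0, 0, 0, 0, 0, 0, 0, 0], [(2, 1), (8, 1)]),
   (10, [0, 0, 0, 0, 2, 1, 0, 0, 0, 0, 4, 0, 0, 0, 0, 0, 0, 0, 0, 0, 0, 0, 0, 0, 0, 0, 0, 0, 0, 0, 0], [(1, 1), (4, 1), (9, (-1)), (11, 2)]),
   (9, [0, 0, 0, 0, 0, 0, 0, 0, 0, 1, 0, 0, 0, 0, 0, 0, 0, 0, 0, 0, 0, 0, 0, 0, 0, 0, 0, 0, 0, 0, 0], [(0, (-1)), (1, (-1)), (2, (-1)), (3, (-1)), (4, (-1)), (5, 1), (8, (-1)), (10, (-1)), (23, 1)]),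
   (8, [0, 0, 1, 0, 0, 0, 2, 0, 1, 0, 0, 0, 0, 0, 0, 0, 0, 0, 0, 0, 0, 0, 0, 0, 0, 0, 0, 0, 0, 0, 0], [(7, (-1))]),
   (7, [0, 0, 1, 0, 0, 0, 2, 1, 0, 0, 0, 0, 0, 0, 0, 0, 0, 0, 0, 0, 0, 0, 0, 0, 0, 0, 0, 0, 0, 0, 0], [(6, 1)]),
   (6, [0, 0, 1, 0, 0, 0, 2, 0, 0, 0, 0, 0, 0, 0, 0, 0, 0, 0, 0, 0, 0, 0, 0, 0, 0, 0, 0, 0, 0, 0, 0], [(0, (-2)), (1, (-7)), (2, 2), (3, 4), (4, (-7)), (5, 8), (6, (-2)), (7, (-2)), (8, (-2)), (9, (-1)), (10, (-4)), (16, (-1)), (18, (-2))])]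

/-- Generators of the derived group. -/
def m12P2Gs : List (List ℕ × List ℤ) :=
  [([2], [0, 0, 0, 0, 0, 0, 1, 0, 0, 0, 0, 0, 0, 0, 0, 0, 0, 0, 0, 0, 0, 0, 0, 0, 0, 0, 0, 0, 0, 0, 0]),
   ([4], [0, 0, 0, 0, 0, 0, 0, 0, 0, 0, 1, 0, 0, 0, 0, 0, 0, 0, 0, 0, 0, 0, 0, 0, 0, 0, 0, 0, 0, 0, 0]),
   ([5], [0, 0, 0, 0, 0, 0, 0, 0, 0, 0, 0, 1, 0, 0, 0, 0, 0, 0, 0, 0, 0, 0, 0, 0, 0, 0, 0, 0, 0, 0, 0])]

/-- Elements of the derived group. -/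
def m12P2Elts : List (List ℕ × List ℤ) :=
  [([], [0, 0, 0, 0, 0, 0, 0, 0, 0, 0, 0, 0, 0, 0, 0, 0, 0, 0, 0, 0, 0, 0, 0, 0, 0, 0, 0, 0, 0, 0, 0]),
   ([2], [0, 0, 0, 0, 0, 0, 1, 0, 0, 0, 0, 0, 0, 0, 0, 0, 0, 0, 0, 0, 0, 0, 0, 0, 0, 0, 0, 0, 0, 0, 0]),
   ([4], [0, 0, 0, 0, 0, 0, 0, 0, 0, 0, 1, 0, 0, 0, 0, 0, 0, 0, 0, 0, 0, 0, 0, 0, 0, 0, 0, 0, 0, 0, 0]),
   ([5], [0, 0, 0, 0, 0, 0, 0, 0, 0, 0, 0, 1, 0, 0, 0, 0, 0, 0, 0, 0, 0, 0, 0, 0, 0, 0, 0, 0, 0, 0, 0]),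
   ([2, 4], [0, 0, 0, 0, 0, 0, 1, 0, 0, 0, 1, 0, 0, 0, 0, 0, 0, 0, 0, 0, 0, 0, 0, 0, 0, 0, 0, 0, 0, 0, 0]),
   ([2, 5], [0, 0, 0, 0, 0, 0, 1, 0, 0, 0, 0, 1, 0, 0, 0, 0, 0, 0, 0, 0, 0, 0, 0, 0, 0, 0, 0, 0, 0, 0, 0]),
   ([5], [0, 0, 0, 0, 1, 0, 0, 0, 0, 0, 2, 0, 0, 0, 0, 0, 0, 0, 0, 0, 0, 0, 0, 0, 0, 0, 0, 0, 0, 0, 0]),
   ([4, 5], [0, 0, 0, 0, 0, 0, 0, 0, 0, 0, 1, 1, 0, 0, 0, 0, 0, 0, 0, 0, 0, 0, 0, 0, 0, 0, 0, 0, 0, 0, 0]),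
   ([2, 5], [0, 0, 0, 0, 1, 0, 1, 0, 0, 0, 2, 0, 0, 0, 0, 0, 0, 0, 0, 0, 0, 0, 0, 0, 0, 0, 0, 0, 0, 0, 0]),
   ([2, 4, 5], [0, 0, 0, 0, 0, 0, 1, 0, 0, 0, 1, 1, 0, 0, 0, 0, 0, 0, 0, 0, 0, 0, 0, 0, 0, 0, 0, 0, 0, 0, 0]),
   ([4, 5], [0, 0, 0, 0, 1, 0, 0, 0, 0, 0, 3, 0, 0, 0, 0, 0, 0, 0, 0, 0, 0, 0, 0, 0, 0, 0, 0, 0, 0, 0, 0]),
   ([], [0, 0, 0, 0, 1, 1, 0, 0, 0, 0, 2, 1, 0, 0, 0, 0, 0, 0, 0, 0, 0, 0, 0, 0, 0, 0, 0, 0, 0, 0, 0]),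
   ([2, 4, 5], [0, 0, 0, 0, 1, 0, 1, 0, 0, 0, 3, 0, 0, 0, 0, 0, 0, 0, 0, 0, 0, 0, 0, 0, 0, 0, 0, 0, 0, 0, 0]),
   ([2], [0, 0, 0, 0, 1, 1, 1, 0, 0, 0, 2, 1, 0, 0, 0, 0, 0, 0, 0, 0, 0, 0, 0, 0, 0, 0, 0, 0, 0, 0, 0]),
   ([4], [0, 0, 0, 0, 1, 1, 0, 0, 0, 0, 3, 1, 0, 0, 0, 0, 0, 0, 0, 0, 0, 0, 0, 0, 0, 0, 0, 0, 0, 0, 0]),
   ([2, 4], [0, 0, 0, 0, 1, 1, 1, 0, 0, 0, 3, 1, 0, 0, 0, 0, 0, 0, 0, 0, 0, 0, 0, 0, 0, 0, 0, 0, 0, 0, 0])]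

/-- The data. -/
def m12P2Data : SchurData where
  p := 2
  a := m12P2CGens
  derived := m12P2CDerived
  levels := m12P2CLevels
  pow := [[], [], [], [5], [5], []]
  comm := [[], [[0, 1, 2]], [[0, 2], [1, 2]], [[0, 3], [1, 3, 4], [2, 3, 5]], [[0, 4, 5], [1, 4, 5], [2, 4], [3, 4, 5]], [[0, 5], [1, 5], [2, 5], [3, 5], [4, 5]]]
  ords := [2, 2, 2, 4, 4, 2]
  fus := m12P2Fus
  nv := 31
  rels := m12P2Rels
  rows := m12P2Rows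
  gs := m12P2Gs
  elts := m12P2Elts
  commWit := [[], [[0]], [[], []], [[], [1], [2]], [[2], [1, 1], [], [1, 1]], [[], [], [], [], []]]
  conjWit := [[[0], [1, 2], [2]], [[0], [1, 1, 1], [2]], [[0], [1], [2]], [[0, 2], [1, 1, 1], [2]], [[0], [1], [2]], [[0], [1], [2]]]
  ext := [[0, 0, 0, 0, 1, 1, 0, 0, 0, 0, 2, 1, 0, 0, 0, 0, 0, 0, 0, 0, 0, 0, 0, 0, 0, 0, 0, 0, 0, 0, 0]]

end Cfsg.Agent.SchurMult
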