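import Cfsg.Agent.Lib.Compute.SchurDefs

/-! Certificate for the 5-part of the Schur multiplier of M12. -/

set_option autoImplicit false
set_option maxRecDepth 20000

namespace Cfsg.Agent.SchurMult

open Cfsg.Agent.PermCert Cfsg.Agent.PermSchur

/-- Generators. -/
def m12P5CGens : List Elt :=
  [(633080855787830808858696599296288258, 817204054910548970508731158437757197)]

/-- Derived elements. -/
def m12P5CDerived : List (Elt × List ℕ) :=
  []

/-- Level 0. -/
def m12P5CLevel0 : CLevel :=
  (0, [(633080855787830808858696599296288258, 817204054910548970508731158437757197)],
   [(0, (984818244535754528103549039458486304, 984818244535754528103549039458486304), 0, 0),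
    (2, (633080855787830808858696599296288258, 817204054910548970508731158437757197), 0, 0),
    (9, (226174837441973464354290491713433801, 438044491447007929493378564805375084), 1, 0),
    (12, (438044491447007929493378564805375084, 226174837441973464354290491713433801), 2, 0),
    (13, (817204054910548970508731158437757197, 633080855787830808858696599296288258), 3, 0)])

/-- The stabiliser chain. -/
def m12P5CLevels : List CLevel :=
  [m12P5CLevel0]

/-- Conjugations. -/
def m12P5Fus : List Fusion :=
  []

/-- Relations. -/
def m12P5Rels : List Rel :=
  []

/-- Derived rows. -/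
def m12P5Rows : List (ℕ × List ℤ × List (ℕ × ℤ)) :=
  []

/-- Generators of the derived group. -/
def m12P5Gs : List (List ℕ × List ℤ) :=
  []

/-- Elements of the derived group. -/
def m12P5Elts : List (List ℕ × List ℤ) :=
  [([], [0])]

/-- The data. -/
def m12P5Data : SchurData where
  p := 5
  a := m12P5CGens
  derived := m12P5CDerived
  levels := m12P5CLevels
  pow := [[]]
  comm := [[]]
  ords := [5]
  fus := m12P5Fus
  nv := 1
  rels := m12P5Rels
  rows := m12P5Rows
  gs := m12P5Gs
  elts := m12P5Elts
  commWit := [[]]
  conjWit := [[]]
  ext := []

end Cfsg.Agent.SchurMult
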