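import Cfsg.Agent.Lib.SchurMult.M22I2Data
import Cfsg.Agent.Lib.Golay.MathieuData

/-! Kernel checks of the induced extension of M22 for the prime 2. -/

set_option autoImplicit false
set_option maxRecDepth 100000

namespace Cfsg.Agent.SchurMult

open Cfsg.Agent.PermCert Cfsg.Agent.PermInd

theorem m22I2_base : baseOK 5 24 Golay.Cert.m22Gens Golay.Cert.m22Levels m22I2Data = true := by decide +kernel

theorem m22I2_words0 : wordsOK 5 24 Golay.Cert.m22Gens m22I2Data m22I2Test0 = true := by decide +kernel

theorem m22I2_wit0 : allBelow (witOK m22I2Data m22I2Test0) 3465 = true := by decide +kernel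

theorem m22I2_span : spanOK m22I2Data = true := by decide +kernel

theorem m22I2_cos0 : allBelow (fun i => cosetOK 5 24 Golay.Cert.m22Gens m22I2Data (0 + i)) 256 = true := by decide +kernel

theorem m22I2_cos1 : allBelow (fun i => cosetOK 5 24 Golay.Cert.m22Gens m22I2Data (256 + i)) 256 = true := by decide +kernel

theorem m22I2_cos2 : allBelow (fun i => cosetOK 5 24 Golay.Cert.m22Gens m22I2Data (512 + i)) 256 = true := by decide +kernel

theorem m22I2_cos3 : allBelow (fun i => cosetOK 5 24 Golay.Cert.m22Gens m22I2Data (768 + i)) 256 = true := by decide +kernel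

theorem m22I2_cos4 : allBelow (fun i => cosetOK 5 24 Golay.Cert.m22Gens m22I2Data (1024 + i)) 256 = true := by decide +kernel

theorem m22I2_cos5 : allBelow (fun i => cosetOK 5 24 Golay.Cert.m22Gens m22I2Data (1280 + i)) 256 = true := by decide +kernel

theorem m22I2_cos6 : allBelow (fun i => cosetOK 5 24 Golay.Cert.m22Gens m22I2Data (1536 + i)) 256 = true := by decide +kernel

theorem m22I2_cos7 : allBelow (fun i => cosetOK 5 24 Golay.Cert.m22Gens m22I2Data (1792 + i)) 256 = true := by decide +kernel

theorem m22I2_cos8 : allBelow (fun i => cosetOK 5 24 Golay.Cert.m22Gens m22I2Data (2048 + i)) 256 = true := by decide +kernel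

theorem m22I2_cos9 : allBelow (fun i => cosetOK 5 24 Golay.Cert.m22Gens m22I2Data (2304 + i)) 256 = true := by decide +kernel

theorem m22I2_cos10 : allBelow (fun i => cosetOK 5 24 Golay.Cert.m22Gens m22I2Data (2560 + i)) 256 = true := by decide +kernel

theorem m22I2_cos11 : allBelow (fun i => cosetOK 5 24 Golay.Cert.m22Gens m22I2Data (2816 + i)) 256 = true := by decide +kernel

theorem m22I2_cos12 : allBelow (fun i => cosetOK 5 24 Golay.Cert.m22Gens m22I2Data (3072 + i)) 256 = true := by decide +kernel

theorem m22I2_cos13 : allBelow (fun i => cosetOK 5 24 Golay.Cert.m22Gens m22I2Data (3328 + i)) 137 = true := by decide +kernel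

theorem m22I2_cosets : ∀ i < m22I2Data.m, cosetOK 5 24 Golay.Cert.m22Gens m22I2Data i = true := by
  intro i hi
  replace hi : i < 3465 := hi
  rcases Nat.lt_or_ge i 256 with h | h
  · have := allBelow_spec _ _ m22I2_cos0 (i - 0) (by omega)
    rwa [Nat.add_sub_cancel' (by omega : 0 ≤ i)] at this
  rcases Nat.lt_or_ge i 512 with h | h
  · have := allBelow_spec _ _ m22I2_cos1 (i - 256) (by omega)
    rwa [Nat.add_sub_cancel' (by omega : 256 ≤ i)] at this
  rcases Nat.lt_or_ge i 768 with h | h
  · have := allBelow_spec _ _ m22I2_cos2 (i - 512) (by omega)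
    rwa [Nat.add_sub_cancel' (by omega : 512 ≤ i)] at this
  rcases Nat.lt_or_ge i 1024 with h | h
  · have := allBelow_spec _ _ m22I2_cos3 (i - 768) (by omega)
    rwa [Nat.add_sub_cancel' (by omega : 768 ≤ i)] at this
  rcases Nat.lt_or_ge i 1280 with h | h
  · have := allBelow_spec _ _ m22I2_cos4 (i - 1024) (by omega)
    rwa [Nat.add_sub_cancel' (by omega : 1024 ≤ i)] at this
  rcases Nat.lt_or_ge i 1536 with h | h
  · have := allBelow_spec _ _ m22I2_cos5 (i - 1280) (by omega)
    rwa [Nat.add_sub_cancel' (by omega : 1280 ≤ i)] at this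
  rcases Nat.lt_or_ge i 1792 with h | h
  · have := allBelow_spec _ _ m22I2_cos6 (i - 1536) (by omega)
    rwa [Nat.add_sub_cancel' (by omega : 1536 ≤ i)] at this
  rcases Nat.lt_or_ge i 2048 with h | h
  · have := allBelow_spec _ _ m22I2_cos7 (i - 1792) (by omega)
    rwa [Nat.add_sub_cancel' (by omega : 1792 ≤ i)] at this
  rcases Nat.lt_or_ge i 2304 with h | h
  · have := allBelow_spec _ _ m22I2_cos8 (i - 2048) (by omega)
    rwa [Nat.add_sub_cancel' (by omega : 2048 ≤ i)] at this
  rcases Nat.lt_or_ge i 2560 with h | h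
  · have := allBelow_spec _ _ m22I2_cos9 (i - 2304) (by omega)
    rwa [Nat.add_sub_cancel' (by omega : 2304 ≤ i)] at this
  rcases Nat.lt_or_ge i 2816 with h | h
  · have := allBelow_spec _ _ m22I2_cos10 (i - 2560) (by omega)
    rwa [Nat.add_sub_cancel' (by omega : 2560 ≤ i)] at this
  rcases Nat.lt_or_ge i 3072 with h | h
  · have := allBelow_spec _ _ m22I2_cos11 (i - 2816) (by omega)
    rwa [Nat.add_sub_cancel' (by omega : 2816 ≤ i)] at this
  rcases Nat.lt_or_ge i 3328 with h | h
  · have := allBelow_spec _ _ m22I2_cos12 (i - 3072) (by omega)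
    rwa [Nat.add_sub_cancel' (by omega : 3072 ≤ i)] at this
  have := allBelow_spec _ _ m22I2_cos13 (i - 3328) (by omega)
  rwa [Nat.add_sub_cancel' (by omega : 3328 ≤ i)] at this

theorem m22I2_wits : ∀ T ∈ m22I2Data.tests, ∀ i < m22I2Data.m, witOK m22I2Data T i = true := by
  intro T hT
  simp only [m22I2Data, List.mem_cons, List.not_mem_nil, or_false] at hT
  rcases hT with rfl
  · exact allBelow_spec _ _ m22I2_wit0

theorem m22I2_words : ∀ T ∈ m22I2Data.tests, wordsOK 5 24 Golay.Cert.m22Gens m22I2Data T = true := by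
  intro T hT
  simp only [m22I2Data, List.mem_cons, List.not_mem_nil, or_false] at hT
  rcases hT with rfl
  · exact m22I2_words0

end Cfsg.Agent.SchurMult
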