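import Cfsg.Agent.Lib.SchurMult.M22I3Data
import Cfsg.Agent.Lib.Golay.MathieuData

/-! Kernel checks of the induced extension of M22 for the prime 3. -/

set_option autoImplicit false
set_option maxRecDepth 100000

namespace Cfsg.Agent.SchurMult

open Cfsg.Agent.PermCert Cfsg.Agent.PermInd

theorem m22I3_base : baseOK 5 24 Golay.Cert.m22Gens Golay.Cert.m22Levels m22I3Data = true := by decide +kernel

theorem m22I3_words0 : wordsOK 5 24 Golay.Cert.m22Gens m22I3Data m22I3Test0 = true := by decide +kernel

theorem m22I3_wit0 : allBelow (witOK m22I3Data m22I3Test0) 22 = true := by decide +kernel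

theorem m22I3_span : spanOK m22I3Data = true := by decide +kernel

theorem m22I3_cos0 : allBelow (fun i => cosetOK 5 24 Golay.Cert.m22Gens m22I3Data (0 + i)) 22 = true := by decide +kernel

theorem m22I3_cosets : ∀ i < m22I3Data.m, cosetOK 5 24 Golay.Cert.m22Gens m22I3Data i = true := by
  intro i hi
  replace hi : i < 22 := hi
  have := allBelow_spec _ _ m22I3_cos0 (i - 0) (by omega)
  rwa [Nat.add_sub_cancel' (by omega : 0 ≤ i)] at this

theorem m22I3_wits : ∀ T ∈ m22I3Data.tests, ∀ i < m22I3Data.m, witOK m22I3Data T i = true := by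
  intro T hT
  simp only [m22I3Data, List.mem_cons, List.not_mem_nil, or_false] at hT
  rcases hT with rfl
  · exact allBelow_spec _ _ m22I3_wit0

theorem m22I3_words : ∀ T ∈ m22I3Data.tests, wordsOK 5 24 Golay.Cert.m22Gens m22I3Data T = true := by
  intro T hT
  simp only [m22I3Data, List.mem_cons, List.not_mem_nil, or_false] at hT
  rcases hT with rfl
  · exact m22I3_words0

end Cfsg.Agent.SchurMult
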