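import Cfsg.Agent.Lib.Compute.SchurDefs

/-! Certificate for the 11-part of the Schur multiplier of M22. -/

set_option autoImplicit false
set_option maxRecDepth 20000

namespace Cfsg.Agent.SchurMult

open Cfsg.Agent.PermCert Cfsg.Agent.PermSchur

/-- Generators. -/
def m22P11CGens : List Elt :=
  [(961112644879047550232713953082554432, 959501861705260233062699330395768192)]

/-- Derived elements. -/
def m22P11CDerived : List (Elt × List ℕ) :=
  []

/-- Level 0. -/
def m22P11CLevel0 : CLevel :=
  (1, [(961112644879047550232713953082554432, 959501861705260233062699330395768192)],
   [(1, (984818244535754528103549039458486304, 984818244535754528103549039458486304), 0, 0),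
    (2, (961112644879047550232713953082554432, 959501861705260233062699330395768192), 0, 0),
    (14, (975347235352291321404092137877941696, 979087027681962191381243889498436000), 1, 0),
    (11, (976219396183491257943819935609767264, 965298354667274301477620652746028704), 2, 0),
    (17, (980143937837173071247844881723839008, 969056380324906378289303284325078176), 3, 0),
    (20, (963754919906578507725858803744875136, 967512913413374803776556553430308096), 4, 0),
    (8, (967512913413374803776556553430308096, 963754919906578507725858803744875136), 5, 0),
    (5, (969056380324906378289303284325078176, 980143937837173071247844881723839008), 6, 0),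
    (21, (965298354667274301477620652746028704, 976219396183491257943819935609767264), 7, 0),
    (13, (979087027681962191381243889498436000, 975347235352291321404092137877941696), 8, 0),
    (12, (959501861705260233062699330395768192, 961112644879047550232713953082554432), 9, 0)])

/-- The stabiliser chain. -/
def m22P11CLevels : List CLevel :=
  [m22P11CLevel0]

/-- Conjugations. -/
def m22P11Fus : List Fusion :=
  []

/-- Relations. -/
def m22P11Rels : List Rel :=
  []

/-- Derived rows. -/
def m22P11Rows : List (ℕ × List ℤ × List (ℕ × ℤ)) :=
  []

/-- Generators of the derived group. -/
def m22P11Gs : List (List ℕ × List ℤ) :=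
  []

/-- Elements of the derived group. -/
def m22P11Elts : List (List ℕ × List ℤ) :=
  [([], [0])]

/-- The data. -/
def m22P11Data : SchurData where
  p := 11
  a := m22P11CGens
  derived := m22P11CDerived
  levels := m22P11CLevels
  pow := [[]]
  comm := [[]]
  ords := [11]
  fus := m22P11Fus
  nv := 1
  rels := m22P11Rels
  rows := m22P11Rows
  gs := m22P11Gs
  elts := m22P11Elts
  commWit := [[]]
  conjWit := [[]]
  ext := []

end Cfsg.Agent.SchurMult
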