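import Cfsg.Agent.Lib.Compute.SchurDefs

/-! Certificate for the 2-part of the Schur multiplier of M22. -/

set_option autoImplicit false
set_option maxRecDepth 20000

namespace Cfsg.Agent.SchurMult

open Cfsg.Agent.PermCert Cfsg.Agent.PermSchur

/-- Generators. -/
def m22P2CGens : List Elt :=
  [(983549310955746530506231437997410400, 983549310955746530506231437997410400),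
    (965332909615174370371549086978620448, 965332909615174370371549086978620448),
    (959669049204878668619794307547859104, 965303742593803969272715806323182080),
    (965995967454161196873229362941626400, 965995967454161196873229362941626400),
    (978205905600333181674125866675111968, 978205905600333181674125866675111968),
    (966429688416125693221214370123909408, 966429688416125693221214370123909408),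
    (963913421839742021110178612204767552, 963913421839742021110178612204767552)]

/-- Derived elements. -/
def m22P2CDerived : List (Elt × List ℕ) :=
  []

/-- Level 0. -/
def m22P2CLevel0 : CLevel :=
  (1, [(983549310955746530506231437997410400, 983549310955746530506231437997410400),
    (965332909615174370371549086978620448, 965332909615174370371549086978620448),
    (965995967454161196873229362941626400, 965995967454161196873229362941626400),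
    (978205905600333181674125866675111968, 978205905600333181674125866675111968)],
   [(1, (984818244535754528103549039458486304, 984818244535754528103549039458486304), 0, 0),
    (3, (983549310955746530506231437997410400, 983549310955746530506231437997410400), 0, 0),
    (6, (982948163989945236996007639407180992, 969272753188081276523087115397446752), 1, 1),
    (7, (962214567536740451004835687322126560, 976855920692516860663491468481333344), 1, 2),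
    (13, (979446919213831497832070312779352480, 962130829552600453844720510417799264), 1, 3),
    (18, (984352718064796991604192366188150336, 984352718064796991604192366188150336), 2, 0),
    (17, (962002461236443600673598983247019552, 967406863601720402997033285562580064), 2, 2),
    (8, (979222828116200702871151916924058880, 981604754934962586355670025325001824), 2, 3),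
    (10, (978110891245798823930839521778829632, 978110891245798823930839521778829632), 3, 0),
    (22, (976689862294473494714103637677752000, 957386946304080241891110972941319264), 3, 1),
    (11, (976399187680072202730711228888418656, 979086600691529265480098845298395232), 3, 3),
    (9, (963387063368082621101350499458844960, 963387063368082621101350499458844960), 4, 0),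
    (16, (966199645098483427595221587189808640, 978268084228339355249994741782396480), 5, 2),
    (21, (977876568369416553137133662849384096, 965814884681973360182675876354571840), 5, 3),
    (5, (977513437241308819242662391745461408, 966153161689148877299594699161583264), 6, 0),
    (20, (966498834775615214497544928352111232, 966498834775615214497544928352111232), 10, 0)])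

/-- Level 1. -/
def m22P2CLevel1 : CLevel :=
  (2, [(965332909615174370371549086978620448, 965332909615174370371549086978620448),
    (965995967454161196873229362941626400, 965995967454161196873229362941626400),
    (978205905600333181674125866675111968, 978205905600333181674125866675111968)],
   [(2, (984818244535754528103549039458486304, 984818244535754528103549039458486304), 0, 0),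
    (15, (965332909615174370371549086978620448, 965332909615174370371549086978620448), 0, 0)])

/-- Level 2. -/
def m22P2CLevel2 : CLevel :=
  (3, [(965995967454161196873229362941626400, 965995967454161196873229362941626400),
    (978205905600333181674125866675111968, 978205905600333181674125866675111968)],
   [(3, (984818244535754528103549039458486304, 984818244535754528103549039458486304), 0, 0),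
    (7, (965995967454161196873229362941626400, 965995967454161196873229362941626400), 0, 0),
    (13, (978205905600333181674125866675111968, 978205905600333181674125866675111968), 0, 1),
    (11, (963845622359010745715224433038559264, 963845622359010745715224433038559264), 1, 1)])

/-- The stabiliser chain. -/
def m22P2CLevels : List CLevel :=
  [m22P2CLevel0, m22P2CLevel1, m22P2CLevel2]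

/-- Conjugations. -/
def m22P2Fus : List Fusion :=
  [⟨(964886794227531160214280336532836864, 966428222709778871627896800269251136), [[0], [4], [5], [1, 4], [2, 4], [6]], [[0], [1, 6], [2, 4, 5], [4, 6], [5, 6], [6]]⟩,
   ⟨(983011963691726780976683933648750816, 980961801153739973411036800388565504), [[3, 6], [4, 5], [3, 4], [3]], [[5], [5, 6], [4, 5], [3, 4, 5, 6]]⟩]

/-- Relations. -/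
def m22P2Rels : List Rel :=
  [Rel.assoc [2] [2] [2],
   Rel.assoc [5] [3] [0],
   Rel.assoc [5] [4] [1],
   Rel.assoc [4] [1] [1],
   Rel.assoc [5] [0] [0],
   Rel.assoc [4] [2] [1],
   Rel.assoc [4] [3] [0],
   Rel.assoc [5] [3] [1],
   Rel.assoc [2] [0] [0],
   Rel.assoc [3] [0] [0],
   Rel.assoc [3] [1] [1],
   Rel.assoc [3] [3] [0],
   Rel.assoc [3] [3] [1],
   Rel.assoc [4] [0] [0],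
   Rel.assoc [4] [4] [0],
   Rel.assoc [4] [2] [0],
   Rel.assoc [2] [1] [0],
   Rel.assoc [3] [3] [2],
   Rel.assoc [3] [1] [0],
   Rel.assoc [1] [0] [0],
   Rel.assoc [1] [1] [0],
   Rel.fuse 0 [0, 0] [],
   Rel.fuse 0 [1, 1] [],
   Rel.fuse 0 [2, 2] [],
   Rel.fuse 0 [3, 3] [],
   Rel.fuse 0 [1, 0] [0, 1, 2],
   Rel.fuse 0 [3, 0] [0, 3, 4, 5],
   Rel.fuse 0 [3, 2] [2, 3, 5],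
   Rel.fuse 1 [0, 0] [],
   Rel.fuse 1 [1, 1] [],
   Rel.fuse 1 [2, 2] [],
   Rel.fuse 1 [3, 3] [],
   Rel.fuse 1 [1, 0] [0, 1]]

/-- Derived rows. -/
def m22P2Rows : List (ℕ × List ℤ × List (ℕ × ℤ)) :=
  [(37, [0, 0, 0, 0, 1, 1, 1, 0, 0, 0, 0, 0, 0, 0, 0, 0, 1, 0, 0, 0, 1, 1, 0, 0, 0, 1, 1, 1, 0, 0, 0, 0, 0, 0, 0, 0, 0, 2], [(31, 1)]),
   (36, [0, 0, 0, (-1), 0, 1, 0, 0, 0, 0, 0, 0, 0, 0, 0, 0, (-1), 0, 0, 0, 0, 1, 0, 0, 0, 0, 0, 0, 0, 0, 0, 0, 0, 0, 0, 0, 2, 0], [(30, 1)]),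
   (35, [0, 0, 0, 0, (-1), 0, 1, 0, 0, 0, 0, 0, 0, 0, 0, 0, 0, 0, 0, 0, 0, (-1), 0, 0, 0, 0, 0, 1, 0, 0, 0, 0, 0, 0, 0, 2, 0, 0], [(29, 1)]),
   (34, [0, 0, 0, (-1), 0, 1, (-1), 0, 0, 0, 0, 0, 0, 0, 0, 0, 0, 0, 0, 0, 0, 0, 0, 0, 0, (-1), 0, 0, 0, 0, 0, 0, 0, 0, 2, 0, 0, 0], [(28, 1)]),
   (33, [0, 0, 0, 0, 0, 1, 0, 1, 0, 0, 0, 0, 0, 0, 0, (-1), 0, 0, 0, 0, 0, 1, (-1), 0, 0, 0, (-1), 1, 0, 0, 0, 0, 1, 1, 0, 0, 0, 0], [(26, (-1))]),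
   (32, [0, 0, 0, 0, 0, 1, 1, 1, 0, 0, 0, 0, 0, 0, 0, 0, 0, 0, 1, 0, 0, 1, (-1), 0, 1, 0, 0, 1, 0, 0, 0, 0, 1, 0, 0, 0, 0, 0], [(26, (-1)), (27, 1)]),
   (31, [0, (-1), 0, 0, 0, 0, 1, 0, 0, 0, 0, 0, 0, 0, (-1), 0, 0, 0, 0, 0, 0, 0, 0, 0, 0, 0, 1, 0, 0, 0, 0, 2, 0, 0, 0, 0, 0, 0], [(24, 1)]),
   (30, [0, 0, 0, 0, 0, 0, 0, (-1), 0, 0, 0, 0, 0, 1, 0, 0, 0, 0, 0, 0, 0, 0, (-1), 0, 1, 0, 1, 1, 0, 0, 1, 0, 0, 0, 0, 0, 0, 0], [(25, (-1))]),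
   (29, [0, 1, 0, 0, (-1), 0, 1, 0, 0, 0, 0, 0, 0, 0, 0, 0, 0, 0, 0, 0, 0, 0, 0, 1, 0, 0, 0, 0, 0, 2, 0, 0, 0, 0, 0, 0, 0, 0], [(22, 1)]),
   (28, [0, 0, 0, 0, 0, 0, 0, 0, 0, 0, 0, 0, 0, 0, 0, 0, 0, 0, 0, 0, 0, 0, 0, 0, 0, 0, 0, 0, 2, 0, 0, 0, 0, 0, 0, 0, 0, 0], [(21, 1)]),
   (27, [0, 0, 0, 0, 0, 0, 0, 0, 0, 0, 0, 0, 0, 0, 0, 0, 0, 0, 0, 0, 0, 0, 0, 0, 0, 0, 0, 1, 0, 0, 0, 0, 0, 0, 0, 0, 0, 0], [(1, 1)]),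
   (26, [0, 0, 0, 0, 0, 0, 0, 0, 0, 0, 0, 0, 0, 0, 0, 0, 0, 0, 0, 0, 0, 0, 0, 0, 0, 0, 1, 0, 0, 0, 0, 0, 0, 0, 0, 0, 0, 0], [(2, (-1))]),
   (25, [0, 0, 0, 0, 0, 0, 0, 0, 0, 0, 0, 0, 0, 0, 0, 0, 0, 0, 0, 0, 0, 1, 0, 0, 0, 1, 0, 0, 0, 0, 0, 0, 0, 0, 0, 0, 0, 0], [(2, 1), (7, (-1))]),
   (24, [0, 0, 0, 0, 0, 0, 0, 0, 0, 0, 0, 0, 0, 0, 0, 0, 0, 0, 0, 0, 0, 0, 0, 0, 1, 0, 0, 0, 0, 0, 0, 0, 0, 0, 0, 0, 0, 0], [(0, 1)]),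
   (23, [0, 0, 0, 0, 0, 0, 0, 0, 0, 0, 0, 0, 0, 0, 0, 0, 0, 0, 0, 0, 0, 0, 0, 1, 0, 0, 0, 0, 0, 0, 0, 0, 0, 0, 0, 0, 0, 0], [(2, 1), (5, 1)]),
   (22, [0, 0, 0, 0, 0, 0, 1, 0, 0, 0, 2, 0, 0, 0, 0, 0, 0, 0, 0, 0, 0, 0, 1, 0, 0, 0, 0, 0, 0, 0, 0, 0, 0, 0, 0, 0, 0, 0], [(9, 1)]),
   (21, [0, 0, 0, 0, 0, 0, (-1), 0, 0, 0, (-2), 0, 0, 0, 0, 0, 0, 0, 0, 0, 0, 1, 0, 0, 0, 0, 0, 0, 0, 0, 0, 0, 0, 0, 0, 0, 0, 0], [(2, 1), (7, (-1)), (11, 1)]),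
   (20, [0, 0, 0, 0, 0, 0, 0, 0, 0, 0, 0, 0, 0, 0, 0, 0, 0, 0, 0, 0, 1, 0, 0, 0, 0, 0, 0, 0, 0, 0, 0, 0, 0, 0, 0, 0, 0, 0], [(1, 1), (2, (-1)), (6, (-1))]),
   (19, [0, 0, 0, 0, 0, 0, 0, 0, 0, 0, 0, 0, 0, 0, 0, 0, 0, 0, 0, 1, 0, 0, 0, 0, 0, 0, 0, 0, 0, 0, 0, 0, 0, 0, 0, 0, 0, 0], [(1, (-2)), (2, 1), (7, (-1)), (9, 1), (11, 1), (15, (-1))]),
   (18, [0, 0, 0, 0, 0, 0, 2, 0, 0, 0, 4, 0, 0, 0, 0, (-1), 0, 0, 1, 0, 0, 0, 0, 0, 0, 0, 0, 0, 0, 0, 0, 0, 0, 0, 0, 0, 0, 0], [(1, (-3)), (2, (-1)), (7, 1), (9, 1), (11, (-1)), (16, (-1))]),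
   (17, [0, 0, 0, 0, 0, 1, 0, 0, 2, 0, 0, 0, 0, 0, 0, 0, 0, 1, 0, 0, 0, 0, 0, 0, 0, 0, 0, 0, 0, 0, 0, 0, 0, 0, 0, 0, 0, 0], [(8, 1)]),
   (16, [0, 0, 0, 0, 1, 0, 0, 0, 0, 0, 0, 2, 0, 0, 0, 0, 1, 0, 0, 0, 0, 0, 0, 0, 0, 0, 0, 0, 0, 0, 0, 0, 0, 0, 0, 0, 0, 0], [(12, (-1))]),
   (15, [0, 0, 0, 0, 1, 0, 2, 0, 0, 0, 2, 2, 1, (-1), 0, 1, 0, 0, 0, 0, 0, 0, 0, 0, 0, 0, 0, 0, 0, 0, 0, 0, 0, 0, 0, 0, 0, 0], [(0, (-1)), (1, 1), (2, (-2)), (5, (-1)), (6, (-1)), (7, 1), (11, (-1)), (12, (-1)), (18, (-1))]),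
   (14, [0, 0, 0, 0, 1, 0, 0, 0, 0, 0, 0, 2, 0, 0, 1, 0, 0, 0, 0, 0, 0, 0, 0, 0, 0, 0, 0, 0, 0, 0, 0, 0, 0, 0, 0, 0, 0, 0], [(10, 1)]),
   (13, [0, 0, (-1), 0, 0, 0, 2, (-2), 0, 0, 4, 2, 1, 1, 0, 0, 0, 0, 0, 0, 0, 0, 0, 0, 0, 0, 0, 0, 0, 0, 0, 0, 0, 0, 0, 0, 0, 0], [(0, (-3)), (1, (-3)), (2, 1), (5, (-1)), (6, (-1)), (7, (-1)), (9, 3), (11, 1), (12, (-1)), (15, (-1)), (18, (-1)), (23, (-1)), (25, (-2))]),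
   (12, [0, 0, (-1), 0, 0, (-1), 1, (-2), (-1), 0, 2, 2, 1, 0, 0, 0, 0, 0, 0, 0, 0, 0, 0, 0, 0, 0, 0, 0, 0, 0, 0, 0, 0, 0, 0, 0, 0, 0], [(0, (-1)), (1, (-1)), (2, (-2)), (5, (-1)), (6, (-1)), (9, 1), (12, (-1)), (13, 1), (15, (-1)), (18, (-1)), (19, (-1))]),
   (11, [0, 0, 1, 0, 2, 1, 1, 2, 0, (-1), 2, 2, 0, 0, 0, 0, 0, 0, 0, 0, 0, 0, 0, 0, 0, 0, 0, 0, 0, 0, 0, 0, 0, 0, 0, 0, 0, 0], [(2, (-1)), (7, 1), (8, (-1)), (10, 1), (11, (-1)), (13, (-1)), (15, 1), (16, (-1)), (19, 2), (20, 1)]),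
   (10, [0, 0, 0, 0, 0, 1, 1, 0, 2, 0, 2, 0, 0, 0, 0, 0, 0, 0, 0, 0, 0, 0, 0, 0, 0, 0, 0, 0, 0, 0, 0, 0, 0, 0, 0, 0, 0, 0], [(2, (-1)), (7, 1), (8, 1), (11, (-1)), (13, (-1)), (14, (-1))]),
   (9, [0, 0, (-1), 0, (-1), 0, 0, (-2), 2, 1, 0, 0, 0, 0, 0, 0, 0, 0, 0, 0, 0, 0, 0, 0, 0, 0, 0, 0, 0, 0, 0, 0, 0, 0, 0, 0, 0, 0], [(1, (-1)), (6, (-1)), (8, 2), (10, (-1)), (12, (-1)), (14, (-1)), (15, (-1)), (16, 1), (19, (-2)), (20, (-1)), (32, 1)]),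
   (8, [0, 0, 0, 0, 0, 2, 0, 0, 4, 0, 0, 0, 0, 0, 0, 0, 0, 0, 0, 0, 0, 0, 0, 0, 0, 0, 0, 0, 0, 0, 0, 0, 0, 0, 0, 0, 0, 0], [(4, (-1)), (8, 2)]),
   (7, [0, 0, 2, 0, 2, 2, 1, 4, 0, 0, 0, 0, 0, 0, 0, 0, 0, 0, 0, 0, 0, 0, 0, 0, 0, 0, 0, 0, 0, 0, 0, 0, 0, 0, 0, 0, 0, 0], [(0, 2), (2, 2), (3, (-1)), (4, 2), (5, 2), (6, 3), (7, 3), (8, (-1)), (9, (-2)), (10, 2), (11, (-2)), (12, 2), (13, (-5)), (14, (-3)), (15, 2), (17, (-1)), (18, 2), (19, 2)])]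

/-- Generators of the derived group. -/
def m22P2Gs : List (List ℕ × List ℤ) :=
  [([2, 4, 5], [0, 0, 0, 0, 0, 0, 0, 1, 0, 0, 0, 0, 0, 0, 0, 0, 0, 0, 0, 0, 0, 0, 0, 0, 0, 0, 0, 0, 0, 0, 0, 0, 0, 0, 0, 0, 0, 0]),
   ([5], [0, 0, 0, 0, 0, 1, 0, 0, 3, 0, 0, 0, 0, 0, 0, 0, 0, 0, 0, 0, 0, 0, 0, 0, 0, 0, 0, 0, 0, 0, 0, 0, 0, 0, 0, 0, 0, 0]),
   ([6], [0, 0, 1, 0, 1, 2, 0, 2, 2, 0, 0, 0, 0, 0, 0, 0, 0, 0, 0, 0, 0, 0, 0, 0, 0, 0, 0, 0, 0, 0, 0, 0, 0, 0, 0, 0, 0, 0]),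
   ([6], [0, 0, 0, 0, 0, 0, 0, 0, 0, 0, 1, 0, 0, 0, 0, 0, 0, 0, 0, 0, 0, 0, 0, 0, 0, 0, 0, 0, 0, 0, 0, 0, 0, 0, 0, 0, 0, 0]),
   ([4], [0, 0, 0, 0, 0, 0, 0, 0, 0, 0, 0, 1, 0, 0, 0, 0, 0, 0, 0, 0, 0, 0, 0, 0, 0, 0, 0, 0, 0, 0, 0, 0, 0, 0, 0, 0, 0, 0])]

/-- Elements of the derived group. -/
def m22P2Elts : List (List ℕ × List ℤ) :=
  [([], [0, 0, 0, 0, 0, 0, 0, 0, 0, 0, 0, 0, 0, 0, 0, 0, 0, 0, 0, 0, 0, 0, 0, 0, 0, 0, 0, 0, 0, 0, 0, 0, 0, 0, 0, 0, 0, 0]),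
   ([2, 4, 5], [0, 0, 0, 0, 0, 0, 0, 1, 0, 0, 0, 0, 0, 0, 0, 0, 0, 0, 0, 0, 0, 0, 0, 0, 0, 0, 0, 0, 0, 0, 0, 0, 0, 0, 0, 0, 0, 0]),
   ([5], [0, 0, 0, 0, 0, 1, 0, 0, 3, 0, 0, 0, 0, 0, 0, 0, 0, 0, 0, 0, 0, 0, 0, 0, 0, 0, 0, 0, 0, 0, 0, 0, 0, 0, 0, 0, 0, 0]),
   ([6], [0, 0, 1, 0, 1, 2, 0, 2, 2, 0, 0, 0, 0, 0, 0, 0, 0, 0, 0, 0, 0, 0, 0, 0, 0, 0, 0, 0, 0, 0, 0, 0, 0, 0, 0, 0, 0, 0]),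
   ([6], [0, 0, 0, 0, 0, 0, 0, 0, 0, 0, 1, 0, 0, 0, 0, 0, 0, 0, 0, 0, 0, 0, 0, 0, 0, 0, 0, 0, 0, 0, 0, 0, 0, 0, 0, 0, 0, 0]),
   ([4], [0, 0, 0, 0, 0, 0, 0, 0, 0, 0, 0, 1, 0, 0, 0, 0, 0, 0, 0, 0, 0, 0, 0, 0, 0, 0, 0, 0, 0, 0, 0, 0, 0, 0, 0, 0, 0, 0]),
   ([], [0, 0, 0, 0, 0, 1, 0, 0, 2, 0, 0, 0, 0, 0, 0, 0, 0, 0, 0, 0, 0, 0, 0, 0, 0, 0, 0, 0, 0, 0, 0, 0, 0, 0, 0, 0, 0, 0]),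
   ([2, 4], [0, 0, 0, 0, 0, 2, 0, 1, 3, 0, 0, 0, 0, 0, 0, 0, 0, 0, 0, 0, 0, 0, 0, 0, 0, 0, 0, 0, 0, 0, 0, 0, 0, 0, 0, 0, 0, 0]),
   ([2, 4, 5, 6], [0, 0, 1, 0, 1, 2, 0, 3, 2, 0, 0, 0, 0, 0, 0, 0, 0, 0, 0, 0, 0, 0, 0, 0, 0, 0, 0, 0, 0, 0, 0, 0, 0, 0, 0, 0, 0, 0]),
   ([2, 4, 5, 6], [0, 0, 0, 0, 0, 0, 0, 1, 0, 0, 1, 0, 0, 0, 0, 0, 0, 0, 0, 0, 0, 0, 0, 0, 0, 0, 0, 0, 0, 0, 0, 0, 0, 0, 0, 0, 0, 0]),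
   ([2, 5], [0, 0, 0, 0, 1, 1, 0, 1, 2, 0, 0, 1, 0, 0, 0, 0, 0, 0, 0, 0, 0, 0, 0, 0, 0, 0, 0, 0, 0, 0, 0, 0, 0, 0, 0, 0, 0, 0]),
   ([2, 4], [0, 0, 0, 0, 0, 1, 0, 1, 1, 0, 0, 0, 0, 0, 0, 0, 0, 0, 0, 0, 0, 0, 0, 0, 0, 0, 0, 0, 0, 0, 0, 0, 0, 0, 0, 0, 0, 0]),
   ([5, 6], [0, 0, 1, 0, 1, 1, 0, 2, 1, 0, 0, 0, 0, 0, 0, 0, 0, 0, 0, 0, 0, 0, 0, 0, 0, 0, 0, 0, 0, 0, 0, 0, 0, 0, 0, 0, 0, 0]),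
   ([5, 6], [0, 0, 0, 0, 0, 1, 0, 0, 3, 0, 1, 0, 0, 0, 0, 0, 0, 0, 0, 0, 0, 0, 0, 0, 0, 0, 0, 0, 0, 0, 0, 0, 0, 0, 0, 0, 0, 0]),
   ([4, 5], [0, 0, 0, 0, 0, 0, 0, 0, 1, 0, 0, 1, 0, 0, 0, 0, 0, 0, 0, 0, 0, 0, 0, 0, 0, 0, 0, 0, 0, 0, 0, 0, 0, 0, 0, 0, 0, 0]),
   ([], [0, 0, 1, 0, 1, 2, 1, 2, 2, 0, 1, 0, 0, 0, 0, 0, 0, 0, 0, 0, 0, 0, 0, 0, 0, 0, 0, 0, 0, 0, 0, 0, 0, 0, 0, 0, 0, 0]),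
   ([4, 6], [0, 0, 1, 0, 1, 2, 0, 2, 2, 0, 0, 1, 0, 0, 0, 0, 0, 0, 0, 0, 0, 0, 0, 0, 0, 0, 0, 0, 0, 0, 0, 0, 0, 0, 0, 0, 0, 0]),
   ([4, 6], [0, 0, 0, 0, 0, 0, 0, 0, 0, 0, 1, 1, 0, 0, 0, 0, 0, 0, 0, 0, 0, 0, 0, 0, 0, 0, 0, 0, 0, 0, 0, 0, 0, 0, 0, 0, 0, 0]),
   ([2, 5, 6], [0, 0, 1, 0, 2, 1, 0, 3, 0, 0, 0, 1, 0, 0, 0, 0, 0, 0, 0, 0, 0, 0, 0, 0, 0, 0, 0, 0, 0, 0, 0, 0, 0, 0, 0, 0, 0, 0]),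
   ([4, 5], [0, 0, 0, 0, 0, 1, 0, 0, 3, 0, 0, 1, 0, 0, 0, 0, 0, 0, 0, 0, 0, 0, 0, 0, 0, 0, 0, 0, 0, 0, 0, 0, 0, 0, 0, 0, 0, 0]),
   ([2, 4, 5], [0, 0, 0, 0, 0, 1, 0, 1, 2, 0, 0, 0, 0, 0, 0, 0, 0, 0, 0, 0, 0, 0, 0, 0, 0, 0, 0, 0, 0, 0, 0, 0, 0, 0, 0, 0, 0, 0]),
   ([5], [0, 0, 0, 0, 0, 0, 0, 0, 1, 0, 0, 0, 0, 0, 0, 0, 0, 0, 0, 0, 0, 0, 0, 0, 0, 0, 0, 0, 0, 0, 0, 0, 0, 0, 0, 0, 0, 0]),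
   ([6], [0, 0, 1, 0, 1, 1, 0, 2, 0, 0, 0, 0, 0, 0, 0, 0, 0, 0, 0, 0, 0, 0, 0, 0, 0, 0, 0, 0, 0, 0, 0, 0, 0, 0, 0, 0, 0, 0]),
   ([6], [0, 0, 0, 0, 0, 1, 0, 0, 2, 0, 1, 0, 0, 0, 0, 0, 0, 0, 0, 0, 0, 0, 0, 0, 0, 0, 0, 0, 0, 0, 0, 0, 0, 0, 0, 0, 0, 0]),
   ([4], [0, 0, 0, 0, 0, 1, 0, 0, 2, 0, 0, 1, 0, 0, 0, 0, 0, 0, 0, 0, 0, 0, 0, 0, 0, 0, 0, 0, 0, 0, 0, 0, 0, 0, 0, 0, 0, 0]),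
   ([2, 4, 6], [0, 0, 1, 0, 1, 2, 0, 3, 1, 0, 0, 0, 0, 0, 0, 0, 0, 0, 0, 0, 0, 0, 0, 0, 0, 0, 0, 0, 0, 0, 0, 0, 0, 0, 0, 0, 0, 0]),
   ([2, 4, 6], [0, 0, 0, 0, 0, 2, 0, 1, 3, 0, 1, 0, 0, 0, 0, 0, 0, 0, 0, 0, 0, 0, 0, 0, 0, 0, 0, 0, 0, 0, 0, 0, 0, 0, 0, 0, 0, 0]),
   ([2], [0, 0, 0, 0, 1, 2, 0, 1, 3, 0, 0, 1, 0, 0, 0, 0, 0, 0, 0, 0, 0, 0, 0, 0, 0, 0, 0, 0, 0, 0, 0, 0, 0, 0, 0, 0, 0, 0]),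
   ([2, 4, 5], [0, 0, 1, 0, 1, 2, 1, 3, 2, 0, 1, 0, 0, 0, 0, 0, 0, 0, 0, 0, 0, 0, 0, 0, 0, 0, 0, 0, 0, 0, 0, 0, 0, 0, 0, 0, 0, 0]),
   ([2, 5, 6], [0, 0, 0, 0, 1, 1, 0, 1, 2, 0, 1, 1, 0, 0, 0, 0, 0, 0, 0, 0, 0, 0, 0, 0, 0, 0, 0, 0, 0, 0, 0, 0, 0, 0, 0, 0, 0, 0]),
   ([4, 6], [0, 0, 1, 0, 1, 1, 0, 2, 0, 0, 0, 1, 0, 0, 0, 0, 0, 0, 0, 0, 0, 0, 0, 0, 0, 0, 0, 0, 0, 0, 0, 0, 0, 0, 0, 0, 0, 0]),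
   ([2], [0, 0, 0, 0, 1, 1, 0, 1, 1, 0, 0, 1, 0, 0, 0, 0, 0, 0, 0, 0, 0, 0, 0, 0, 0, 0, 0, 0, 0, 0, 0, 0, 0, 0, 0, 0, 0, 0]),
   ([2, 4, 6], [0, 0, 1, 0, 1, 3, 0, 3, 3, 0, 0, 0, 0, 0, 0, 0, 0, 0, 0, 0, 0, 0, 0, 0, 0, 0, 0, 0, 0, 0, 0, 0, 0, 0, 0, 0, 0, 0]),
   ([2, 4, 6], [0, 0, 0, 0, 0, 1, 0, 1, 1, 0, 1, 0, 0, 0, 0, 0, 0, 0, 0, 0, 0, 0, 0, 0, 0, 0, 0, 0, 0, 0, 0, 0, 0, 0, 0, 0, 0, 0]),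
   ([5], [0, 0, 1, 0, 1, 1, 1, 2, 1, 0, 1, 0, 0, 0, 0, 0, 0, 0, 0, 0, 0, 0, 0, 0, 0, 0, 0, 0, 0, 0, 0, 0, 0, 0, 0, 0, 0, 0]),
   ([4, 5, 6], [0, 0, 1, 0, 1, 2, 0, 2, 3, 0, 0, 1, 0, 0, 0, 0, 0, 0, 0, 0, 0, 0, 0, 0, 0, 0, 0, 0, 0, 0, 0, 0, 0, 0, 0, 0, 0, 0]),
   ([4, 5, 6], [0, 0, 0, 0, 0, 0, 0, 0, 1, 0, 1, 1, 0, 0, 0, 0, 0, 0, 0, 0, 0, 0, 0, 0, 0, 0, 0, 0, 0, 0, 0, 0, 0, 0, 0, 0, 0, 0]),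
   ([2, 6], [0, 0, 1, 0, 2, 3, 0, 3, 3, 0, 0, 1, 0, 0, 0, 0, 0, 0, 0, 0, 0, 0, 0, 0, 0, 0, 0, 0, 0, 0, 0, 0, 0, 0, 0, 0, 0, 0]),
   ([4], [0, 0, 1, 0, 1, 2, 1, 2, 2, 0, 1, 1, 0, 0, 0, 0, 0, 0, 0, 0, 0, 0, 0, 0, 0, 0, 0, 0, 0, 0, 0, 0, 0, 0, 0, 0, 0, 0]),
   ([4, 5, 6], [0, 0, 1, 0, 1, 1, 0, 2, 1, 0, 0, 1, 0, 0, 0, 0, 0, 0, 0, 0, 0, 0, 0, 0, 0, 0, 0, 0, 0, 0, 0, 0, 0, 0, 0, 0, 0, 0]),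
   ([2, 5], [0, 0, 1, 0, 2, 1, 1, 3, 0, 0, 1, 1, 0, 0, 0, 0, 0, 0, 0, 0, 0, 0, 0, 0, 0, 0, 0, 0, 0, 0, 0, 0, 0, 0, 0, 0, 0, 0]),
   ([4, 5, 6], [0, 0, 0, 0, 0, 1, 0, 0, 3, 0, 1, 1, 0, 0, 0, 0, 0, 0, 0, 0, 0, 0, 0, 0, 0, 0, 0, 0, 0, 0, 0, 0, 0, 0, 0, 0, 0, 0]),
   ([2, 6], [0, 0, 1, 0, 2, 2, 0, 3, 1, 0, 0, 1, 0, 0, 0, 0, 0, 0, 0, 0, 0, 0, 0, 0, 0, 0, 0, 0, 0, 0, 0, 0, 0, 0, 0, 0, 0, 0]),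
   ([2, 4, 5, 6], [0, 0, 1, 0, 1, 1, 0, 3, 0, 0, 0, 0, 0, 0, 0, 0, 0, 0, 0, 0, 0, 0, 0, 0, 0, 0, 0, 0, 0, 0, 0, 0, 0, 0, 0, 0, 0, 0]),
   ([2, 4, 5, 6], [0, 0, 0, 0, 0, 1, 0, 1, 2, 0, 1, 0, 0, 0, 0, 0, 0, 0, 0, 0, 0, 0, 0, 0, 0, 0, 0, 0, 0, 0, 0, 0, 0, 0, 0, 0, 0, 0]),
   ([2, 5], [0, 0, 0, 0, 1, 0, 0, 1, 0, 0, 0, 1, 0, 0, 0, 0, 0, 0, 0, 0, 0, 0, 0, 0, 0, 0, 0, 0, 0, 0, 0, 0, 0, 0, 0, 0, 0, 0]),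
   ([5, 6], [0, 0, 1, 0, 1, 2, 0, 2, 3, 0, 0, 0, 0, 0, 0, 0, 0, 0, 0, 0, 0, 0, 0, 0, 0, 0, 0, 0, 0, 0, 0, 0, 0, 0, 0, 0, 0, 0]),
   ([5, 6], [0, 0, 0, 0, 0, 0, 0, 0, 1, 0, 1, 0, 0, 0, 0, 0, 0, 0, 0, 0, 0, 0, 0, 0, 0, 0, 0, 0, 0, 0, 0, 0, 0, 0, 0, 0, 0, 0]),
   ([], [0, 0, 1, 0, 1, 1, 1, 2, 0, 0, 1, 0, 0, 0, 0, 0, 0, 0, 0, 0, 0, 0, 0, 0, 0, 0, 0, 0, 0, 0, 0, 0, 0, 0, 0, 0, 0, 0]),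
   ([4, 6], [0, 0, 0, 0, 0, 1, 0, 0, 2, 0, 1, 1, 0, 0, 0, 0, 0, 0, 0, 0, 0, 0, 0, 0, 0, 0, 0, 0, 0, 0, 0, 0, 0, 0, 0, 0, 0, 0]),
   ([2, 5, 6], [0, 0, 1, 0, 2, 2, 0, 3, 2, 0, 0, 1, 0, 0, 0, 0, 0, 0, 0, 0, 0, 0, 0, 0, 0, 0, 0, 0, 0, 0, 0, 0, 0, 0, 0, 0, 0, 0]),
   ([2, 4], [0, 0, 1, 0, 1, 2, 1, 3, 1, 0, 1, 0, 0, 0, 0, 0, 0, 0, 0, 0, 0, 0, 0, 0, 0, 0, 0, 0, 0, 0, 0, 0, 0, 0, 0, 0, 0, 0]),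
   ([2, 6], [0, 0, 0, 0, 1, 2, 0, 1, 3, 0, 1, 1, 0, 0, 0, 0, 0, 0, 0, 0, 0, 0, 0, 0, 0, 0, 0, 0, 0, 0, 0, 0, 0, 0, 0, 0, 0, 0]),
   ([4], [0, 0, 1, 0, 1, 1, 1, 2, 0, 0, 1, 1, 0, 0, 0, 0, 0, 0, 0, 0, 0, 0, 0, 0, 0, 0, 0, 0, 0, 0, 0, 0, 0, 0, 0, 0, 0, 0]),
   ([2, 6], [0, 0, 0, 0, 1, 1, 0, 1, 1, 0, 1, 1, 0, 0, 0, 0, 0, 0, 0, 0, 0, 0, 0, 0, 0, 0, 0, 0, 0, 0, 0, 0, 0, 0, 0, 0, 0, 0]),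
   ([2, 4], [0, 0, 1, 0, 1, 3, 1, 3, 3, 0, 1, 0, 0, 0, 0, 0, 0, 0, 0, 0, 0, 0, 0, 0, 0, 0, 0, 0, 0, 0, 0, 0, 0, 0, 0, 0, 0, 0]),
   ([4, 5], [0, 0, 1, 0, 1, 2, 1, 2, 3, 0, 1, 1, 0, 0, 0, 0, 0, 0, 0, 0, 0, 0, 0, 0, 0, 0, 0, 0, 0, 0, 0, 0, 0, 0, 0, 0, 0, 0]),
   ([2], [0, 0, 1, 0, 2, 3, 1, 3, 3, 0, 1, 1, 0, 0, 0, 0, 0, 0, 0, 0, 0, 0, 0, 0, 0, 0, 0, 0, 0, 0, 0, 0, 0, 0, 0, 0, 0, 0]),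
   ([4, 5], [0, 0, 1, 0, 1, 1, 1, 2, 1, 0, 1, 1, 0, 0, 0, 0, 0, 0, 0, 0, 0, 0, 0, 0, 0, 0, 0, 0, 0, 0, 0, 0, 0, 0, 0, 0, 0, 0]),
   ([2], [0, 0, 1, 0, 2, 2, 1, 3, 1, 0, 1, 1, 0, 0, 0, 0, 0, 0, 0, 0, 0, 0, 0, 0, 0, 0, 0, 0, 0, 0, 0, 0, 0, 0, 0, 0, 0, 0]),
   ([2, 4, 5], [0, 0, 1, 0, 1, 1, 1, 3, 0, 0, 1, 0, 0, 0, 0, 0, 0, 0, 0, 0, 0, 0, 0, 0, 0, 0, 0, 0, 0, 0, 0, 0, 0, 0, 0, 0, 0, 0]),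
   ([2, 5, 6], [0, 0, 0, 0, 1, 0, 0, 1, 0, 0, 1, 1, 0, 0, 0, 0, 0, 0, 0, 0, 0, 0, 0, 0, 0, 0, 0, 0, 0, 0, 0, 0, 0, 0, 0, 0, 0, 0]),
   ([5], [0, 0, 1, 0, 1, 2, 1, 2, 3, 0, 1, 0, 0, 0, 0, 0, 0, 0, 0, 0, 0, 0, 0, 0, 0, 0, 0, 0, 0, 0, 0, 0, 0, 0, 0, 0, 0, 0]),
   ([2, 5], [0, 0, 1, 0, 2, 2, 1, 3, 2, 0, 1, 1, 0, 0, 0, 0, 0, 0, 0, 0, 0, 0, 0, 0, 0, 0, 0, 0, 0, 0, 0, 0, 0, 0, 0, 0, 0, 0])]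

/-- The data. -/
def m22P2Data : SchurData where
  p := 2
  a := m22P2CGens
  derived := m22P2CDerived
  levels := m22P2CLevels
  pow := [[], [], [6], [], [], [], []]
  comm := [[], [[0, 1, 2, 4, 5]], [[0, 2, 5], [1, 2, 6]], [[0, 3, 6], [1, 3, 4], [2, 3, 5, 6]], [[0, 4, 5], [1, 4], [2, 4, 6], [3, 4]], [[0, 5], [1, 5, 6], [2, 5], [3, 5], [4, 5]], [[0, 6], [1, 6], [2, 6], [3, 6], [4, 6], [5, 6]]]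
  ords := [2, 2, 4, 2, 2, 2, 2]
  fus := m22P2Fus
  nv := 38
  rels := m22P2Rels
  rows := m22P2Rows
  gs := m22P2Gs
  elts := m22P2Elts
  commWit := [[], [[0]], [[1], [2]], [[3], [4], [1, 2]], [[0, 0, 1], [], [0, 0, 2], []], [[0, 0], [0, 0, 2], [], [], [0, 0]], [[0, 0], [], [], [0, 0], [], []]]
  conjWit := [[[0, 0, 0], [0, 0, 1], [0, 0, 2], [0, 0, 3], [1, 4]], [[0, 0, 0], [0, 0, 1, 2], [2], [3], [4]], [[0, 0, 0, 2], [1], [2], [3], [0, 4, 0]], [[1, 0, 2], [1], [0, 0, 2], [0, 0, 3], [4]], [[0, 2], [0, 0, 1], [2], [3], [4]], [[0, 0, 0], [1], [2], [3], [0, 0, 4]], [[0], [1], [2], [3], [4]]]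
  ext := [[0, 0, 0, 0, 0, 1, 0, 0, 2, 0, 0, 0, 0, 0, 0, 0, 0, 0, 0, 0, 0, 0, 0, 0, 0, 0, 0, 0, 0, 0, 0, 0, 0, 0, 0, 0, 0, 0], [0, 0, 1, 0, 1, 2, 1, 2, 2, 0, 1, 0, 0, 0, 0, 0, 0, 0, 0, 0, 0, 0, 0, 0, 0, 0, 0, 0, 0, 0, 0, 0, 0, 0, 0, 0, 0, 0], [0, 0, 1, 0, 1, 1, 1, 2, 0, 0, 1, 0, 0, 0, 0, 0, 0, 0, 0, 0, 0, 0, 0, 0, 0, 0, 0, 0, 0, 0, 0, 0, 0, 0, 0, 0, 0, 0]]

end Cfsg.Agent.SchurMult
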