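import Cfsg.Agent.Lib.Compute.SchurDefs

/-! Certificate for the 3-part of the Schur multiplier of M22. -/

set_option autoImplicit false
set_option maxRecDepth 20000

namespace Cfsg.Agent.SchurMult

open Cfsg.Agent.PermCert Cfsg.Agent.PermSchur

/-- Generators. -/
def m22P3CGens : List Elt :=
  [(977013119932447301347273088989474976, 969225529418459300839408660237565344),
    (957541609599453263264187611425212512, 960139408334547991812026276636560064)]

/-- Derived elements. -/
def m22P3CDerived : List (Elt × List ℕ) :=
  []

/-- Level 0. -/
def m22P3CLevel0 : CLevel :=
  (1, [(977013119932447301347273088989474976, 969225529418459300839408660237565344),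
    (957541609599453263264187611425212512, 960139408334547991812026276636560064)],
   [(1, (984818244535754528103549039458486304, 984818244535754528103549039458486304), 0, 0),
    (5, (977013119932447301347273088989474976, 969225529418459300839408660237565344), 0, 0),
    (3, (957541609599453263264187611425212512, 960139408334547991812026276636560064), 0, 1),
    (13, (969225529418459300839408660237565344, 977013119932447301347273088989474976), 1, 0),
    (18, (962735761365568319545388282661057088, 978311372479745570639711817504832832), 1, 1),
    (22, (960139408334547991812026276636560064, 957541609599453263264187611425212512), 2, 1),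
    (17, (973135383428460553938871499957288480, 979625346658054665506508252370874880), 3, 1),
    (16, (979625346658054665506508252370874880, 973135383428460553938871499957288480), 4, 1),
    (10, (978311372479745570639711817504832832, 962735761365568319545388282661057088), 6, 1)])

/-- The stabiliser chain. -/
def m22P3CLevels : List CLevel :=
  [m22P3CLevel0]

/-- Conjugations. -/
def m22P3Fus : List Fusion :=
  []

/-- Relations. -/
def m22P3Rels : List Rel :=
  [Rel.assoc [1] [0, 0] [0]]

/-- Derived rows. -/
def m22P3Rows : List (ℕ × List ℤ × List (ℕ × ℤ)) :=
  [(2, [0, 0, 3], [(0, 1)])]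

/-- Generators of the derived group. -/
def m22P3Gs : List (List ℕ × List ℤ) :=
  [([], [0, 0, 1])]

/-- Elements of the derived group. -/
def m22P3Elts : List (List ℕ × List ℤ) :=
  [([], [0, 0, 0]),
   ([], [0, 0, 1]),
   ([], [0, 0, 2])]

/-- The data. -/
def m22P3Data : SchurData where
  p := 3
  a := m22P3CGens
  derived := m22P3CDerived
  levels := m22P3CLevels
  pow := [[], []]
  comm := [[], [[0, 1]]]
  ords := [3, 3]
  fus := m22P3Fus
  nv := 3
  rels := m22P3Rels
  rows := m22P3Rows
  gs := m22P3Gs
  elts := m22P3Elts
  commWit := [[], [[0]]]
  conjWit := [[[0]], [[0]]]
  ext := [[0, 0, 1], [0, 0, 2]]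

end Cfsg.Agent.SchurMult
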