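import Cfsg.Agent.Lib.Compute.SchurDefs

/-! Certificate for the 7-part of the Schur multiplier of M22. -/

set_option autoImplicit false
set_option maxRecDepth 20000

namespace Cfsg.Agent.SchurMult

open Cfsg.Agent.PermCert Cfsg.Agent.PermSchur

/-- Generators. -/
def m22P7CGens : List Elt :=
  [(957494989753285538374578043323851968, 971716517106980360395350942664938176)]

/-- Derived elements. -/
def m22P7CDerived : List (Elt × List ℕ) :=
  []

/-- Level 0. -/
def m22P7CLevel0 : CLevel :=
  (1, [(957494989753285538374578043323851968, 971716517106980360395350942664938176)],
   [(1, (984818244535754528103549039458486304, 984818244535754528103549039458486304), 0, 0),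
    (6, (957494989753285538374578043323851968, 971716517106980360395350942664938176), 0, 0),
    (7, (963264026872479762577609442670000352, 976783235972527103635488781258642816), 1, 0),
    (8, (964852490150065965775844933191974144, 966354822929120656214216781496404480), 2, 0),
    (16, (966354822929120656214216781496404480, 964852490150065965775844933191974144), 3, 0),
    (12, (976783235972527103635488781258642816, 963264026872479762577609442670000352), 4, 0),
    (22, (971716517106980360395350942664938176, 957494989753285538374578043323851968), 5, 0)])

/-- The stabiliser chain. -/
def m22P7CLevels : List CLevel :=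
  [m22P7CLevel0]

/-- Conjugations. -/
def m22P7Fus : List Fusion :=
  []

/-- Relations. -/
def m22P7Rels : List Rel :=
  []

/-- Derived rows. -/
def m22P7Rows : List (ℕ × List ℤ × List (ℕ × ℤ)) :=
  []

/-- Generators of the derived group. -/
def m22P7Gs : List (List ℕ × List ℤ) :=
  []

/-- Elements of the derived group. -/
def m22P7Elts : List (List ℕ × List ℤ) :=
  [([], [0])]

/-- The data. -/
def m22P7Data : SchurData where
  p := 7
  a := m22P7CGens
  derived := m22P7CDerived
  levels := m22P7CLevels
  pow := [[]]
  comm := [[]]
  ords := [7]
  fus := m22P7Fus
  nv := 1
  rels := m22P7Rels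
  rows := m22P7Rows
  gs := m22P7Gs
  elts := m22P7Elts
  commWit := [[]]
  conjWit := [[]]
  ext := []

end Cfsg.Agent.SchurMult
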