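import Cfsg.Agent.Lib.Compute.SchurDefs

/-! Certificate for the 11-part of the Schur multiplier of M23. -/

set_option autoImplicit false
set_option maxRecDepth 20000

namespace Cfsg.Agent.SchurMult

open Cfsg.Agent.PermCert Cfsg.Agent.PermSchur

/-- Generators. -/
def m23P11CGens : List Elt :=
  [(976567900071277225237972152052978117, 967654211662081377099425018261121293)]

/-- Derived elements. -/
def m23P11CDerived : List (Elt × List ℕ) :=
  []

/-- Level 0. -/
def m23P11CLevel0 : CLevel :=
  (0, [(976567900071277225237972152052978117, 967654211662081377099425018261121293)],
   [(0, (984818244535754528103549039458486304, 984818244535754528103549039458486304), 0, 0),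
    (5, (976567900071277225237972152052978117, 967654211662081377099425018261121293), 0, 0),
    (15, (981426988099966974497443184501696175, 960643972837392430243602035736958603), 1, 0),
    (18, (965947474613954667500620914773580114, 958314896155292531282249426849085969), 2, 0),
    (19, (957073081298345962199002271426134099, 969179747934392511124430895532050118), 3, 0),
    (7, (974461220909627468632996943459635335, 983294282195729223347228560883556652), 4, 0),
    (12, (983294282195729223347228560883556652, 974461220909627468632996943459635335), 5, 0),
    (6, (969179747934392511124430895532050118, 957073081298345962199002271426134099), 6, 0),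
    (17, (958314896155292531282249426849085969, 965947474613954667500620914773580114), 7, 0),
    (11, (960643972837392430243602035736958603, 981426988099966974497443184501696175), 8, 0),
    (13, (967654211662081377099425018261121293, 976567900071277225237972152052978117), 9, 0)])

/-- The stabiliser chain. -/
def m23P11CLevels : List CLevel :=
  [m23P11CLevel0]

/-- Conjugations. -/
def m23P11Fus : List Fusion :=
  []

/-- Relations. -/
def m23P11Rels : List Rel :=
  []

/-- Derived rows. -/
def m23P11Rows : List (ℕ × List ℤ × List (ℕ × ℤ)) :=
  []

/-- Generators of the derived group. -/
def m23P11Gs : List (List ℕ × List ℤ) :=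
  []

/-- Elements of the derived group. -/
def m23P11Elts : List (List ℕ × List ℤ) :=
  [([], [0])]

/-- The data. -/
def m23P11Data : SchurData where
  p := 11
  a := m23P11CGens
  derived := m23P11CDerived
  levels := m23P11CLevels
  pow := [[]]
  comm := [[]]
  ords := [11]
  fus := m23P11Fus
  nv := 1
  rels := m23P11Rels
  rows := m23P11Rows
  gs := m23P11Gs
  elts := m23P11Elts
  commWit := [[]]
  conjWit := [[]]
  ext := []

end Cfsg.Agent.SchurMult
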