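import Cfsg.Agent.Lib.Compute.SchurDefs

/-! Certificate for the 23-part of the Schur multiplier of M23. -/

set_option autoImplicit false
set_option maxRecDepth 20000

namespace Cfsg.Agent.SchurMult

open Cfsg.Agent.PermCert Cfsg.Agent.PermSchur

/-- Generators. -/
def m23P23CGens : List Elt :=
  [(966603021022667056484380282019462433, 979140458495871989051569510796401670)]

/-- Derived elements. -/
def m23P23CDerived : List (Elt × List ℕ) :=
  []

/-- Level 0. -/
def m23P23CLevel0 : CLevel :=
  (0, [(966603021022667056484380282019462433, 979140458495871989051569510796401670)],
   [(0, (984818244535754528103549039458486304, 984818244535754528103549039458486304), 0, 0),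
    (1, (966603021022667056484380282019462433, 979140458495871989051569510796401670), 0, 0),
    (9, (965253193820680685955794343671042729, 959329666687956570528323146185318603), 1, 0),
    (21, (958405383587697552811643007152696981, 972259226552785227087664508862683492), 2, 0),
    (20, (975524523421162807138387870587525748, 971202959206441948789023627836311695), 3, 0),
    (19, (961271432306543532884623987410272595, 974009486903843620188530651020430818), 4, 0),
    (10, (969882490556871601541324141411927562, 962049455555993654846758168365118535), 5, 0),
    (16, (963754716008358905342968351711962672, 978063882110828490577108153683751144), 6, 0),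
    (17, (955886005865422380752984378770314417, 976252124645409335295410211850402070), 7, 0),
    (5, (957212555121206956827029363218403781, 968650471130419348602627087777011410), 8, 0),
    (14, (967210674904481839701463845463674254, 980379528573838859276125188056073795), 9, 0),
    (12, (983400564174082722084833298861828524, 982246976959280301041381029163876461), 10, 0),
    (13, (982246976959280301041381029163876461, 983400564174082722084833298861828524), 11, 0),
    (3, (980379528573838859276125188056073795, 967210674904481839701463845463674254), 12, 0),
    (18, (968650471130419348602627087777011410, 957212555121206956827029363218403781), 13, 0),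
    (22, (976252124645409335295410211850402070, 955886005865422380752984378770314417), 14, 0),
    (8, (978063882110828490577108153683751144, 963754716008358905342968351711962672), 15, 0),
    (7, (962049455555993654846758168365118535, 969882490556871601541324141411927562), 16, 0),
    (2, (974009486903843620188530651020430818, 961271432306543532884623987410272595), 17, 0),
    (15, (971202959206441948789023627836311695, 975524523421162807138387870587525748), 18, 0),
    (4, (972259226552785227087664508862683492, 958405383587697552811643007152696981), 19, 0),
    (11, (959329666687956570528323146185318603, 965253193820680685955794343671042729), 20, 0),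
    (6, (979140458495871989051569510796401670, 966603021022667056484380282019462433), 21, 0)])

/-- The stabiliser chain. -/
def m23P23CLevels : List CLevel :=
  [m23P23CLevel0]

/-- Conjugations. -/
def m23P23Fus : List Fusion :=
  []

/-- Relations. -/
def m23P23Rels : List Rel :=
  []

/-- Derived rows. -/
def m23P23Rows : List (ℕ × List ℤ × List (ℕ × ℤ)) :=
  []

/-- Generators of the derived group. -/
def m23P23Gs : List (List ℕ × List ℤ) :=
  []

/-- Elements of the derived group. -/
def m23P23Elts : List (List ℕ × List ℤ) :=
  [([], [0])]

/-- The data. -/
def m23P23Data : SchurData where
  p := 23
  a := m23P23CGens
  derived := m23P23CDerived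
  levels := m23P23CLevels
  pow := [[]]
  comm := [[]]
  ords := [23]
  fus := m23P23Fus
  nv := 1
  rels := m23P23Rels
  rows := m23P23Rows
  gs := m23P23Gs
  elts := m23P23Elts
  commWit := [[]]
  conjWit := [[]]
  ext := []

end Cfsg.Agent.SchurMult
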