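import Cfsg.Agent.Lib.Compute.SchurDefs

/-! Certificate for the 2-part of the Schur multiplier of M23. -/

set_option autoImplicit false
set_option maxRecDepth 20000

namespace Cfsg.Agent.SchurMult

open Cfsg.Agent.PermCert Cfsg.Agent.PermSchur

/-- Generators. -/
def m23P2CGens : List Elt :=
  [(965865581339577682746848254843507713, 965865581339577682746848254843507713),
    (978325063065734411632232197566672000, 975728915091790342938817107636622592),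
    (956297369994176179996822993293814922, 983067617922971812352839620691661174),
    (978327873653409370553588877167592512, 978327873653409370553588877167592512),
    (969241353870756385364331985140518304, 969241353870756385364331985140518304),
    (978288554204297041759703153177048178, 978288554204297041759703153177048178),
    (968386959854180233406923416582653013, 968386959854180233406923416582653013)]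

/-- Derived elements. -/
def m23P2CDerived : List (Elt × List ℕ) :=
  []

/-- Level 0. -/
def m23P2CLevel0 : CLevel :=
  (0, [(965865581339577682746848254843507713, 965865581339577682746848254843507713),
    (978325063065734411632232197566672000, 975728915091790342938817107636622592),
    (978327873653409370553588877167592512, 978327873653409370553588877167592512)],
   [(0, (984818244535754528103549039458486304, 984818244535754528103549039458486304), 0, 0),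
    (1, (965865581339577682746848254843507713, 965865581339577682746848254843507713), 0, 0),
    (4, (957137532479758644717329902786466820, 969746862701945871834087642943171265), 1, 1),
    (2, (969706575073826409482002037452919810, 960673284633143122453797680475407009), 1, 2),
    (17, (956019471111423056498384912501868593, 981771798462709870526366051669018678), 2, 0),
    (13, (960698636397525689481770946440811533, 961971358954113232712060824086825601), 2, 1),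
    (5, (958317713566571646096276812644111365, 965852640184933484093898593441208641), 2, 2),
    (21, (974877330731694409972852470298282037, 974877330731694409972852470298282037), 3, 0),
    (11, (959445927501314959881744870022992907, 961958417258416253062420710928631265), 3, 1),
    (10, (956297369994176179996822993293814922, 983067617922971812352839620691661174), 4, 1),
    (22, (955810314954504996347858201593611350, 955810314954504996347858201593611350), 4, 2),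
    (20, (978180829887921350708412567920937012, 978180829887921350708412567920937012), 5, 0),
    (8, (972465970492642661436311697636348936, 960660343092017240785052966546914849), 5, 1),
    (3, (962403625334119463897310942057812995, 969759804011161352755234952971309633), 5, 2),
    (15, (979450739689665763917358174898128943, 979450739689665763917358174898128943), 8, 0),
    (18, (969175162533311347715320306545634450, 969120627569211493963325511358881972), 11, 1)])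

/-- Level 1. -/
def m23P2CLevel1 : CLevel :=
  (1, [(978325063065734411632232197566672000, 975728915091790342938817107636622592),
    (978327873653409370553588877167592512, 978327873653409370553588877167592512)],
   [(1, (984818244535754528103549039458486304, 984818244535754528103549039458486304), 0, 0),
    (4, (978325063065734411632232197566672000, 975728915091790342938817107636622592), 0, 0),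
    (2, (978327873653409370553588877167592512, 978327873653409370553588877167592512), 0, 1),
    (13, (969241353870756385364331985140518304, 969241353870756385364331985140518304), 1, 0),
    (5, (984815434334561325912895118470422688, 984815434334561325912895118470422688), 1, 1),
    (11, (969238543824171321784349932745134432, 969238543824171321784349932745134432), 2, 0),
    (8, (975728915091790342938817107636622592, 978325063065734411632232197566672000), 3, 0),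
    (3, (975731724751893465500794152023012448, 975731724751893465500794152023012448), 3, 1)])

/-- The stabiliser chain. -/
def m23P2CLevels : List CLevel :=
  [m23P2CLevel0, m23P2CLevel1]

/-- Conjugations. -/
def m23P2Fus : List Fusion :=
  [⟨(981795757022708032547591374936463909, 958412684534816194673966278078796047), [[0, 2, 5, 6], [0], [3, 4], [3], [5, 6], [5]], [[2, 5, 6], [0, 5, 6], [3, 5, 6], [3, 4, 6], [5, 6], [6]]⟩,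
   ⟨(970199483018743167265256656458994691, 961968349599226148076977362416188961), [[0], [1, 3], [1, 2, 3], [1, 3, 4], [2, 4], [6]], [[0, 5], [4, 5, 6], [1, 2, 3], [1, 2, 3, 5], [2, 4, 6], [6]]⟩,
   ⟨(977066154959472913660282731602553999, 983230736348862998727743331261124870), [[4, 5, 6], [3, 4, 5], [3, 4], [3]], [[3, 5, 6], [3, 4, 6], [4, 6], [3, 5]]⟩]

/-- Relations. -/
def m23P2Rels : List Rel :=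
  [Rel.assoc [1] [1] [1],
   Rel.assoc [2] [2] [2],
   Rel.assoc [5] [2] [0],
   Rel.assoc [5] [4] [1],
   Rel.assoc [4] [3] [3],
   Rel.assoc [6] [0] [0],
   Rel.assoc [4] [3] [2],
   Rel.assoc [3] [0] [0],
   Rel.assoc [3] [3] [0],
   Rel.assoc [3] [3] [1],
   Rel.assoc [3] [3] [2],
   Rel.assoc [4] [2] [1],
   Rel.assoc [4] [3] [0],
   Rel.assoc [3] [2] [0],
   Rel.assoc [3] [2] [1],
   Rel.assoc [4] [2] [0],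
   Rel.assoc [2] [0] [0],
   Rel.assoc [4] [0] [0],
   Rel.assoc [3] [1] [0],
   Rel.assoc [1] [0] [0],
   Rel.assoc [1] [1] [0],
   Rel.fuse 0 [0, 0] [5],
   Rel.fuse 0 [1, 1] [],
   Rel.fuse 0 [2, 2] [],
   Rel.fuse 0 [3, 3] [],
   Rel.fuse 0 [1, 0] [0, 1, 4],
   Rel.fuse 0 [2, 0] [0, 2, 4, 5],
   Rel.fuse 0 [2, 1] [1, 2, 5],
   Rel.fuse 1 [0, 0] [],
   Rel.fuse 1 [1, 1] [],
   Rel.fuse 1 [2, 2] [5],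
   Rel.fuse 1 [3, 3] [],
   Rel.fuse 1 [1, 0] [0, 1, 2, 3],
   Rel.fuse 1 [2, 0] [0, 2, 4],
   Rel.fuse 1 [2, 1] [1, 2],
   Rel.fuse 2 [0, 0] [],
   Rel.fuse 2 [1, 1] [],
   Rel.fuse 2 [2, 2] [],
   Rel.fuse 2 [3, 3] [],
   Rel.fuse 2 [2, 1] [1, 2]]

/-- Derived rows. -/
def m23P2Rows : List (ℕ × List ℤ × List (ℕ × ℤ)) :=
  [(43, [0, 0, 0, 0, 0, 1, 0, 0, 0, 0, 0, 0, 0, 0, 0, 0, 0, 0, 0, 0, 1, 0, 0, 0, 0, 0, 0, 0, 0, 0, 0, 0, 0, 0, 0, 0, 0, 0, 0, 0, 0, 0, 0, 2], [(38, 1)]),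
   (42, [0, 0, 0, (-1), 0, 0, 1, 0, 0, 0, 0, 0, 0, 0, 0, 0, (-1), 0, 0, 0, 0, 0, 0, 0, 0, 0, 1, 0, 0, 0, 0, 0, 0, 0, 0, 0, 0, 0, 0, 0, 0, 0, 2, 0], [(37, 1)]),
   (41, [0, 0, 0, 0, 0, (-1), 1, 0, 0, 0, 0, 0, 0, 0, 0, 0, 0, 0, 0, 0, (-1), (-1), 0, 0, 0, 1, 1, 0, 0, 0, 0, 0, 0, 0, 0, 0, 0, 0, 0, 0, 0, 2, 0, 0], [(36, 1)]),
   (40, [0, 0, 0, 1, (-1), 0, 0, 0, 0, 0, 0, 0, 0, 0, 0, 0, 0, 0, 0, 0, 1, (-1), 0, 0, 0, 1, (-1), 0, 0, 0, 0, 0, 0, 0, 0, 0, 0, 0, 0, 0, 2, 0, 0, 0], [(35, 1)]),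
   (39, [0, 0, 0, 0, 0, 0, 0, 0, 0, 0, 0, 0, 0, 0, 0, 0, 0, 0, 0, 0, 0, 0, 0, 0, 0, 0, 0, 0, 0, 0, 0, 0, 0, 0, 0, 0, (-2), 0, 0, 1, 0, 0, 0, 0], [(30, (-1))]),
   (38, [0, 0, 0, 0, 0, 0, 1, 0, 0, 0, 0, 0, 0, 0, 0, 0, 0, 0, 1, 2, 1, (-1), 0, 0, 2, 1, (-1), 0, 0, 0, 0, 0, 0, 0, 0, 0, 0, 0, 1, 0, 0, 0, 0, 0], [(33, (-1))]),
   (37, [0, 0, 1, 0, 0, 0, 2, 1, 0, 0, 1, 0, 0, (-1), 2, 3, 3, (-1), (-1), 1, 0, 4, (-1), 1, 1, 2, 1, 0, 0, 0, 0, 0, 0, 0, 0, 0, 1, 1, 0, 0, 0, 0, 0, 0], [(32, (-1))]),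
   (36, [0, 0, 1, 0, 1, (-2), 2, 2, 0, (-1), 2, 0, (-1), (-2), 5, 5, 7, (-2), (-3), 2, (-2), 7, (-2), 2, 1, 3, 2, (-2), 0, 0, 0, 0, 0, 0, 0, 0, 2, 0, 0, 0, 0, 0, 0, 0], [(31, (-1)), (32, (-2))]),
   (35, [0, (-1), 0, (-1), 0, 1, 1, 0, 0, 0, 0, (-1), 0, 0, 0, 0, (-1), 0, 0, 0, 0, 1, 0, 0, 0, 0, 1, 1, 0, 0, 0, 0, 0, 0, 0, 2, 0, 0, 0, 0, 0, 0, 0, 0], [(29, 1)]),
   (34, [0, 0, 0, 0, 0, 1, 0, 0, 0, 0, 0, 0, 0, 0, 0, 0, 0, 1, 0, 0, 0, 0, 0, 0, 0, 0, 0, 0, 0, 0, 0, 0, 0, 0, 2, 0, 0, 0, 0, 0, 0, 0, 0, 0], [(28, 1)]),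
   (33, [1, 0, 0, 0, 0, 0, 1, 0, 1, 0, 0, 0, 0, 0, 0, 0, 0, 1, 0, (-1), 0, 0, 1, 0, (-1), 0, 0, 1, (-2), 0, 0, 0, 0, 1, 0, 0, 0, 0, 0, 0, 0, 0, 0, 0], [(21, (-1))]),
   (32, [0, 0, 0, 0, 0, 0, 0, 0, 0, 0, 0, 0, 0, 0, 0, 0, 0, 0, 0, (-1), 0, 0, 0, 0, (-1), 0, 0, 0, 0, 0, 0, 0, 1, 0, 0, 0, 0, 0, 0, 0, 0, 0, 0, 0], [(25, (-1))]),
   (31, [0, 0, 0, 0, 1, 0, 1, 0, 0, 0, 0, 0, 0, 0, 0, 0, 1, 0, 0, 0, 0, 0, 0, 0, 0, 1, 1, 0, 0, 0, 0, 2, 0, 0, 0, 0, 0, 0, 0, 0, 0, 0, 0, 0], [(24, 1)]),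
   (30, [0, 0, 0, 0, (-1), 1, 1, 0, 0, 0, 0, 0, 0, 0, 0, 0, (-1), 0, 0, 0, 1, 0, 0, 0, 0, 1, 0, 1, 0, 0, 2, 0, 0, 0, 0, 0, 0, 0, 0, 0, 0, 0, 0, 0], [(23, 1)]),
   (29, [0, 0, 0, 0, 0, 1, 1, 0, 0, 0, 0, 0, 0, 0, 0, 0, 0, 1, 0, 0, 0, 0, 1, 0, 0, 0, 0, 1, 0, 2, 0, 0, 0, 0, 0, 0, 0, 0, 0, 0, 0, 0, 0, 0], [(22, 1)]),
   (28, [(-1), 0, 0, 0, 0, 0, 1, 0, (-1), 0, 1, 0, 0, 1, 0, 1, 0, (-1), 0, 2, 0, 0, (-1), 0, 1, 0, 0, 1, 2, 0, 0, 0, 0, 0, 0, 0, 0, 0, 0, 0, 0, 0, 0, 0], [(21, 1), (25, 1), (26, (-1))]),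
   (27, [0, 0, 0, 0, 0, 0, 0, 0, 0, 0, 0, 0, 0, 0, 0, 0, 0, 0, 0, 0, 0, 0, 0, 0, 0, 0, 0, 1, 0, 0, 0, 0, 0, 0, 0, 0, 0, 0, 0, 0, 0, 0, 0, 0], [(2, 1)]),
   (26, [0, 0, 0, 0, 0, 0, 0, 0, 0, 0, 0, 0, 0, 0, 0, 0, 0, 0, 0, 0, 0, 0, 0, 0, 0, 0, 1, 0, 0, 0, 0, 0, 0, 0, 0, 0, 0, 0, 0, 0, 0, 0, 0, 0], [(3, (-1))]),
   (25, [0, 0, 0, 0, 0, 0, 0, 0, 0, 0, 0, 0, 0, 0, 0, 0, 0, 0, 0, 0, 0, (-1), 0, 0, 0, 1, 0, 0, 0, 0, 0, 0, 0, 0, 0, 0, 0, 0, 0, 0, 0, 0, 0, 0], [(2, (-1)), (6, (-1))]),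
   (24, [0, 0, 0, 0, 0, 0, 0, 0, 0, 0, 0, 0, 0, 0, 0, 0, 0, 0, 0, 0, 0, 0, 0, 0, 1, 0, 0, 0, 0, 0, 0, 0, 0, 0, 0, 0, 0, 0, 0, 0, 0, 0, 0, 0], [(1, 1)]),
   (23, [0, 0, 0, 0, 0, 0, 0, 0, 0, 0, 0, 0, 0, 0, 0, 0, 0, 0, 0, 0, 0, 1, 0, 1, 0, 0, 0, 0, 0, 0, 0, 0, 0, 0, 0, 0, 0, 0, 0, 0, 0, 0, 0, 0], [(2, 1), (3, 1), (11, 1)]),
   (22, [0, 0, 0, 0, 0, 0, 1, 0, 0, 0, 2, 0, 0, 0, 0, 0, 0, 0, 0, 0, 0, 0, 1, 0, 0, 0, 0, 0, 0, 0, 0, 0, 0, 0, 0, 0, 0, 0, 0, 0, 0, 0, 0, 0], [(7, 1)]),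
   (21, [0, 0, 0, 0, 0, 0, 1, 0, 0, 0, 2, 0, 0, 0, 0, 0, 0, 0, 0, 0, 0, 1, 0, 0, 0, 0, 0, 0, 0, 0, 0, 0, 0, 0, 0, 0, 0, 0, 0, 0, 0, 0, 0, 0], [(2, 1), (6, 1), (8, (-1))]),
   (20, [0, 0, 0, 0, 0, 1, 0, 0, 0, 0, 0, 0, 2, 0, 0, 0, 0, 0, 0, 0, 1, 0, 0, 0, 0, 0, 0, 0, 0, 0, 0, 0, 0, 0, 0, 0, 0, 0, 0, 0, 0, 0, 0, 0], [(10, (-1))]),
   (19, [0, 0, 0, 0, 0, 0, 2, 0, 0, 0, 4, 0, 0, 0, 0, 0, 0, 0, 0, 1, 0, 0, 0, 0, 0, 0, 0, 0, 0, 0, 0, 0, 0, 0, 0, 0, 0, 0, 0, 0, 0, 0, 0, 0], [(1, (-1)), (2, 1), (3, (-1)), (6, 1), (7, 1), (8, (-1)), (15, (-1))]),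
   (18, [0, 0, 0, 0, 0, (-1), (-1), 0, 0, 0, (-2), 0, (-2), 0, 0, (-1), 0, 0, 1, 0, 0, 0, 0, 0, 0, 0, 0, 0, 0, 0, 0, 0, 0, 0, 0, 0, 0, 0, 0, 0, 0, 0, 0, 0], [(3, 1), (8, 1), (10, 1), (14, 1)]),
   (17, [0, 0, 0, 0, 0, (-1), (-1), 0, 0, 0, (-2), 0, (-2), 0, 0, 0, 0, 1, 0, 0, 0, 0, 0, 0, 0, 0, 0, 0, 0, 0, 0, 0, 0, 0, 0, 0, 0, 0, 0, 0, 0, 0, 0, 0], [(1, 1), (2, 1), (8, 1), (10, 1), (13, 1)]),
   (16, [0, 0, 0, 0, 1, 0, 0, 0, 0, 0, 0, 2, 0, 0, 0, 0, 1, 0, 0, 0, 0, 0, 0, 0, 0, 0, 0, 0, 0, 0, 0, 0, 0, 0, 0, 0, 0, 0, 0, 0, 0, 0, 0, 0], [(9, (-1))]),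
   (15, [0, 0, 0, 0, 1, 0, 0, 0, 0, 0, 0, 2, 1, (-1), 0, 1, 0, 0, 0, 0, 0, 0, 0, 0, 0, 0, 0, 0, 0, 0, 0, 0, 0, 0, 0, 0, 0, 0, 0, 0, 0, 0, 0, 0], [(1, (-1)), (2, (-2)), (3, (-1)), (6, (-1)), (9, (-1)), (11, (-1)), (18, (-1))]),
   (14, [0, 0, 0, 0, 0, 0, 0, 0, 0, 0, 0, 0, 0, 0, 1, 0, 0, 0, 0, 0, 0, 0, 0, 0, 0, 0, 0, 0, 0, 0, 0, 0, 0, 0, 0, 0, 0, 0, 0, 0, 0, 0, 0, 0], [(0, 1)]),
   (13, [0, 0, 0, 0, (-1), 2, 0, 0, 0, 0, (-1), (-2), 3, 1, 0, 0, 0, 0, 0, 0, 0, 0, 0, 0, 0, 0, 0, 0, 0, 0, 0, 0, 0, 0, 0, 0, 0, 0, 0, 0, 0, 0, 0, 0], [(1, 1), (2, (-1)), (3, 1), (7, (-2)), (8, (-1)), (9, 1), (10, (-2)), (11, 1), (13, (-1)), (15, 1), (18, 1), (25, 1), (26, (-1)), (27, 1)]),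
   (12, [0, 0, (-1), 0, 0, 0, (-1), (-2), (-1), 0, 2, 2, 1, 0, 0, 0, 0, 0, 0, 0, 0, 0, 0, 0, 0, 0, 0, 0, 0, 0, 0, 0, 0, 0, 0, 0, 0, 0, 0, 0, 0, 0, 0, 0], [(1, (-1)), (2, (-1)), (3, (-3)), (8, (-1)), (9, (-1)), (11, (-1)), (12, (-1)), (13, (-1)), (17, 1), (18, (-1)), (19, (-1))]),
   (11, [0, 0, (-2), 0, (-1), (-1), (-4), (-4), (-2), 0, 0, 2, 0, 0, 0, 0, 0, 0, 0, 0, 0, 0, 0, 0, 0, 0, 0, 0, 0, 0, 0, 0, 0, 0, 0, 0, 0, 0, 0, 0, 0, 0, 0, 0], [(1, (-2)), (2, (-3)), (3, (-6)), (6, (-1)), (9, (-1)), (10, 1), (11, (-2)), (12, (-2)), (13, (-2)), (17, 2), (18, (-2)), (19, (-2)), (39, 1)]),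
   (10, [0, 0, (-15), 0, (-15), 7, (-15), (-30), 13, 1, 1, 0, 0, 0, 0, 0, 0, 0, 0, 0, 0, 0, 0, 0, 0, 0, 0, 0, 0, 0, 0, 0, 0, 0, 0, 0, 0, 0, 0, 0, 0, 0, 0, 0], [(0, (-1)), (1, (-28)), (2, (-24)), (3, (-60)), (4, 7), (6, 2), (7, (-9)), (8, (-11)), (10, 7), (11, (-16)), (12, (-29)), (13, (-26)), (14, (-1)), (15, (-2)), (16, 14), (17, 15), (18, (-15)), (19, (-15)), (25, (-3)), (26, 3), (27, (-3)), (34, (-1))]),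
   (9, [0, 0, 0, 0, 0, (-2), (-2), 0, (-5), 1, 0, 0, 0, 0, 0, 0, 0, 0, 0, 0, 0, 0, 0, 0, 0, 0, 0, 0, 0, 0, 0, 0, 0, 0, 0, 0, 0, 0, 0, 0, 0, 0, 0, 0], [(0, (-1)), (1, 2), (2, (-2)), (6, (-1)), (7, 1), (8, 1), (11, (-1)), (12, 1), (13, 1), (15, 1), (16, (-2)), (17, 1), (19, (-1)), (20, (-1))]),
   (8, [0, 0, (-4), 0, (-4), 1, (-5), (-8), 2, 0, 0, 0, 0, 0, 0, 0, 0, 0, 0, 0, 0, 0, 0, 0, 0, 0, 0, 0, 0, 0, 0, 0, 0, 0, 0, 0, 0, 0, 0, 0, 0, 0, 0, 0], [(1, (-10)), (2, (-7)), (3, (-17)), (4, 3), (5, 1), (7, (-2)), (8, (-3)), (10, 3), (11, (-6)), (12, (-7)), (13, (-6)), (15, (-2)), (16, 3), (17, 5), (18, (-6)), (19, (-4)), (25, (-2)), (26, 2), (27, (-2))]),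
   (7, [0, 0, 2, 0, 2, 0, 3, 4, 0, 0, 0, 0, 0, 0, 0, 0, 0, 0, 0, 0, 0, 0, 0, 0, 0, 0, 0, 0, 0, 0, 0, 0, 0, 0, 0, 0, 0, 0, 0, 0, 0, 0, 0, 0], [(1, 3), (2, 2), (3, 8), (4, (-1)), (7, 1), (8, 1), (10, (-1)), (11, 2), (12, 4), (13, 3), (16, (-1)), (17, (-2)), (18, 2), (19, 2)])]

/-- Generators of the derived group. -/
def m23P2Gs : List (List ℕ × List ℤ) :=
  [([2, 4, 5, 6], [0, 0, 1, 0, 1, 0, 2, 3, 1, 0, 0, 0, 0, 0, 0, 0, 0, 0, 0, 0, 0, 0, 0, 0, 0, 0, 0, 0, 0, 0, 0, 0, 0, 0, 0, 0, 0, 0, 0, 0, 0, 0, 0, 0]),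
   ([5, 6], [0, 0, 0, 0, 0, 0, 0, 0, 1, 0, 0, 0, 0, 0, 0, 0, 0, 0, 0, 0, 0, 0, 0, 0, 0, 0, 0, 0, 0, 0, 0, 0, 0, 0, 0, 0, 0, 0, 0, 0, 0, 0, 0, 0]),
   ([5], [0, 0, 1, 0, 1, 0, 2, 2, 1, 0, 0, 0, 0, 0, 0, 0, 0, 0, 0, 0, 0, 0, 0, 0, 0, 0, 0, 0, 0, 0, 0, 0, 0, 0, 0, 0, 0, 0, 0, 0, 0, 0, 0, 0]),
   ([4], [0, 0, 0, 0, 0, 0, 0, 0, 0, 0, 0, 1, 0, 0, 0, 0, 0, 0, 0, 0, 0, 0, 0, 0, 0, 0, 0, 0, 0, 0, 0, 0, 0, 0, 0, 0, 0, 0, 0, 0, 0, 0, 0, 0])]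

/-- Elements of the derived group. -/
def m23P2Elts : List (List ℕ × List ℤ) :=
  [([], [0, 0, 0, 0, 0, 0, 0, 0, 0, 0, 0, 0, 0, 0, 0, 0, 0, 0, 0, 0, 0, 0, 0, 0, 0, 0, 0, 0, 0, 0, 0, 0, 0, 0, 0, 0, 0, 0, 0, 0, 0, 0, 0, 0]),
   ([2, 4, 5, 6], [0, 0, 1, 0, 1, 0, 2, 3, 1, 0, 0, 0, 0, 0, 0, 0, 0, 0, 0, 0, 0, 0, 0, 0, 0, 0, 0, 0, 0, 0, 0, 0, 0, 0, 0, 0, 0, 0, 0, 0, 0, 0, 0, 0]),
   ([5, 6], [0, 0, 0, 0, 0, 0, 0, 0, 1, 0, 0, 0, 0, 0, 0, 0, 0, 0, 0, 0, 0, 0, 0, 0, 0, 0, 0, 0, 0, 0, 0, 0, 0, 0, 0, 0, 0, 0, 0, 0, 0, 0, 0, 0]),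
   ([5], [0, 0, 1, 0, 1, 0, 2, 2, 1, 0, 0, 0, 0, 0, 0, 0, 0, 0, 0, 0, 0, 0, 0, 0, 0, 0, 0, 0, 0, 0, 0, 0, 0, 0, 0, 0, 0, 0, 0, 0, 0, 0, 0, 0]),
   ([4], [0, 0, 0, 0, 0, 0, 0, 0, 0, 0, 0, 1, 0, 0, 0, 0, 0, 0, 0, 0, 0, 0, 0, 0, 0, 0, 0, 0, 0, 0, 0, 0, 0, 0, 0, 0, 0, 0, 0, 0, 0, 0, 0, 0]),
   ([2, 4], [0, 0, 1, 0, 1, 0, 2, 3, 0, 0, 0, 0, 0, 0, 0, 0, 0, 0, 0, 0, 0, 0, 0, 0, 0, 0, 0, 0, 0, 0, 0, 0, 0, 0, 0, 0, 0, 0, 0, 0, 0, 0, 0, 0]),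
   ([2, 4, 6], [0, 0, 0, 0, 0, 0, 0, 1, 0, 0, 0, 0, 0, 0, 0, 0, 0, 0, 0, 0, 0, 0, 0, 0, 0, 0, 0, 0, 0, 0, 0, 0, 0, 0, 0, 0, 0, 0, 0, 0, 0, 0, 0, 0]),
   ([2, 5, 6], [0, 0, 1, 0, 2, 0, 2, 3, 1, 0, 0, 1, 0, 0, 0, 0, 0, 0, 0, 0, 0, 0, 0, 0, 0, 0, 0, 0, 0, 0, 0, 0, 0, 0, 0, 0, 0, 0, 0, 0, 0, 0, 0, 0]),
   ([6], [0, 0, 1, 0, 1, 0, 1, 2, 0, 0, 0, 0, 0, 0, 0, 0, 0, 0, 0, 0, 0, 0, 0, 0, 0, 0, 0, 0, 0, 0, 0, 0, 0, 0, 0, 0, 0, 0, 0, 0, 0, 0, 0, 0]),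
   ([4, 5, 6], [0, 0, 0, 0, 0, 0, 0, 0, 1, 0, 0, 1, 0, 0, 0, 0, 0, 0, 0, 0, 0, 0, 0, 0, 0, 0, 0, 0, 0, 0, 0, 0, 0, 0, 0, 0, 0, 0, 0, 0, 0, 0, 0, 0]),
   ([4, 5], [0, 0, 1, 0, 1, 0, 2, 2, 1, 0, 0, 1, 0, 0, 0, 0, 0, 0, 0, 0, 0, 0, 0, 0, 0, 0, 0, 0, 0, 0, 0, 0, 0, 0, 0, 0, 0, 0, 0, 0, 0, 0, 0, 0]),
   ([2, 5], [0, 0, 0, 0, 1, 0, 1, 1, 1, 0, 0, 1, 0, 0, 0, 0, 0, 0, 0, 0, 0, 0, 0, 0, 0, 0, 0, 0, 0, 0, 0, 0, 0, 0, 0, 0, 0, 0, 0, 0, 0, 0, 0, 0]),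
   ([2, 4, 5], [0, 0, 0, 0, 0, 0, 1, 1, 1, 0, 0, 0, 0, 0, 0, 0, 0, 0, 0, 0, 0, 0, 0, 0, 0, 0, 0, 0, 0, 0, 0, 0, 0, 0, 0, 0, 0, 0, 0, 0, 0, 0, 0, 0]),
   ([2], [0, 0, 1, 0, 2, 0, 2, 3, 0, 0, 0, 1, 0, 0, 0, 0, 0, 0, 0, 0, 0, 0, 0, 0, 0, 0, 0, 0, 0, 0, 0, 0, 0, 0, 0, 0, 0, 0, 0, 0, 0, 0, 0, 0]),
   ([2, 6], [0, 0, 0, 0, 1, 0, 0, 1, 0, 0, 0, 1, 0, 0, 0, 0, 0, 0, 0, 0, 0, 0, 0, 0, 0, 0, 0, 0, 0, 0, 0, 0, 0, 0, 0, 0, 0, 0, 0, 0, 0, 0, 0, 0]),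
   ([4, 6], [0, 0, 1, 0, 1, 0, 1, 2, 0, 0, 0, 1, 0, 0, 0, 0, 0, 0, 0, 0, 0, 0, 0, 0, 0, 0, 0, 0, 0, 0, 0, 0, 0, 0, 0, 0, 0, 0, 0, 0, 0, 0, 0, 0])]

/-- The data. -/
def m23P2Data : SchurData where
  p := 2
  a := m23P2CGens
  derived := m23P2CDerived
  levels := m23P2CLevels
  pow := [[], [4], [6], [], [], [], []]
  comm := [[], [[0, 1, 2, 4, 6]], [[0, 2, 5, 6], [1, 2, 5, 6]], [[0, 3, 6], [1, 3, 4], [2, 3, 5]], [[0, 4, 5, 6], [1, 4], [2, 4, 6], [3, 4]], [[0, 5], [1, 5, 6], [2, 5], [3, 5], [4, 5]], [[0, 6], [1, 6], [2, 6], [3, 6], [4, 6], [5, 6]]]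
  ords := [2, 4, 4, 2, 2, 2, 2]
  fus := m23P2Fus
  nv := 44
  rels := m23P2Rels
  rows := m23P2Rows
  gs := m23P2Gs
  elts := m23P2Elts
  commWit := [[], [[0]], [[1], [2]], [[1, 2], [3], [2]], [[1], [], [1, 2], []], [[], [1, 2], [], [], []], [[], [], [], [], [], []]]
  conjWit := [[[0], [1], [2], [1, 3]], [[0, 1], [2], [1], [3]], [[0, 1, 2], [1], [2], [0, 3, 0]], [[0, 2], [1], [2], [3]], [[0, 1, 2], [1], [2], [3]], [[0], [1], [2], [3]], [[0], [1], [2], [3]]]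
  ext := []

end Cfsg.Agent.SchurMult
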