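import Cfsg.Agent.Lib.Compute.SchurDefs

/-! Certificate for the 3-part of the Schur multiplier of M23. -/

set_option autoImplicit false
set_option maxRecDepth 20000

namespace Cfsg.Agent.SchurMult

open Cfsg.Agent.PermCert Cfsg.Agent.PermSchur

/-- Generators. -/
def m23P3CGens : List Elt :=
  [(964591709355950767767584910776513679, 980430413107660720163220257985182292),
    (964576522113933669557864903740934240, 980801832026095759744463176405669280)]

/-- Derived elements. -/
def m23P3CDerived : List (Elt × List ℕ) :=
  []

/-- Level 0. -/
def m23P3CLevel0 : CLevel :=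
  (0, [(964591709355950767767584910776513679, 980430413107660720163220257985182292),
    (964576522113933669557864903740934240, 980801832026095759744463176405669280)],
   [(0, (984818244535754528103549039458486304, 984818244535754528103549039458486304), 0, 0),
    (15, (964591709355950767767584910776513679, 980430413107660720163220257985182292), 0, 0),
    (20, (980430413107660720163220257985182292, 964591709355950767767584910776513679), 1, 0)])

/-- Level 1. -/
def m23P3CLevel1 : CLevel :=
  (1, [(964576522113933669557864903740934240, 980801832026095759744463176405669280)],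
   [(1, (984818244535754528103549039458486304, 984818244535754528103549039458486304), 0, 0),
    (3, (964576522113933669557864903740934240, 980801832026095759744463176405669280), 0, 0),
    (13, (980801832026095759744463176405669280, 964576522113933669557864903740934240), 1, 0)])

/-- The stabiliser chain. -/
def m23P3CLevels : List CLevel :=
  [m23P3CLevel0, m23P3CLevel1]

/-- Conjugations. -/
def m23P3Fus : List Fusion :=
  [⟨(966643401761828441663256156016556455, 975720336938860569178401755369711180), [[0], [1]], [[1, 1], [0, 0, 1]]⟩]

/-- Relations. -/
def m23P3Rels : List Rel :=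
  [Rel.assoc [1] [0, 0] [0],
   Rel.fuse 0 [0, 0, 0] [],
   Rel.fuse 0 [1, 1, 1] [],
   Rel.fuse 0 [1, 0] [0, 1]]

/-- Derived rows. -/
def m23P3Rows : List (ℕ × List ℤ × List (ℕ × ℤ)) :=
  [(4, [2, 0, 6, 0, 3], [(2, 1)]),
   (3, [(-1), 2, 0, 3, 0], [(1, 1)]),
   (2, [0, 0, 1, 0, 0], [(0, 2), (3, 1)])]

/-- Generators of the derived group. -/
def m23P3Gs : List (List ℕ × List ℤ) :=
  []

/-- Elements of the derived group. -/
def m23P3Elts : List (List ℕ × List ℤ) :=
  [([], [0, 0, 0, 0, 0])]

/-- The data. -/
def m23P3Data : SchurData where
  p := 3
  a := m23P3CGens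
  derived := m23P3CDerived
  levels := m23P3CLevels
  pow := [[], []]
  comm := [[], [[0, 1]]]
  ords := [3, 3]
  fus := m23P3Fus
  nv := 5
  rels := m23P3Rels
  rows := m23P3Rows
  gs := m23P3Gs
  elts := m23P3Elts
  commWit := [[], [[]]]
  conjWit := [[], []]
  ext := []

end Cfsg.Agent.SchurMult
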