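import Cfsg.Agent.Lib.Compute.SchurDefs

/-! Certificate for the 5-part of the Schur multiplier of M23. -/

set_option autoImplicit false
set_option maxRecDepth 20000

namespace Cfsg.Agent.SchurMult

open Cfsg.Agent.PermCert Cfsg.Agent.PermSchur

/-- Generators. -/
def m23P5CGens : List Elt :=
  [(983352792044383457140556688921408101, 960175672862014573251716500345527599)]

/-- Derived elements. -/
def m23P5CDerived : List (Elt × List ℕ) :=
  []

/-- Level 0. -/
def m23P5CLevel0 : CLevel :=
  (0, [(983352792044383457140556688921408101, 960175672862014573251716500345527599)],
   [(0, (984818244535754528103549039458486304, 984818244535754528103549039458486304), 0, 0),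
    (5, (983352792044383457140556688921408101, 960175672862014573251716500345527599), 0, 0),
    (20, (978037252859712988486934485054165588, 973677714055482672503734187705546096), 1, 0),
    (16, (973677714055482672503734187705546096, 978037252859712988486934485054165588), 2, 0),
    (15, (960175672862014573251716500345527599, 983352792044383457140556688921408101), 3, 0)])

/-- The stabiliser chain. -/
def m23P5CLevels : List CLevel :=
  [m23P5CLevel0]

/-- Conjugations. -/
def m23P5Fus : List Fusion :=
  []

/-- Relations. -/
def m23P5Rels : List Rel :=
  []

/-- Derived rows. -/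
def m23P5Rows : List (ℕ × List ℤ × List (ℕ × ℤ)) :=
  []

/-- Generators of the derived group. -/
def m23P5Gs : List (List ℕ × List ℤ) :=
  []

/-- Elements of the derived group. -/
def m23P5Elts : List (List ℕ × List ℤ) :=
  [([], [0])]

/-- The data. -/
def m23P5Data : SchurData where
  p := 5
  a := m23P5CGens
  derived := m23P5CDerived
  levels := m23P5CLevels
  pow := [[]]
  comm := [[]]
  ords := [5]
  fus := m23P5Fus
  nv := 1
  rels := m23P5Rels
  rows := m23P5Rows
  gs := m23P5Gs
  elts := m23P5Elts
  commWit := [[]]
  conjWit := [[]]
  ext := []

end Cfsg.Agent.SchurMult
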