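import Cfsg.Agent.Lib.Compute.SchurDefs

/-! Certificate for the 7-part of the Schur multiplier of M23. -/

set_option autoImplicit false
set_option maxRecDepth 20000

namespace Cfsg.Agent.SchurMult

open Cfsg.Agent.PermCert Cfsg.Agent.PermSchur

/-- Generators. -/
def m23P7CGens : List Elt :=
  [(958524652887428938622816227550346337, 966238128280412668357206238315993106)]

/-- Derived elements. -/
def m23P7CDerived : List (Elt × List ℕ) :=
  []

/-- Level 0. -/
def m23P7CLevel0 : CLevel :=
  (0, [(958524652887428938622816227550346337, 966238128280412668357206238315993106)],
   [(0, (984818244535754528103549039458486304, 984818244535754528103549039458486304), 0, 0),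
    (1, (958524652887428938622816227550346337, 966238128280412668357206238315993106), 0, 0),
    (3, (975026692319802503701079485031107875, 974264365798398627186111342001005136), 1, 0),
    (9, (980317630408021262357688679866585321, 981550348470257269381982406233897479), 2, 0),
    (7, (981550348470257269381982406233897479, 980317630408021262357688679866585321), 3, 0),
    (16, (974264365798398627186111342001005136, 975026692319802503701079485031107875), 4, 0),
    (18, (966238128280412668357206238315993106, 958524652887428938622816227550346337), 5, 0)])

/-- The stabiliser chain. -/
def m23P7CLevels : List CLevel :=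
  [m23P7CLevel0]

/-- Conjugations. -/
def m23P7Fus : List Fusion :=
  []

/-- Relations. -/
def m23P7Rels : List Rel :=
  []

/-- Derived rows. -/
def m23P7Rows : List (ℕ × List ℤ × List (ℕ × ℤ)) :=
  []

/-- Generators of the derived group. -/
def m23P7Gs : List (List ℕ × List ℤ) :=
  []

/-- Elements of the derived group. -/
def m23P7Elts : List (List ℕ × List ℤ) :=
  [([], [0])]

/-- The data. -/
def m23P7Data : SchurData where
  p := 7
  a := m23P7CGens
  derived := m23P7CDerived
  levels := m23P7CLevels
  pow := [[]]
  comm := [[]]
  ords := [7]
  fus := m23P7Fus
  nv := 1
  rels := m23P7Rels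
  rows := m23P7Rows
  gs := m23P7Gs
  elts := m23P7Elts
  commWit := [[]]
  conjWit := [[]]
  ext := []

end Cfsg.Agent.SchurMult
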