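import Cfsg.Agent.Lib.Compute.SchurDefs

/-! Certificate for the 11-part of the Schur multiplier of M24. -/

set_option autoImplicit false
set_option maxRecDepth 20000

namespace Cfsg.Agent.SchurMult

open Cfsg.Agent.PermCert Cfsg.Agent.PermSchur

/-- Generators. -/
def m24P11CGens : List Elt :=
  [(667345337469487395623035529790182625, 480392928877852010321811865588127753)]

/-- Derived elements. -/
def m24P11CDerived : List (Elt × List ℕ) :=
  []

/-- Level 0. -/
def m24P11CLevel0 : CLevel :=
  (0, [(667345337469487395623035529790182625, 480392928877852010321811865588127753)],
   [(0, (984818244535754528103549039458486304, 984818244535754528103549039458486304), 0, 0),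
    (1, (667345337469487395623035529790182625, 480392928877852010321811865588127753), 0, 0),
    (7, (359829360408884980933555179645144455, 599312382955363330946983660185798949), 1, 0),
    (12, (212373928885381743123185526926612940, 518666426286788319170006347867174056), 2, 0),
    (14, (382468452551877908099894489446174062, 304303434195940593179142418873269520), 3, 0),
    (11, (25097667724085302230198603026518763, 68111762447153484949773441246341655), 4, 0),
    (23, (68111762447153484949773441246341655, 25097667724085302230198603026518763), 5, 0),
    (16, (304303434195940593179142418873269520, 382468452551877908099894489446174062), 6, 0),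
    (8, (518666426286788319170006347867174056, 212373928885381743123185526926612940), 7, 0),
    (5, (599312382955363330946983660185798949, 359829360408884980933555179645144455), 8, 0),
    (9, (480392928877852010321811865588127753, 667345337469487395623035529790182625), 9, 0)])

/-- The stabiliser chain. -/
def m24P11CLevels : List CLevel :=
  [m24P11CLevel0]

/-- Conjugations. -/
def m24P11Fus : List Fusion :=
  []

/-- Relations. -/
def m24P11Rels : List Rel :=
  []

/-- Derived rows. -/
def m24P11Rows : List (ℕ × List ℤ × List (ℕ × ℤ)) :=
  []

/-- Generators of the derived group. -/
def m24P11Gs : List (List ℕ × List ℤ) :=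
  []

/-- Elements of the derived group. -/
def m24P11Elts : List (List ℕ × List ℤ) :=
  [([], [0])]

/-- The data. -/
def m24P11Data : SchurData where
  p := 11
  a := m24P11CGens
  derived := m24P11CDerived
  levels := m24P11CLevels
  pow := [[]]
  comm := [[]]
  ords := [11]
  fus := m24P11Fus
  nv := 1
  rels := m24P11Rels
  rows := m24P11Rows
  gs := m24P11Gs
  elts := m24P11Elts
  commWit := [[]]
  conjWit := [[]]
  ext := []

end Cfsg.Agent.SchurMult
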