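import Cfsg.Agent.Lib.Compute.SchurDefs

/-! Certificate for the 23-part of the Schur multiplier of M24. -/

set_option autoImplicit false
set_option maxRecDepth 20000

namespace Cfsg.Agent.SchurMult

open Cfsg.Agent.PermCert Cfsg.Agent.PermSchur

/-- Generators. -/
def m24P23CGens : List Elt :=
  [(107917640281947591909977319859198401, 434986323101644475362271133443709971)]

/-- Derived elements. -/
def m24P23CDerived : List (Elt × List ℕ) :=
  []

/-- Level 0. -/
def m24P23CLevel0 : CLevel :=
  (0, [(107917640281947591909977319859198401, 434986323101644475362271133443709971)],
   [(0, (984818244535754528103549039458486304, 984818244535754528103549039458486304), 0, 0),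
    (1, (107917640281947591909977319859198401, 434986323101644475362271133443709971), 0, 0),
    (14, (249599200200517757766799932908511598, 391230548607066323721449301893327478), 1, 0),
    (11, (334037912250154354225467733119907339, 177371468777987753346476142716233423), 2, 0),
    (16, (559110413693841877477214624248315440, 880398887948306691090253797726425581), 3, 0),
    (17, (637447637832108898120118043637701201, 127955622882721432704389460340037032), 4, 0),
    (18, (934870179165121255661485426376527090, 529023634381025326126996610074807558), 5, 0),
    (7, (811650783039202460307816441604932231, 844399479784123515395697468056645826), 6, 0),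
    (20, (23895503845924037933324503092561300, 302897928992586886283741856098898007), 7, 0),
    (12, (51241793715113579482675195146582124, 753475412927068869922964972311191274), 8, 0),
    (3, (608401778422921011746926970105474723, 733480559266881786015978295497083209), 9, 0),
    (21, (473286351525238077956056435298877589, 668528077329586720852295528394376484), 10, 0),
    (4, (668528077329586720852295528394376484, 473286351525238077956056435298877589), 11, 0),
    (9, (733480559266881786015978295497083209, 608401778422921011746926970105474723), 12, 0),
    (10, (753475412927068869922964972311191274, 51241793715113579482675195146582124), 13, 0),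
    (23, (302897928992586886283741856098898007, 23895503845924037933324503092561300), 14, 0),
    (2, (844399479784123515395697468056645826, 811650783039202460307816441604932231), 15, 0),
    (6, (529023634381025326126996610074807558, 934870179165121255661485426376527090), 16, 0),
    (8, (127955622882721432704389460340037032, 637447637832108898120118043637701201), 17, 0),
    (13, (880398887948306691090253797726425581, 559110413693841877477214624248315440), 18, 0),
    (15, (177371468777987753346476142716233423, 334037912250154354225467733119907339), 19, 0),
    (22, (391230548607066323721449301893327478, 249599200200517757766799932908511598), 20, 0),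
    (19, (434986323101644475362271133443709971, 107917640281947591909977319859198401), 21, 0)])

/-- The stabiliser chain. -/
def m24P23CLevels : List CLevel :=
  [m24P23CLevel0]

/-- Conjugations. -/
def m24P23Fus : List Fusion :=
  []

/-- Relations. -/
def m24P23Rels : List Rel :=
  []

/-- Derived rows. -/
def m24P23Rows : List (ℕ × List ℤ × List (ℕ × ℤ)) :=
  []

/-- Generators of the derived group. -/
def m24P23Gs : List (List ℕ × List ℤ) :=
  []

/-- Elements of the derived group. -/
def m24P23Elts : List (List ℕ × List ℤ) :=
  [([], [0])]

/-- The data. -/
def m24P23Data : SchurData where
  p := 23
  a := m24P23CGens
  derived := m24P23CDerived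
  levels := m24P23CLevels
  pow := [[]]
  comm := [[]]
  ords := [23]
  fus := m24P23Fus
  nv := 1
  rels := m24P23Rels
  rows := m24P23Rows
  gs := m24P23Gs
  elts := m24P23Elts
  commWit := [[]]
  conjWit := [[]]
  ext := []

end Cfsg.Agent.SchurMult
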