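import Cfsg.Agent.Lib.SchurMult.M24P2Data

/-! Kernel check of the closure of the derived group for the 2-part of M24, in four pieces. -/

set_option autoImplicit false

namespace Cfsg.Agent.SchurMult

open Cfsg.Agent.PermCert Cfsg.Agent.PermSchur

theorem m24P2_clos0 : (((m24P2Data.elts.drop 0).take 16).all (fun t => m24P2Data.gs.all fun s => m24P2Data.elts.any fun t' => normal m24P2Data (t.1 ++ s.1) (vadd t.2 s.2) == t')) = true := by
  decide +kernel

theorem m24P2_clos1 : (((m24P2Data.elts.drop 16).take 16).all (fun t => m24P2Data.gs.all fun s => m24P2Data.elts.any fun t' => normal m24P2Data (t.1 ++ s.1) (vadd t.2 s.2) == t')) = true := by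
  decide +kernel

theorem m24P2_clos2 : (((m24P2Data.elts.drop 32).take 16).all (fun t => m24P2Data.gs.all fun s => m24P2Data.elts.any fun t' => normal m24P2Data (t.1 ++ s.1) (vadd t.2 s.2) == t')) = true := by
  decide +kernel

theorem m24P2_clos3 : (((m24P2Data.elts.drop 48).take 16).all (fun t => m24P2Data.gs.all fun s => m24P2Data.elts.any fun t' => normal m24P2Data (t.1 ++ s.1) (vadd t.2 s.2) == t')) = true := by
  decide +kernel

theorem m24P2_len : m24P2Data.elts.length ≤ 64 := by decide +kernel

theorem m24P2_clos : m24P2Data.elts.all (fun t => m24P2Data.gs.all fun s => m24P2Data.elts.any fun t' => normal m24P2Data (t.1 ++ s.1) (vadd t.2 s.2) == t') = true := by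
  rw [List.all_eq_true]
  intro t ht
  obtain ⟨i, hi, rfl⟩ := List.mem_iff_getElem.1 ht
  have hi' : i < 64 := hi.trans_le m24P2_len
  have key : ∀ m, m * 16 ≤ i → i < m * 16 + 16 → m24P2Data.elts[i] ∈ (m24P2Data.elts.drop (m * 16)).take 16 := by
    intro m h1 h2
    refine List.mem_iff_getElem.2 ⟨i - m * 16, ?_, ?_⟩
    · rw [List.length_take, List.length_drop]; omega
    · rw [List.getElem_take, List.getElem_drop]
      congr 1
      omega
  rcases (show i < 16 ∨ 16 ≤ i ∧ i < 32 ∨ 32 ≤ i ∧ i < 48 ∨ 48 ≤ i by omega) with h | h | h | h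
  · exact List.all_eq_true.1 m24P2_clos0 _ (key 0 (by omega) (by omega))
  · exact List.all_eq_true.1 m24P2_clos1 _ (key 1 (by omega) (by omega))
  · exact List.all_eq_true.1 m24P2_clos2 _ (key 2 (by omega) (by omega))
  · exact List.all_eq_true.1 m24P2_clos3 _ (key 3 (by omega) (by omega))

end Cfsg.Agent.SchurMult
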