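import Cfsg.Agent.Lib.Compute.SchurDefs

/-! Certificate for the 3-part of the Schur multiplier of M24. -/

set_option autoImplicit false
set_option maxRecDepth 20000

namespace Cfsg.Agent.SchurMult

open Cfsg.Agent.PermCert Cfsg.Agent.PermSchur

/-- Generators. -/
def m24P3CGens : List Elt :=
  [(835532222784315484967599809245062369, 607081817202455651526562491178622983),
    (477919912303389913809074035972606080, 314849410276044631174500906670918080),
    (316284029727219618896678618974062726, 461676701581101367778630642066622932)]

/-- Derived elements. -/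
def m24P3CDerived : List (Elt × List ℕ) :=
  []

/-- Level 0. -/
def m24P3CLevel0 : CLevel :=
  (0, [(835532222784315484967599809245062369, 607081817202455651526562491178622983),
    (477919912303389913809074035972606080, 314849410276044631174500906670918080)],
   [(0, (984818244535754528103549039458486304, 984818244535754528103549039458486304), 0, 0),
    (1, (835532222784315484967599809245062369, 607081817202455651526562491178622983), 0, 0),
    (7, (607081817202455651526562491178622983, 835532222784315484967599809245062369), 1, 0),
    (4, (850443364219294148213410215492921060, 65622962777326755945224324071727751), 1, 1),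
    (23, (54736507541745717149637762162892823, 24073172844495857919921888502916833), 2, 1),
    (11, (602518533922503899836460318073528971, 265498543134722903053799402375816420), 3, 0),
    (14, (848337867762476624519466576084608366, 185857250933273471050801796270596295), 3, 1),
    (20, (310450805664798857947055961871288372, 473189143632896200902918677679638566), 4, 0),
    (6, (968566806772452292113139607675603398, 972955526411109493970140358492162196), 5, 0)])

/-- Level 1. -/
def m24P3CLevel1 : CLevel :=
  (1, [(477919912303389913809074035972606080, 314849410276044631174500906670918080)],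
   [(1, (984818244535754528103549039458486304, 984818244535754528103549039458486304), 0, 0),
    (4, (477919912303389913809074035972606080, 314849410276044631174500906670918080), 0, 0),
    (14, (314849410276044631174500906670918080, 477919912303389913809074035972606080), 1, 0)])

/-- The stabiliser chain. -/
def m24P3CLevels : List CLevel :=
  [m24P3CLevel0, m24P3CLevel1]

/-- Conjugations. -/
def m24P3Fus : List Fusion :=
  [⟨(789574178567153356953534204545222218, 430032363832030569127156601861686678), [[0], [1], [2]], [[1, 2, 2], [0, 0, 2], [2]]⟩]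

/-- Relations. -/
def m24P3Rels : List Rel :=
  [Rel.assoc [2] [0, 0] [0],
   Rel.assoc [1] [0, 0] [0],
   Rel.fuse 0 [0, 0, 0] [],
   Rel.fuse 0 [1, 1, 1] [],
   Rel.fuse 0 [1, 0] [0, 1, 2],
   Rel.fuse 0 [2, 0] [0, 2],
   Rel.fuse 0 [2, 1] [1, 2]]

/-- Derived rows. -/
def m24P3Rows : List (ℕ × List ℤ × List (ℕ × ℤ)) :=
  [(8, [0, 0, 1, 3, 2, (-1), 0, 0, 1], [(4, (-1))]),
   (7, [2, (-1), 1, 0, 6, 0, 0, 3, 0], [(3, 1)]),
   (6, [(-1), 1, 2, 0, 0, 3, 3, 0, 0], [(2, 1)]),
   (5, [0, 0, 0, 0, (-1), 1, 0, 0, 0], [(5, 1)]),
   (4, [0, 0, 0, 0, 1, 0, 0, 0, 0], [(5, 1), (6, 1)]),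
   (3, [0, 0, 1, 3, 0, 0, 0, 0, 0], [(0, (-1)), (1, 1)])]

/-- Generators of the derived group. -/
def m24P3Gs : List (List ℕ × List ℤ) :=
  [([2], [0, 0, 0, 1, 0, 0, 0, 0, 0])]

/-- Elements of the derived group. -/
def m24P3Elts : List (List ℕ × List ℤ) :=
  [([], [0, 0, 0, 0, 0, 0, 0, 0, 0]),
   ([2], [0, 0, 0, 1, 0, 0, 0, 0, 0]),
   ([2, 2], [0, 0, 0, 2, 0, 0, 0, 0, 0])]

/-- The data. -/
def m24P3Data : SchurData where
  p := 3
  a := m24P3CGens
  derived := m24P3CDerived
  levels := m24P3CLevels
  pow := [[], [], []]
  comm := [[], [[0, 1, 2]], [[0, 2], [1, 2]]]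
  ords := [3, 3, 3]
  fus := m24P3Fus
  nv := 9
  rels := m24P3Rels
  rows := m24P3Rows
  gs := m24P3Gs
  elts := m24P3Elts
  commWit := [[], [[0]], [[], []]]
  conjWit := [[[0]], [[0]], [[0]]]
  ext := []

end Cfsg.Agent.SchurMult
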