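import Cfsg.Agent.Lib.Compute.SchurDefs

/-! Certificate for the 5-part of the Schur multiplier of M24. -/

set_option autoImplicit false
set_option maxRecDepth 20000

namespace Cfsg.Agent.SchurMult

open Cfsg.Agent.PermCert Cfsg.Agent.PermSchur

/-- Generators. -/
def m24P5CGens : List Elt :=
  [(229321445809703694486506023781763431, 812165136101020649018946017334233232)]

/-- Derived elements. -/
def m24P5CDerived : List (Elt × List ℕ) :=
  []

/-- Level 0. -/
def m24P5CLevel0 : CLevel :=
  (0, [(229321445809703694486506023781763431, 812165136101020649018946017334233232)],
   [(0, (984818244535754528103549039458486304, 984818244535754528103549039458486304), 0, 0),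
    (7, (229321445809703694486506023781763431, 812165136101020649018946017334233232), 0, 0),
    (17, (582399450500612952240063594041018769, 425341712382862846803556013629868630), 1, 0),
    (22, (425341712382862846803556013629868630, 582399450500612952240063594041018769), 2, 0),
    (16, (812165136101020649018946017334233232, 229321445809703694486506023781763431), 3, 0)])

/-- The stabiliser chain. -/
def m24P5CLevels : List CLevel :=
  [m24P5CLevel0]

/-- Conjugations. -/
def m24P5Fus : List Fusion :=
  []

/-- Relations. -/
def m24P5Rels : List Rel :=
  []

/-- Derived rows. -/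
def m24P5Rows : List (ℕ × List ℤ × List (ℕ × ℤ)) :=
  []

/-- Generators of the derived group. -/
def m24P5Gs : List (List ℕ × List ℤ) :=
  []

/-- Elements of the derived group. -/
def m24P5Elts : List (List ℕ × List ℤ) :=
  [([], [0])]

/-- The data. -/
def m24P5Data : SchurData where
  p := 5
  a := m24P5CGens
  derived := m24P5CDerived
  levels := m24P5CLevels
  pow := [[]]
  comm := [[]]
  ords := [5]
  fus := m24P5Fus
  nv := 1
  rels := m24P5Rels
  rows := m24P5Rows
  gs := m24P5Gs
  elts := m24P5Elts
  commWit := [[]]
  conjWit := [[]]
  ext := []

end Cfsg.Agent.SchurMult
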