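import Cfsg.Agent.Lib.Compute.SchurDefs

/-! Certificate for the 7-part of the Schur multiplier of M24. -/

set_option autoImplicit false
set_option maxRecDepth 20000

namespace Cfsg.Agent.SchurMult

open Cfsg.Agent.PermCert Cfsg.Agent.PermSchur

/-- Generators. -/
def m24P7CGens : List Elt :=
  [(391634760983433487196836844112776224, 609176234842183744171240705120868384)]

/-- Derived elements. -/
def m24P7CDerived : List (Elt × List ℕ) :=
  []

/-- Level 0. -/
def m24P7CLevel0 : CLevel :=
  (2, [(391634760983433487196836844112776224, 609176234842183744171240705120868384)],
   [(2, (984818244535754528103549039458486304, 984818244535754528103549039458486304), 0, 0),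
    (3, (391634760983433487196836844112776224, 609176234842183744171240705120868384), 0, 0),
    (18, (878046593216112411004077096119322656, 178793840745467878435081343060876320), 1, 0),
    (8, (932199242658062918878784786464415776, 570435806201149191554627444826936352), 2, 0),
    (5, (570435806201149191554627444826936352, 932199242658062918878784786464415776), 3, 0),
    (7, (178793840745467878435081343060876320, 878046593216112411004077096119322656), 4, 0),
    (6, (609176234842183744171240705120868384, 391634760983433487196836844112776224), 5, 0)])

/-- The stabiliser chain. -/
def m24P7CLevels : List CLevel :=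
  [m24P7CLevel0]

/-- Conjugations. -/
def m24P7Fus : List Fusion :=
  []

/-- Relations. -/
def m24P7Rels : List Rel :=
  []

/-- Derived rows. -/
def m24P7Rows : List (ℕ × List ℤ × List (ℕ × ℤ)) :=
  []

/-- Generators of the derived group. -/
def m24P7Gs : List (List ℕ × List ℤ) :=
  []

/-- Elements of the derived group. -/
def m24P7Elts : List (List ℕ × List ℤ) :=
  [([], [0])]

/-- The data. -/
def m24P7Data : SchurData where
  p := 7
  a := m24P7CGens
  derived := m24P7CDerived
  levels := m24P7CLevels
  pow := [[]]
  comm := [[]]
  ords := [7]
  fus := m24P7Fus
  nv := 1
  rels := m24P7Rels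
  rows := m24P7Rows
  gs := m24P7Gs
  elts := m24P7Elts
  commWit := [[]]
  conjWit := [[]]
  ext := []

end Cfsg.Agent.SchurMult
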