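import Cfsg.Agent.Lib.SchurMult.O82Group
import Cfsg.Agent.Lib.SchurMult.O82Pair
import Cfsg.Agent.Lib.SchurMult.O82Data
import Cfsg.Agent.Lib.SchurMult.Surj
import Mathlib.GroupTheory.Abelianization.Defs

/-! Two double covers, related by triality, acting on 240 roots each. -/

set_option autoImplicit false
set_option maxRecDepth 100000

namespace Cfsg.Agent.SchurMult

open Cfsg.Agent.PermCert

/-- The opposite root. -/
def flip8 (i : Fin 240) : Fin 240 := Fin.ofNat 240 (if (i : ℕ) % 2 = 0 then i + 1 else i - 1)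

/-- The pair of a root. -/
def half8 (i : Fin 240) : Fin 120 := Fin.ofNat 120 ((i : ℕ) / 2)

/-- The first root of a pair. -/
def dbl8 (k : Fin 120) : Fin 240 := Fin.ofNat 240 (2 * k)

theorem half_flip : ∀ i, half8 (flip8 i) = half8 i := by decide +kernel
theorem half_dbl : ∀ k, half8 (dbl8 k) = k := by decide +kernel
theorem dbl_half : ∀ i, dbl8 (half8 i) = i ∨ dbl8 (half8 i) = flip8 i := by decide +kernel
theorem flip_flip : ∀ i, flip8 (flip8 i) = i := by decide +kernel
theorem flip_ne : ∀ i, flip8 i ≠ i := by decide +kernel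
theorem half_eq : ∀ i k, half8 i = k → i = dbl8 k ∨ i = flip8 (dbl8 k) := by decide +kernel

/-- The exchange of opposite roots. -/
def negPerm : Equiv.Perm (Fin 240) := ⟨flip8, flip8, flip_flip, flip_flip⟩

/-- The bit mask of a list. -/
def maskOf : List ℕ → ℕ
  | [] => 0
  | a :: l => maskOf l ||| 1 <<< a

theorem testBit_maskOf (j : ℕ) : ∀ l : List ℕ, (maskOf l).testBit j = true ↔ j ∈ l
  | [] => by simp [maskOf]
  | a :: l => by
    rw [maskOf, Nat.testBit_or, Bool.or_eq_true, Nat.one_shiftLeft, Nat.testBit_two_pow, decide_eq_true_iff,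
      testBit_maskOf j l, List.mem_cons]
    exact ⟨fun h => h.elim Or.inr fun e => Or.inl e.symm, fun h => h.elim (fun e => Or.inr e.symm) Or.inl⟩

/-- Positivity of the product of two roots. -/
def PosR (i j : Fin 240) : Prop := (j : ℕ) ∈ o82Nbr.getD i []

theorem o82_nbr_lt : ∀ i : Fin 240, ∀ j ∈ o82Nbr.getD i [], j < 240 := by decide +kernel

/-- The permutations preserving the pairs and the positivity. -/
def rootGroup : Subgroup (Equiv.Perm (Fin 240)) where
  carrier := {p | (∀ i, p (flip8 i) = flip8 (p i)) ∧ ∀ i j, PosR (p i) (p j) ↔ PosR i j}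
  one_mem' := ⟨fun _ => rfl, fun _ _ => Iff.rfl⟩
  mul_mem' := fun {p q} hp hq => ⟨fun i => by
    rw [Equiv.Perm.mul_apply, hq.1, hp.1]; rfl, fun i j => (hp.2 _ _).trans (hq.2 i j)⟩
  inv_mem' := fun {p} hp => ⟨fun i => p.injective (by rw [hp.1]; simp),
    fun i j => by rw [← hp.2]; simp⟩

theorem flip_commute (p : rootGroup) : (p : Equiv.Perm (Fin 240)) * negPerm = negPerm * p :=
  Equiv.ext fun i => p.2.1 i

theorem half_apply (p : rootGroup) (i : Fin 240) :
    half8 ((p : Equiv.Perm (Fin 240)) (dbl8 (half8 i))) = half8 ((p : Equiv.Perm (Fin 240)) i) := by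
  rcases dbl_half i with e | e <;> rw [e]
  rw [p.2.1, half_flip]

/-- The action on pairs. -/
def down8 : rootGroup →* Equiv.Perm (Fin 120) :=
  MonoidHom.toHomPerm
    { toFun := fun p k => half8 ((p : Equiv.Perm (Fin 240)) (dbl8 k))
      map_one' := funext half_dbl
      map_mul' := fun p q => funext fun k => (half_apply p ((q : Equiv.Perm (Fin 240)) (dbl8 k))).symm }

theorem down8_apply (p : rootGroup) (k : Fin 120) :
    down8 p k = half8 ((p : Equiv.Perm (Fin 240)) (dbl8 k)) := rfl

theorem tree_check : ∀ k : Fin 120, (k : ℕ) = 0 ∨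
    (o82Rank.getD (o82Par.getD k 0) 0 < o82Rank.getD k 0 ∧ o82Par.getD k 0 < 120 ∧
      decide ((dbl8 (Fin.ofNat 120 (o82Par.getD k 0)) : ℕ) ∈ o82Nbr.getD (dbl8 k) []) ≠
        decide ((dbl8 (Fin.ofNat 120 (o82Par.getD k 0)) : ℕ) ∈ o82Nbr.getD (flip8 (dbl8 k)) [])) := by
  decide +kernel

/-- A criterion for membership by bit masks. -/
theorem mem_rootGroup_of (p : Equiv.Perm (Fin 240)) (hf : ∀ i, p (flip8 i) = flip8 (p i))
    (hm : ∀ i : Fin 240, maskOf ((o82Nbr.getD i []).map fun j => (p (Fin.ofNat 240 j) : ℕ)) =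
      maskOf (o82Nbr.getD (p i) [])) : p ∈ rootGroup := by
  refine ⟨hf, fun i j => ?_⟩
  show _ ∈ _ ↔ _ ∈ _
  rw [← testBit_maskOf, ← hm, testBit_maskOf, List.mem_map]
  constructor
  · rintro ⟨x, hx, e⟩
    have hx' := o82_nbr_lt i x hx
    rw [← p.injective (Fin.ext e)]
    simpa [Nat.mod_eq_of_lt hx'] using hx
  · intro hj
    exact ⟨j, hj, by simp⟩

theorem neg_masks : ∀ i : Fin 240, maskOf ((o82Nbr.getD i []).map fun j => (negPerm (Fin.ofNat 240 j) : ℕ)) =
    maskOf (o82Nbr.getD (negPerm i) []) := by decide +kernel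

theorem flip_pos (a b : Fin 240) : PosR (flip8 a) (flip8 b) ↔ PosR a b :=
  (mem_rootGroup_of negPerm (fun _ => rfl) neg_masks).2 a b

/-- An element fixing every pair is the identity or the exchange of opposite roots. -/
theorem down8_ker {p : rootGroup} (h : down8 p = 1) :
    (p : Equiv.Perm (Fin 240)) = 1 ∨ (p : Equiv.Perm (Fin 240)) = negPerm := by
  set σ := (p : Equiv.Perm (Fin 240))
  have hk : ∀ k, σ (dbl8 k) = dbl8 k ∨ σ (dbl8 k) = flip8 (dbl8 k) := fun k =>
    half_eq _ _ (by rw [← down8_apply, h]; rfl)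
  have key : ∀ (r : ℕ) (k : Fin 120), o82Rank.getD k 0 = r → (σ (dbl8 k) = dbl8 k ↔ σ (dbl8 0) = dbl8 0) := by
    intro r
    induction r using Nat.strong_induction_on with
    | _ r ih =>
      intro k hr
      rcases tree_check k with h0 | ⟨hlt, hp, hne⟩
      · obtain rfl : k = 0 := Fin.ext h0
        exact Iff.rfl
      · set m : Fin 120 := Fin.ofNat 120 (o82Par.getD k 0)
        have hm : (m : ℕ) = o82Par.getD k 0 := Nat.mod_eq_of_lt hp
        have := ih _ (hr ▸ hlt) m (by rw [hm])
        rw [← this]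
        have hsep : ¬(PosR (dbl8 k) (dbl8 m) ↔ PosR (flip8 (dbl8 k)) (dbl8 m)) := fun e =>
          hne (by simpa [PosR] using e)
        have hflip : ∀ a b, PosR (flip8 a) (flip8 b) ↔ PosR a b := fun a b => by
          simpa [PosR] using flip_pos a b
        rcases hk k with a | a <;> rcases hk m with b | b
        · exact iff_of_true a b
        · exfalso
          have e := p.2.2 (dbl8 k) (dbl8 m)
          rw [show (p : Equiv.Perm (Fin 240)) = σ from rfl, a, b] at e
          apply hsep
          rw [← e, ← hflip (dbl8 k) (flip8 (dbl8 m)), flip_flip]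
        · exfalso
          have e := p.2.2 (dbl8 k) (dbl8 m)
          rw [show (p : Equiv.Perm (Fin 240)) = σ from rfl, a, b] at e
          exact hsep e.symm
        · exact iff_of_false (by rw [a]; exact flip_ne _) (by rw [b]; exact flip_ne _)
  rcases hk 0 with h0 | h0
  · refine Or.inl (Equiv.ext fun i => ?_)
    have e := (key _ (half8 i) rfl).2 h0
    rcases dbl_half i with d | d <;> rw [d] at e
    · exact e
    · rw [← flip_flip i, p.2.1]; exact congrArg flip8 e
  · refine Or.inr (Equiv.ext fun i => ?_)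
    have e := (hk (half8 i)).resolve_left fun e => flip_ne _ (h0.symm.trans ((key _ (half8 i) rfl).1 e))
    rcases dbl_half i with d | d <;> rw [d] at e
    · exact e
    · rw [← flip_flip i, p.2.1, e, flip_flip]; exact congrArg flip8 (flip_flip i).symm

/-- A coded permutation in the root group. -/
def rootElt (e : Elt) : Prop :=
  (∀ i, toPerm 8 240 e (flip8 i) = flip8 (toPerm 8 240 e i)) ∧
    ∀ i : Fin 240, maskOf ((o82Nbr.getD i []).map fun j => (toPerm 8 240 e (Fin.ofNat 240 j) : ℕ)) =
      maskOf (o82Nbr.getD (toPerm 8 240 e i) [])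

theorem rootElt_mem {e : Elt} (h : rootElt e) : toPerm 8 240 e ∈ rootGroup :=
  mem_rootGroup_of _ h.1 h.2

theorem liftA_ok : ∀ g : Fin 2, rootElt (o82LiftA.getD g (0, 0)) := by unfold rootElt; decide +kernel
theorem liftB_ok : ∀ g : Fin 2, rootElt (o82LiftB.getD g (0, 0)) := by unfold rootElt; decide +kernel

theorem down_A : ∀ (g : Fin 2) (k : Fin 120),
    half8 (toPerm 8 240 (o82LiftA.getD g (0, 0)) (dbl8 k)) = toPerm 7 120 (o82Gens.getD g (0, 0)) k := by
  decide +kernel

/-- The second coded generators, read from the combined group. -/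
def gen2 (g : Fin 2) (k : Fin 120) : Fin 120 :=
  half8 (toPerm 8 240 (o82LiftB.getD g (0, 0)) (dbl8 k))

/-- The two actions side by side. -/
def sideBySide : Equiv.Perm (Fin 120) × Equiv.Perm (Fin 120) →* Equiv.Perm (Fin (120 + 120)) :=
  finSumFinEquiv.permCongrHom.toMonoidHom.comp (Equiv.Perm.sumCongrHom (Fin 120) (Fin 120))

theorem sideBySide_injective : Function.Injective sideBySide :=
  finSumFinEquiv.permCongrHom.injective.comp Equiv.Perm.sumCongrHom_injective

theorem side_gens : ∀ (g : Fin 2) (i : Fin 120),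
    (toPerm 8 240 (o82PairGens.getD g (0, 0)) (Fin.castAdd 120 i) : Fin 240) =
        Fin.castAdd 120 (toPerm 7 120 (o82Gens.getD g (0, 0)) i) ∧
      toPerm 8 240 (o82PairGens.getD g (0, 0)) (Fin.natAdd 120 i) = Fin.natAdd 120 (gen2 g i) := by
  decide +kernel

/-- The value of a word in the lifts and their inverses. -/
def evPair (a : List Elt) (w : List ℕ) (i : Fin 240) : Fin 240 :=
  w.foldr (fun k x => if k < 2 then toPerm 8 240 (a.getD k (0, 0)) x
    else (toPerm 8 240 (a.getD (k - 2) (0, 0))).symm x) i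

theorem words_val : ∀ i : Fin 240, evPair o82LiftA o82WordA i = flip8 i ∧ evPair o82LiftB o82WordA i = i ∧
    evPair o82LiftA o82WordB i = i ∧ evPair o82LiftB o82WordB i = flip8 i := by decide +kernel

/-- Exponents of two generators in a word. -/
def expTwo : List ℕ → ℤ × ℤ
  | [] => (0, 0)
  | k :: w => let r := expTwo w
    (r.1 + (if k = 0 then 1 else if k = 2 then -1 else 0), r.2 + (if k = 1 then 1 else if k = 3 then -1 else 0))

theorem words_exp : expTwo o82WordA = (0, 0) ∧ expTwo o82WordB = (0, 0) ∧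
    (∀ k ∈ o82WordA, k < 4) ∧ ∀ k ∈ o82WordB, k < 4 := by decide +kernel

theorem prod_two {A : Type*} [CommGroup A] (v : ℕ → A) (h2 : v 2 = (v 0)⁻¹) (h3 : v 3 = (v 1)⁻¹) :
    ∀ w : List ℕ, (∀ k ∈ w, k < 4) → (w.map v).prod = v 0 ^ (expTwo w).1 * v 1 ^ (expTwo w).2
  | [], _ => by simp [expTwo]
  | k :: w, hw => by
    have hk := hw k List.mem_cons_self
    rw [List.map_cons, List.prod_cons, prod_two v h2 h3 w fun x hx => hw x (List.mem_cons_of_mem _ hx)]
    interval_cases k <;> simp [expTwo, h2, h3, _root_.zpow_add, mul_comm, mul_left_comm] <;>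
      simp only [mul_assoc, mul_comm, mul_left_comm]

/-- A surjection of the multiplier on a four-group. -/
theorem o82_multiplier_four : ∃ f : Schur.Multiplier (genGroup 7 120 o82Gens) →*
    Multiplicative (ZMod 2 × ZMod 2), Function.Surjective f := by
  classical
  let la : Fin 2 → rootGroup := fun g => ⟨_, rootElt_mem (liftA_ok g)⟩
  let lb : Fin 2 → rootGroup := fun g => ⟨_, rootElt_mem (liftB_ok g)⟩
  let X : Subgroup (rootGroup × rootGroup) := Subgroup.closure (Set.range fun g => (la g, lb g))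
  let dd : rootGroup × rootGroup →* Equiv.Perm (Fin 120) × Equiv.Perm (Fin 120) := down8.prodMap down8
  have hside : ∀ g, sideBySide (dd (la g, lb g)) = toPerm 8 240 (o82PairGens.getD g (0, 0)) := fun g =>
    Equiv.ext fun i => by
      obtain ⟨x, rfl⟩ := finSumFinEquiv.surjective i
      rcases x with k | k
      · rw [finSumFinEquiv_apply_left, (side_gens g k).1, ← down_A]
        show finSumFinEquiv (Sum.map (down8 (la g)) (down8 (lb g)) (finSumFinEquiv.symm (Fin.castAdd 120 k))) = _
        rw [finSumFinEquiv_symm_apply_castAdd]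
        rfl
      · rw [finSumFinEquiv_apply_right, (side_gens g k).2]
        show finSumFinEquiv (Sum.map (down8 (la g)) (down8 (lb g)) (finSumFinEquiv.symm (Fin.natAdd 120 k))) = _
        rw [finSumFinEquiv_symm_apply_natAdd]
        rfl
  let D := X.map dd
  have hD : D.map sideBySide = genGroup 8 240 o82PairGens := by
    show (X.map dd).map sideBySide = Subgroup.closure _
    rw [Subgroup.map_map, MonoidHom.map_closure]
    congr 1
    ext σ
    constructor
    · rintro ⟨_, ⟨g, rfl⟩, rfl⟩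
      rw [MonoidHom.comp_apply, hside]
      refine List.mem_map.2 ⟨_, ?_, rfl⟩
      rw [List.getD_eq_getElem _ _ (show (g : ℕ) < o82PairGens.length from g.2)]
      exact List.getElem_mem _
    · intro hσ
      obtain ⟨e, he, rfl⟩ := List.mem_map.1 hσ
      rw [show o82PairGens = [o82PairGens.getD 0 (0, 0), o82PairGens.getD 1 (0, 0)] from rfl] at he
      simp only [List.mem_cons, List.not_mem_nil, or_false] at he
      rcases he with rfl | rfl
      exacts [⟨_, ⟨0, rfl⟩, hside 0⟩, ⟨_, ⟨1, rfl⟩, hside 1⟩]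
  have hcardD : Nat.card D = 174182400 := by
    rw [Nat.card_congr (D.equivMapOfInjective _ sideBySide_injective).toEquiv, hD, cert_card o82Pair_cert,
      o82Pair_order]
  let ξ0 : X →* Equiv.Perm (Fin 120) := (MonoidHom.fst _ _).comp (dd.comp X.subtype)
  have hrange : ξ0.range = genGroup 7 120 o82Gens := by
    rw [MonoidHom.range_comp, MonoidHom.range_comp, Subgroup.range_subtype]
    show (X.map dd).map _ = Subgroup.closure _
    rw [Subgroup.map_map, MonoidHom.map_closure]
    congr 1
    ext σ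
    constructor
    · rintro ⟨_, ⟨g, rfl⟩, rfl⟩
      refine List.mem_map.2 ⟨o82Gens.getD g (0, 0), ?_, Equiv.ext fun k => (down_A g k).symm⟩
      rw [List.getD_eq_getElem _ _ (show (g : ℕ) < o82Gens.length from g.2)]
      exact List.getElem_mem _
    · intro hσ
      obtain ⟨e, he, rfl⟩ := List.mem_map.1 hσ
      rw [show o82Gens = [o82Gens.getD 0 (0, 0), o82Gens.getD 1 (0, 0)] from rfl] at he
      simp only [List.mem_cons, List.not_mem_nil, or_false] at he
      rcases he with rfl | rfl
      exacts [⟨_, ⟨0, rfl⟩, Equiv.ext (down_A 0)⟩, ⟨_, ⟨1, rfl⟩, Equiv.ext (down_A 1)⟩]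
  have hfst : Function.Injective ((MonoidHom.fst _ _).comp D.subtype) := by
    have hr : ((MonoidHom.fst (Equiv.Perm (Fin 120)) (Equiv.Perm (Fin 120))).comp D.subtype).range =
        genGroup 7 120 o82Gens := by
      rw [← hrange, MonoidHom.range_comp, MonoidHom.range_comp, MonoidHom.range_comp, Subgroup.range_subtype,
        Subgroup.range_subtype]
    have hfin : Finite D := inferInstance
    let r := ((MonoidHom.fst (Equiv.Perm (Fin 120)) (Equiv.Perm (Fin 120))).comp D.subtype).rangeRestrict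
    have hb : Function.Bijective r := (MonoidHom.rangeRestrict_surjective _).bijective_of_nat_card_le (by
      rw [hr, cert_card o82_cert, o82_order, hcardD])
    exact fun a b e => hb.1 (Subtype.ext e)
  let ξ : X →* genGroup 7 120 o82Gens := (MulEquiv.subgroupCongr hrange).toMonoidHom.comp ξ0.rangeRestrict
  have hξ : Function.Surjective ξ :=
    (MulEquiv.subgroupCongr hrange).surjective.comp (MonoidHom.rangeRestrict_surjective _)
  have hξk : ∀ x : X, ξ x = 1 →
      ((x.1.1 : Equiv.Perm (Fin 240)) = 1 ∨ (x.1.1 : Equiv.Perm (Fin 240)) = negPerm) ∧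
      ((x.1.2 : Equiv.Perm (Fin 240)) = 1 ∨ (x.1.2 : Equiv.Perm (Fin 240)) = negPerm) := by
    intro x hx
    have h1 : ξ0 x = 1 := congrArg Subtype.val hx
    have h2 : (⟨dd x.1, x.1, x.2, rfl⟩ : D) = 1 := hfst (h1.trans (map_one _).symm)
    have h3 := congrArg Subtype.val h2
    exact ⟨down8_ker (congrArg Prod.fst h3), down8_ker (congrArg Prod.snd h3)⟩
  have hcen : ξ.ker ≤ Subgroup.center X := fun x hx => by
    obtain ⟨h1, h2⟩ := hξk x hx
    refine Subgroup.mem_center_iff.2 fun y => Subtype.ext (Prod.ext (Subtype.ext ?_) (Subtype.ext ?_))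
    · show (y.1.1 : Equiv.Perm (Fin 240)) * (x.1.1 : Equiv.Perm (Fin 240)) = x.1.1 * y.1.1
      rcases h1 with h | h <;> rw [h]
      · simp
      · exact flip_commute y.1.1
    · show (y.1.2 : Equiv.Perm (Fin 240)) * (x.1.2 : Equiv.Perm (Fin 240)) = x.1.2 * y.1.2
      rcases h2 with h | h <;> rw [h]
      · simp
      · exact flip_commute y.1.2
  -- two words in the kernel and the derived group
  let gl : ℕ → X := fun k =>
    if k < 2 then ⟨(la (Fin.ofNat 2 k), lb (Fin.ofNat 2 k)), Subgroup.subset_closure ⟨_, rfl⟩⟩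
    else (⟨(la (Fin.ofNat 2 (k - 2)), lb (Fin.ofNat 2 (k - 2))), Subgroup.subset_closure ⟨_, rfl⟩⟩ : X)⁻¹
  have hlA : ∀ k, k < 4 → ∀ i, ((gl k).1.1 : Equiv.Perm (Fin 240)) i =
      (if k < 2 then toPerm 8 240 (o82LiftA.getD k (0, 0)) i
        else (toPerm 8 240 (o82LiftA.getD (k - 2) (0, 0))).symm i) ∧
      ((gl k).1.2 : Equiv.Perm (Fin 240)) i = (if k < 2 then toPerm 8 240 (o82LiftB.getD k (0, 0)) i
        else (toPerm 8 240 (o82LiftB.getD (k - 2) (0, 0))).symm i) := by
    intro k hk i
    interval_cases k <;> exact ⟨rfl, rfl⟩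
  have hev : ∀ w : List ℕ, (∀ k ∈ w, k < 4) → ∀ i, ((w.map gl).prod.1.1 : Equiv.Perm (Fin 240)) i =
      evPair o82LiftA w i ∧ ((w.map gl).prod.1.2 : Equiv.Perm (Fin 240)) i = evPair o82LiftB w i := by
    intro w
    induction w with
    | nil => intro _ i; exact ⟨rfl, rfl⟩
    | cons k w ih =>
      intro hw i
      obtain ⟨h1, h2⟩ := ih (fun x hx => hw x (List.mem_cons_of_mem _ hx)) i
      rw [List.map_cons, List.prod_cons]
      constructor
      · show ((gl k).1.1 : Equiv.Perm (Fin 240)) (((w.map gl).prod.1.1 : Equiv.Perm (Fin 240)) i) = _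
        rw [h1, (hlA k (hw k List.mem_cons_self) _).1]
        rfl
      · show ((gl k).1.2 : Equiv.Perm (Fin 240)) (((w.map gl).prod.1.2 : Equiv.Perm (Fin 240)) i) = _
        rw [h2, (hlA k (hw k List.mem_cons_self) _).2]
        rfl
  have hcomm : ∀ w : List ℕ, (∀ k ∈ w, k < 4) → expTwo w = (0, 0) → (w.map gl).prod ∈ commutator X := by
    intro w hw he
    rw [← Abelianization.ker_of, MonoidHom.mem_ker, map_list_prod, List.map_map]
    show (List.map (fun k => Abelianization.of (gl k)) w).prod = 1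
    rw [prod_two (fun k => Abelianization.of (gl k)) (map_inv _ _) (map_inv _ _) w hw, he]
    simp
  let ε : rootGroup → ZMod 2 := fun p => if (p : Equiv.Perm (Fin 240)) 0 = 0 then 0 else 1
  have hε : ∀ p q : rootGroup, ((p : Equiv.Perm (Fin 240)) = 1 ∨ (p : Equiv.Perm (Fin 240)) = negPerm) →
      ((q : Equiv.Perm (Fin 240)) = 1 ∨ (q : Equiv.Perm (Fin 240)) = negPerm) → ε (p * q) = ε p + ε q := by
    intro p q hp hq
    have key : ∀ s t : Equiv.Perm (Fin 240), (s = 1 ∨ s = negPerm) → (t = 1 ∨ t = negPerm) →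
        (if (s * t) 0 = 0 then (0 : ZMod 2) else 1) =
          (if s 0 = 0 then (0 : ZMod 2) else 1) + (if t 0 = 0 then (0 : ZMod 2) else 1) := by
      rintro s t (rfl | rfl) (rfl | rfl) <;> decide +kernel
    exact key _ _ hp hq
  let v : ↥(ξ.ker ⊓ commutator X) →* Multiplicative (ZMod 2 × ZMod 2) :=
    { toFun := fun x => Multiplicative.ofAdd (ε x.1.1.1, ε x.1.1.2)
      map_one' := rfl
      map_mul' := fun x y => by
        rw [← ofAdd_add, Prod.mk_add_mk, ← hε _ _ (hξk _ x.2.1).1 (hξk _ y.2.1).1,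
          ← hε _ _ (hξk _ x.2.1).2 (hξk _ y.2.1).2]
        rfl }
  have hwit : ∀ (w : List ℕ) (s t : Equiv.Perm (Fin 240)), (∀ k ∈ w, k < 4) → expTwo w = (0, 0) →
      (∀ i, evPair o82LiftA w i = s i) → (∀ i, evPair o82LiftB w i = t i) → (s = 1 ∨ s = negPerm) →
      ∃ x, v x = Multiplicative.ofAdd ((if s 0 = 0 then 0 else 1 : ZMod 2), (if t 0 = 0 then 0 else 1 : ZMod 2)) := by
    intro w s t hw he hs ht hs'
    have hk : (w.map gl).prod ∈ ξ.ker := by
      refine MonoidHom.mem_ker.2 (Subtype.ext (Equiv.ext fun k => ?_))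
      show half8 (((w.map gl).prod.1.1 : Equiv.Perm (Fin 240)) (dbl8 k)) = k
      rw [(hev w hw _).1, hs]
      rcases hs' with rfl | rfl
      · exact half_dbl k
      · exact (half_flip _).trans (half_dbl k)
    refine ⟨⟨_, hk, hcomm w hw he⟩, ?_⟩
    show Multiplicative.ofAdd (_, _) = _
    simp only [ε, (hev w hw 0).1, (hev w hw 0).2, hs, ht]
  obtain ⟨x, hx⟩ := hwit o82WordA negPerm 1 words_exp.2.2.1 words_exp.1
    (fun i => (words_val i).1) (fun i => (words_val i).2.1) (Or.inr rfl)
  obtain ⟨y, hy⟩ := hwit o82WordB 1 negPerm words_exp.2.2.2 words_exp.2.1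
    (fun i => (words_val i).2.2.1) (fun i => (words_val i).2.2.2) (Or.inl rfl)
  refine exists_surj ξ hξ hcen v fun c => ?_
  obtain ⟨⟨a, b⟩, rfl⟩ := Multiplicative.ofAdd.surjective c
  refine ⟨x ^ a.val * y ^ b.val, ?_⟩
  rw [map_mul, map_pow, map_pow, hx, hy]
  revert a b
  decide +kernel

end Cfsg.Agent.SchurMult
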