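import Cfsg.Agent.Lib.SchurMult.O82P2Data

/-! Kernel checks of the closure part of the 2-part certificate of O82. -/

set_option autoImplicit false
set_option Elab.async false

namespace Cfsg.Agent.SchurMult

open Cfsg.Agent.PermCert Cfsg.Agent.PermSchur

theorem o82P2_clos8 : o82P2Elts8.all (fun t => o82P2Data.gs.all fun s =>
    o82P2Data.elts.any fun t' => normal2 o82P2Data o82P2Fast (t.1 ++ s.1) (vadd t.2 s.2) == t') = true := by decide +kernel

theorem o82P2_clos9 : o82P2Elts9.all (fun t => o82P2Data.gs.all fun s =>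
    o82P2Data.elts.any fun t' => normal2 o82P2Data o82P2Fast (t.1 ++ s.1) (vadd t.2 s.2) == t') = true := by decide +kernel

theorem o82P2_clos10 : o82P2Elts10.all (fun t => o82P2Data.gs.all fun s =>
    o82P2Data.elts.any fun t' => normal2 o82P2Data o82P2Fast (t.1 ++ s.1) (vadd t.2 s.2) == t') = true := by decide +kernel

theorem o82P2_clos11 : o82P2Elts11.all (fun t => o82P2Data.gs.all fun s =>
    o82P2Data.elts.any fun t' => normal2 o82P2Data o82P2Fast (t.1 ++ s.1) (vadd t.2 s.2) == t') = true := by decide +kernel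

theorem o82P2_clos12 : o82P2Elts12.all (fun t => o82P2Data.gs.all fun s =>
    o82P2Data.elts.any fun t' => normal2 o82P2Data o82P2Fast (t.1 ++ s.1) (vadd t.2 s.2) == t') = true := by decide +kernel

theorem o82P2_clos13 : o82P2Elts13.all (fun t => o82P2Data.gs.all fun s =>
    o82P2Data.elts.any fun t' => normal2 o82P2Data o82P2Fast (t.1 ++ s.1) (vadd t.2 s.2) == t') = true := by decide +kernel

theorem o82P2_clos14 : o82P2Elts14.all (fun t => o82P2Data.gs.all fun s =>
    o82P2Data.elts.any fun t' => normal2 o82P2Data o82P2Fast (t.1 ++ s.1) (vadd t.2 s.2) == t') = true := by decide +kernel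

theorem o82P2_clos15 : o82P2Elts15.all (fun t => o82P2Data.gs.all fun s =>
    o82P2Data.elts.any fun t' => normal2 o82P2Data o82P2Fast (t.1 ++ s.1) (vadd t.2 s.2) == t') = true := by decide +kernel

end Cfsg.Agent.SchurMult
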