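import Cfsg.Agent.Lib.SchurMult.O82P2Clos0
import Cfsg.Agent.Lib.SchurMult.O82P2Clos1
import Cfsg.Agent.Lib.SchurMult.O82P2Data
import Cfsg.Agent.Lib.SchurMult.O82Group

/-! Kernel checks of the 2-part certificate of O82. -/

set_option autoImplicit false
set_option Elab.async false

namespace Cfsg.Agent.SchurMult

open Cfsg.Agent.PermCert Cfsg.Agent.PermSchur

theorem o82P2_base : schurBaseOK 7 120 o82P2Data SchurMult.o82Levels = true := by decide +kernel

theorem o82P2_rows : rowsOK o82P2Data = true := by decide +kernel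

theorem o82P2_rels : o82P2Data.rels.all (fun r => match r with
    | .assoc a b c => (a ++ b ++ c).all (fun q => Nat.blt q o82P2Data.a.length) | .fuse .. => true) = true := by
  decide +kernel

theorem o82P2_unit : o82P2Data.elts.any (fun t => t == normal2 o82P2Data o82P2Fast [] []) = true := by decide +kernel

theorem o82P2_gs : o82P2Data.gs.all (fun s => s.1.all fun q => Nat.blt q o82P2Data.a.length) = true := by decide +kernel

theorem o82P2_clos : o82P2Data.elts.all (fun t => o82P2Data.gs.all fun s =>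
    o82P2Data.elts.any fun t' => normal2 o82P2Data o82P2Fast (t.1 ++ s.1) (vadd t.2 s.2) == t') = true := by
  have h : ∀ f, o82P2Data.elts.all f = (o82P2Elts0 ++ (o82P2Elts1 ++ (o82P2Elts2 ++ (o82P2Elts3 ++ (o82P2Elts4 ++ (o82P2Elts5 ++ (o82P2Elts6 ++ (o82P2Elts7 ++ (o82P2Elts8 ++ (o82P2Elts9 ++ (o82P2Elts10 ++ (o82P2Elts11 ++ (o82P2Elts12 ++ (o82P2Elts13 ++ (o82P2Elts14 ++ (o82P2Elts15)))))))))))))))).all f := fun f => rfl
  rw [h]
  simp only [List.all_append, Bool.and_eq_true]
  exact ⟨o82P2_clos0, ⟨o82P2_clos1, ⟨o82P2_clos2, ⟨o82P2_clos3, ⟨o82P2_clos4, ⟨o82P2_clos5, ⟨o82P2_clos6, ⟨o82P2_clos7, ⟨o82P2_clos8, ⟨o82P2_clos9, ⟨o82P2_clos10, ⟨o82P2_clos11, ⟨o82P2_clos12, ⟨o82P2_clos13, ⟨o82P2_clos14, o82P2_clos15⟩⟩⟩⟩⟩⟩⟩⟩⟩⟩⟩⟩⟩⟩⟩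

theorem o82P2_wit : allBelow (fun i =>
    allBelow (fun j =>
      let I := invGen2 o82P2Data o82P2Fast i
      let J := invGen2 o82P2Data o82P2Fast j
      let W := gsProd2 o82P2Data ((o82P2Data.commWit.getD i []).getD j [])
      ((o82P2Data.commWit.getD i []).getD j []).all (fun q => Nat.blt q o82P2Data.gs.length) &&
        normal2 o82P2Data o82P2Fast (i :: j :: (I.1 ++ J.1)) (vadd I.2 J.2) == normal2 o82P2Data o82P2Fast W.1 W.2) i &&
    allBelow (fun s =>
      let I := invGen2 o82P2Data o82P2Fast i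
      let W := gsProd2 o82P2Data ((o82P2Data.conjWit.getD i []).getD s [])
      ((o82P2Data.conjWit.getD i []).getD s []).all (fun q => Nat.blt q o82P2Data.gs.length) &&
        normal2 o82P2Data o82P2Fast ((i :: (o82P2Data.gs.getD s ([], [])).1) ++ I.1) (vadd (o82P2Data.gs.getD s ([], [])).2 I.2) ==
          normal2 o82P2Data o82P2Fast W.1 W.2)
      o82P2Data.gs.length) o82P2Data.a.length = true := by decide +kernel

theorem o82P2_ker : o82P2Data.elts.all (fun t => t.1.all (fun q => Nat.blt q o82P2Data.a.length) &&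
    (!sameC 7 120 (wcodes o82P2Data t.1) [] ||
      (t.1 == [] && (t.2 == reduce o82P2Fast.small (List.replicate o82P2Fast.cols.length 0) || o82P2Data.ext.contains t.2)))) = true := by
  decide +kernel

theorem o82P2_derived : derivedFast 7 120 o82P2Data o82P2Fast = true := by
  unfold derivedFast
  rw [o82P2_unit, o82P2_gs, o82P2_clos, o82P2_wit, o82P2_ker]
  rfl

theorem o82P2_proj : projOK o82P2Data o82P2Fast = true := by decide +kernel

theorem o82P2_orders : certOrder SchurMult.o82Levels / certOrder o82P2Data.levels = 42525 := by decide +kernel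

theorem o82P2_ext : o82P2Data.ext.length + 1 = 4 := by decide +kernel

end Cfsg.Agent.SchurMult
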