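import Cfsg.Agent.Lib.SchurMult.O82P2Data

/-! Kernel checks of the closure part of the 2-part certificate of O82. -/

set_option autoImplicit false
set_option Elab.async false

namespace Cfsg.Agent.SchurMult

open Cfsg.Agent.PermCert Cfsg.Agent.PermSchur

theorem o82P2_clos0 : o82P2Elts0.all (fun t => o82P2Data.gs.all fun s =>
    o82P2Data.elts.any fun t' => normal2 o82P2Data o82P2Fast (t.1 ++ s.1) (vadd t.2 s.2) == t') = true := by decide +kernel

theorem o82P2_clos1 : o82P2Elts1.all (fun t => o82P2Data.gs.all fun s =>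
    o82P2Data.elts.any fun t' => normal2 o82P2Data o82P2Fast (t.1 ++ s.1) (vadd t.2 s.2) == t') = true := by decide +kernel

theorem o82P2_clos2 : o82P2Elts2.all (fun t => o82P2Data.gs.all fun s =>
    o82P2Data.elts.any fun t' => normal2 o82P2Data o82P2Fast (t.1 ++ s.1) (vadd t.2 s.2) == t') = true := by decide +kernel

theorem o82P2_clos3 : o82P2Elts3.all (fun t => o82P2Data.gs.all fun s =>
    o82P2Data.elts.any fun t' => normal2 o82P2Data o82P2Fast (t.1 ++ s.1) (vadd t.2 s.2) == t') = true := by decide +kernel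

theorem o82P2_clos4 : o82P2Elts4.all (fun t => o82P2Data.gs.all fun s =>
    o82P2Data.elts.any fun t' => normal2 o82P2Data o82P2Fast (t.1 ++ s.1) (vadd t.2 s.2) == t') = true := by decide +kernel

theorem o82P2_clos5 : o82P2Elts5.all (fun t => o82P2Data.gs.all fun s =>
    o82P2Data.elts.any fun t' => normal2 o82P2Data o82P2Fast (t.1 ++ s.1) (vadd t.2 s.2) == t') = true := by decide +kernel

theorem o82P2_clos6 : o82P2Elts6.all (fun t => o82P2Data.gs.all fun s =>
    o82P2Data.elts.any fun t' => normal2 o82P2Data o82P2Fast (t.1 ++ s.1) (vadd t.2 s.2) == t') = true := by decide +kernel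

theorem o82P2_clos7 : o82P2Elts7.all (fun t => o82P2Data.gs.all fun s =>
    o82P2Data.elts.any fun t' => normal2 o82P2Data o82P2Fast (t.1 ++ s.1) (vadd t.2 s.2) == t') = true := by decide +kernel

end Cfsg.Agent.SchurMult
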