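import Cfsg.Agent.Lib.SchurMult.O82P7Data
import Cfsg.Agent.Lib.SchurMult.O82Group

/-! Kernel checks of the 7-part certificate of O82. -/

set_option autoImplicit false

namespace Cfsg.Agent.SchurMult

open Cfsg.Agent.PermCert Cfsg.Agent.PermSchur

theorem o82P7_base : schurBaseOK 7 120 o82P7Data SchurMult.o82Levels = true := by decide +kernel

theorem o82P7_rows : rowsOK o82P7Data = true := by decide +kernel

theorem o82P7_rels : o82P7Data.rels.all (fun r => match r with
    | .assoc a b c => (a ++ b ++ c).all (fun q => Nat.blt q o82P7Data.a.length) | .fuse .. => true) = true := by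
  decide +kernel

theorem o82P7_derived : derivedOK 7 120 o82P7Data = true := by decide +kernel

theorem o82P7_orders : certOrder SchurMult.o82Levels / certOrder o82P7Data.levels = 24883200 := by decide +kernel

theorem o82P7_ext : o82P7Data.ext.length + 1 = 1 := by decide +kernel

end Cfsg.Agent.SchurMult
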