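import Cfsg.Agent.Lib.Compute.SchurDefs

/-! Certificate for the 5-part of the Schur multiplier of SP62. -/

set_option autoImplicit false
set_option maxRecDepth 20000

namespace Cfsg.Agent.SchurMult

open Cfsg.Agent.PermCert Cfsg.Agent.PermSchur

/-- Generators. -/
def sp62P5CGens : List Elt :=
  [(528731065273856920370368486538031705725274788723934765799241058599372865536261994246317999244163432213438715729544, 38150259789093824346974538473188272699492392851389699438423373234081591977516603771029405756114135098829290908729)]

/-- Derived elements. -/
def sp62P5CDerived : List (Elt × List ℕ) :=
  []

/-- Level 0. -/
def sp62P5CLevel0 : CLevel :=
  (0, [(528731065273856920370368486538031705725274788723934765799241058599372865536261994246317999244163432213438715729544, 38150259789093824346974538473188272699492392851389699438423373234081591977516603771029405756114135098829290908729)],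
   [(0, (605728907615742478127163846336690649049022037395941866804996873203182254337115014162779941914389627335876016873536, 605728907615742478127163846336690649049022037395941866804996873203182254337115014162779941914389627335876016873536), 0, 0),
    (8, (528731065273856920370368486538031705725274788723934765799241058599372865536261994246317999244163432213438715729544, 38150259789093824346974538473188272699492392851389699438423373234081591977516603771029405756114135098829290908729), 0, 0),
    (23, (365193133346093368849746529732421459399130411586266557807564369550401769918362147104941749886763323310575772578519, 307408337805188394906826208173386937749835850836595347984561929857607087065087547767247096299304903769816982551389), 1, 0),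
    (29, (307408337805188394906826208173386937749835850836595347984561929857607087065087547767247096299304903769816982551389, 365193133346093368849746529732421459399130411586266557807564369550401769918362147104941749886763323310575772578519), 2, 0),
    (57, (38150259789093824346974538473188272699492392851389699438423373234081591977516603771029405756114135098829290908729, 528731065273856920370368486538031705725274788723934765799241058599372865536261994246317999244163432213438715729544), 3, 0)])

/-- The stabiliser chain. -/
def sp62P5CLevels : List CLevel :=
  [sp62P5CLevel0]

/-- Conjugations. -/
def sp62P5Fus : List Fusion :=
  []

/-- Relations. -/
def sp62P5Rels : List Rel :=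
  []

/-- Derived rows. -/
def sp62P5Rows : List (ℕ × List ℤ × List (ℕ × ℤ)) :=
  []

/-- Generators of the derived group. -/
def sp62P5Gs : List (List ℕ × List ℤ) :=
  []

/-- Elements of the derived group. -/
def sp62P5Elts : List (List ℕ × List ℤ) :=
  [([], [0])]

/-- The data. -/
def sp62P5Data : SchurData where
  p := 5
  a := sp62P5CGens
  derived := sp62P5CDerived
  levels := sp62P5CLevels
  pow := [[]]
  comm := [[]]
  ords := [5]
  fus := sp62P5Fus
  nv := 1
  rels := sp62P5Rels
  rows := sp62P5Rows
  gs := sp62P5Gs
  elts := sp62P5Elts
  commWit := [[]]
  conjWit := [[]]
  ext := []

end Cfsg.Agent.SchurMult
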