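import Cfsg.Agent.Lib.Compute.SchurDefs

/-! Certificate for the 7-part of the Schur multiplier of SP62. -/

set_option autoImplicit false
set_option maxRecDepth 20000

namespace Cfsg.Agent.SchurMult

open Cfsg.Agent.PermCert Cfsg.Agent.PermSchur

/-- Generators. -/
def sp62P7CGens : List Elt :=
  [(303741139041750649219950625425610384041420762481504119240649172148284356772263873282801778154419453025753979225284, 327555566741453956166467299725274338930400752941949967877301789480369499161197475784884039757105474267758107901094)]

/-- Derived elements. -/
def sp62P7CDerived : List (Elt × List ℕ) :=
  []

/-- Level 0. -/
def sp62P7CLevel0 : CLevel :=
  (0, [(303741139041750649219950625425610384041420762481504119240649172148284356772263873282801778154419453025753979225284, 327555566741453956166467299725274338930400752941949967877301789480369499161197475784884039757105474267758107901094)],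
   [(0, (605728907615742478127163846336690649049022037395941866804996873203182254337115014162779941914389627335876016873536, 605728907615742478127163846336690649049022037395941866804996873203182254337115014162779941914389627335876016873536), 0, 0),
    (4, (303741139041750649219950625425610384041420762481504119240649172148284356772263873282801778154419453025753979225284, 327555566741453956166467299725274338930400752941949967877301789480369499161197475784884039757105474267758107901094), 0, 0),
    (58, (435993616007909916441829375872985766655513450030267336071743314497430252243209233737417378029315350592675489476794, 409669493365641365757030791896155089799502777665697281901854381251930600159901651504884608404504120288121576493964), 1, 0),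
    (29, (222022635962159873929915729839856110957392326815035892714058383307927195810358233709207633869918943733481301140509, 314047760177855321922204124363471940109843430198213542091856745241331068423167416007230291341876384341499728833994), 2, 0),
    (10, (314047760177855321922204124363471940109843430198213542091856745241331068423167416007230291341876384341499728833994, 222022635962159873929915729839856110957392326815035892714058383307927195810358233709207633869918943733481301140509), 3, 0),
    (12, (409669493365641365757030791896155089799502777665697281901854381251930600159901651504884608404504120288121576493964, 435993616007909916441829375872985766655513450030267336071743314497430252243209233737417378029315350592675489476794), 4, 0),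
    (38, (327555566741453956166467299725274338930400752941949967877301789480369499161197475784884039757105474267758107901094, 303741139041750649219950625425610384041420762481504119240649172148284356772263873282801778154419453025753979225284), 5, 0)])

/-- The stabiliser chain. -/
def sp62P7CLevels : List CLevel :=
  [sp62P7CLevel0]

/-- Conjugations. -/
def sp62P7Fus : List Fusion :=
  []

/-- Relations. -/
def sp62P7Rels : List Rel :=
  []

/-- Derived rows. -/
def sp62P7Rows : List (ℕ × List ℤ × List (ℕ × ℤ)) :=
  []

/-- Generators of the derived group. -/
def sp62P7Gs : List (List ℕ × List ℤ) :=
  []

/-- Elements of the derived group. -/
def sp62P7Elts : List (List ℕ × List ℤ) :=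
  [([], [0])]

/-- The data. -/
def sp62P7Data : SchurData where
  p := 7
  a := sp62P7CGens
  derived := sp62P7CDerived
  levels := sp62P7CLevels
  pow := [[]]
  comm := [[]]
  ords := [7]
  fus := sp62P7Fus
  nv := 1
  rels := sp62P7Rels
  rows := sp62P7Rows
  gs := sp62P7Gs
  elts := sp62P7Elts
  commWit := [[]]
  conjWit := [[]]
  ext := []

end Cfsg.Agent.SchurMult
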