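import Cfsg.Agent.Lib.SchurMult.SZ8I2Data
import Cfsg.Agent.Lib.SchurMult.Sz8Group

/-! Kernel checks of the induced extension of SZ8 for the prime 2. -/

set_option autoImplicit false
set_option maxRecDepth 100000

namespace Cfsg.Agent.SchurMult

open Cfsg.Agent.PermCert Cfsg.Agent.PermInd

theorem sz8I2_base : baseOK 7 65 SchurMult.sz8Gens SchurMult.sz8Levels sz8I2Data = true := by decide +kernel

theorem sz8I2_words0 : wordsOK 7 65 SchurMult.sz8Gens sz8I2Data sz8I2Test0 = true := by decide +kernel

theorem sz8I2_wit0 : allBelow (witOK sz8I2Data sz8I2Test0) 455 = true := by decide +kernel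

theorem sz8I2_words1 : wordsOK 7 65 SchurMult.sz8Gens sz8I2Data sz8I2Test1 = true := by decide +kernel

theorem sz8I2_wit1 : allBelow (witOK sz8I2Data sz8I2Test1) 455 = true := by decide +kernel

theorem sz8I2_span : spanOK sz8I2Data = true := by decide +kernel

theorem sz8I2_cos0 : allBelow (fun i => cosetOK 7 65 SchurMult.sz8Gens sz8I2Data (0 + i)) 256 = true := by decide +kernel

theorem sz8I2_cos1 : allBelow (fun i => cosetOK 7 65 SchurMult.sz8Gens sz8I2Data (256 + i)) 199 = true := by decide +kernel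

theorem sz8I2_cosets : ∀ i < sz8I2Data.m, cosetOK 7 65 SchurMult.sz8Gens sz8I2Data i = true := by
  intro i hi
  replace hi : i < 455 := hi
  rcases Nat.lt_or_ge i 256 with h | h
  · have := allBelow_spec _ _ sz8I2_cos0 (i - 0) (by omega)
    rwa [Nat.add_sub_cancel' (by omega : 0 ≤ i)] at this
  have := allBelow_spec _ _ sz8I2_cos1 (i - 256) (by omega)
  rwa [Nat.add_sub_cancel' (by omega : 256 ≤ i)] at this

theorem sz8I2_wits : ∀ T ∈ sz8I2Data.tests, ∀ i < sz8I2Data.m, witOK sz8I2Data T i = true := by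
  intro T hT
  simp only [sz8I2Data, List.mem_cons, List.not_mem_nil, or_false] at hT
  rcases hT with rfl | rfl
  · exact allBelow_spec _ _ sz8I2_wit0
  · exact allBelow_spec _ _ sz8I2_wit1

theorem sz8I2_words : ∀ T ∈ sz8I2Data.tests, wordsOK 7 65 SchurMult.sz8Gens sz8I2Data T = true := by
  intro T hT
  simp only [sz8I2Data, List.mem_cons, List.not_mem_nil, or_false] at hT
  rcases hT with rfl | rfl
  · exact sz8I2_words0
  · exact sz8I2_words1

end Cfsg.Agent.SchurMult
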