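import Cfsg.Agent.Lib.Compute.SchurDefs

/-! Certificate for the 5-part of the Schur multiplier of SZ8. -/

set_option autoImplicit false
set_option maxRecDepth 20000

namespace Cfsg.Agent.SchurMult

open Cfsg.Agent.PermCert Cfsg.Agent.PermSchur

/-- Generators. -/
def sz8P5CGens : List Elt :=
  [(43776509670722697786484526822088926515544168525990090482544255931769422353853787019738658997561448435154459633824314368652014764329524508, 11959440238963145341711236074923128500466223085415376498747295338007435929264973886217216699339858842782020375582093842714552987323859361)]

/-- Derived elements. -/
def sz8P5CDerived : List (Elt × List ℕ) :=
  []

/-- Level 0. -/
def sz8P5CLevel0 : CLevel :=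
  (0, [(43776509670722697786484526822088926515544168525990090482544255931769422353853787019738658997561448435154459633824314368652014764329524508, 11959440238963145341711236074923128500466223085415376498747295338007435929264973886217216699339858842782020375582093842714552987323859361)],
   [(0, (46878191083194918565024328048753428289948635830066757772718821293251602907538649025209882674145751854174256164427306664543801261812646016, 46878191083194918565024328048753428289948635830066757772718821293251602907538649025209882674145751854174256164427306664543801261812646016), 0, 0),
    (28, (43776509670722697786484526822088926515544168525990090482544255931769422353853787019738658997561448435154459633824314368652014764329524508, 11959440238963145341711236074923128500466223085415376498747295338007435929264973886217216699339858842782020375582093842714552987323859361), 0, 0),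
    (50, (4380207551017200923105606866573409633848492537333215807386941292585679856828081558582276895028113006650211816533186941476968195793575858, 30534468677931925424951426980695826831843091992707210777948776603402353738841440725872280886787713646143547845207961935847300168810368677), 1, 0),
    (37, (30534468677931925424951426980695826831843091992707210777948776603402353738841440725872280886787713646143547845207961935847300168810368677, 4380207551017200923105606866573409633848492537333215807386941292585679856828081558582276895028113006650211816533186941476968195793575858), 2, 0),
    (33, (11959440238963145341711236074923128500466223085415376498747295338007435929264973886217216699339858842782020375582093842714552987323859361, 43776509670722697786484526822088926515544168525990090482544255931769422353853787019738658997561448435154459633824314368652014764329524508), 3, 0)])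

/-- The stabiliser chain. -/
def sz8P5CLevels : List CLevel :=
  [sz8P5CLevel0]

/-- Conjugations. -/
def sz8P5Fus : List Fusion :=
  []

/-- Relations. -/
def sz8P5Rels : List Rel :=
  []

/-- Derived rows. -/
def sz8P5Rows : List (ℕ × List ℤ × List (ℕ × ℤ)) :=
  []

/-- Generators of the derived group. -/
def sz8P5Gs : List (List ℕ × List ℤ) :=
  []

/-- Elements of the derived group. -/
def sz8P5Elts : List (List ℕ × List ℤ) :=
  [([], [0])]

/-- The data. -/
def sz8P5Data : SchurData where
  p := 5
  a := sz8P5CGens
  derived := sz8P5CDerived
  levels := sz8P5CLevels
  pow := [[]]
  comm := [[]]
  ords := [5]
  fus := sz8P5Fus
  nv := 1
  rels := sz8P5Rels
  rows := sz8P5Rows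
  gs := sz8P5Gs
  elts := sz8P5Elts
  commWit := [[]]
  conjWit := [[]]
  ext := []

end Cfsg.Agent.SchurMult
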