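import Cfsg.Agent.Lib.Compute.SchurDefs

/-! Certificate for the 7-part of the Schur multiplier of SZ8. -/

set_option autoImplicit false
set_option maxRecDepth 20000

namespace Cfsg.Agent.SchurMult

open Cfsg.Agent.PermCert Cfsg.Agent.PermSchur

/-- Generators. -/
def sz8P7CGens : List Elt :=
  [(37076859077966109770560029261796253583015309780877739833055334824176665938768224954139313362662181579852409629925981226077005871393118468, 34304062179476708561387629929518728583223376131526024345661519627352614151099287142045978573988419604533318144539629704360344069765504918)]

/-- Derived elements. -/
def sz8P7CDerived : List (Elt × List ℕ) :=
  []

/-- Level 0. -/
def sz8P7CLevel0 : CLevel :=
  (0, [(37076859077966109770560029261796253583015309780877739833055334824176665938768224954139313362662181579852409629925981226077005871393118468, 34304062179476708561387629929518728583223376131526024345661519627352614151099287142045978573988419604533318144539629704360344069765504918)],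
   [(0, (46878191083194918565024328048753428289948635830066757772718821293251602907538649025209882674145751854174256164427306664543801261812646016, 46878191083194918565024328048753428289948635830066757772718821293251602907538649025209882674145751854174256164427306664543801261812646016), 0, 0),
    (4, (37076859077966109770560029261796253583015309780877739833055334824176665938768224954139313362662181579852409629925981226077005871393118468, 34304062179476708561387629929518728583223376131526024345661519627352614151099287142045978573988419604533318144539629704360344069765504918), 0, 0),
    (56, (17002332252131757954257139939258547399562366441238680151454819608224789816944433654340487789771472686600486722050835990351840998513215416, 10484615478722935612664323553718260482694381457358318640580089638804399969775796317145729057048835003713040283087364620139629134458588295), 1, 0),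
    (30, (32068895636632351403190801258031463744966890336748315941482875585490705408718005028553520749700572312837325503381334840836638511284690718, 38874570771836308586309625041938500580280398825596730394097016521743987424166851046739367052923076973483408312378236216630431979187526440), 2, 0),
    (40, (38874570771836308586309625041938500580280398825596730394097016521743987424166851046739367052923076973483408312378236216630431979187526440, 32068895636632351403190801258031463744966890336748315941482875585490705408718005028553520749700572312837325503381334840836638511284690718), 3, 0),
    (7, (10484615478722935612664323553718260482694381457358318640580089638804399969775796317145729057048835003713040283087364620139629134458588295, 17002332252131757954257139939258547399562366441238680151454819608224789816944433654340487789771472686600486722050835990351840998513215416), 4, 0),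
    (22, (34304062179476708561387629929518728583223376131526024345661519627352614151099287142045978573988419604533318144539629704360344069765504918, 37076859077966109770560029261796253583015309780877739833055334824176665938768224954139313362662181579852409629925981226077005871393118468), 5, 0)])

/-- The stabiliser chain. -/
def sz8P7CLevels : List CLevel :=
  [sz8P7CLevel0]

/-- Conjugations. -/
def sz8P7Fus : List Fusion :=
  []

/-- Relations. -/
def sz8P7Rels : List Rel :=
  []

/-- Derived rows. -/
def sz8P7Rows : List (ℕ × List ℤ × List (ℕ × ℤ)) :=
  []

/-- Generators of the derived group. -/
def sz8P7Gs : List (List ℕ × List ℤ) :=
  []

/-- Elements of the derived group. -/
def sz8P7Elts : List (List ℕ × List ℤ) :=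
  [([], [0])]

/-- The data. -/
def sz8P7Data : SchurData where
  p := 7
  a := sz8P7CGens
  derived := sz8P7CDerived
  levels := sz8P7CLevels
  pow := [[]]
  comm := [[]]
  ords := [7]
  fus := sz8P7Fus
  nv := 1
  rels := sz8P7Rels
  rows := sz8P7Rows
  gs := sz8P7Gs
  elts := sz8P7Elts
  commWit := [[]]
  conjWit := [[]]
  ext := []

end Cfsg.Agent.SchurMult
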