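import Cfsg.Agent.Lib.SchurMult.SuzGroupData
import Cfsg.Agent.Lib.SchurMult.Bound
import Cfsg.Agent.Lib.Compute.SchurMem
import Cfsg.Agent.Lib.RigidGraph.Suz.Presented

/-! The Suzuki group as a coded group on 1782 points, with membership by words. -/

set_option autoImplicit false
set_option maxRecDepth 100000
set_option Elab.async false

namespace Cfsg.Agent.SchurMult

open Cfsg.Agent.PermCert Cfsg.Agent.CosetCert

universe u

/-- The coded element is the value of the word. -/
noncomputable def suzWordOK (e : Elt) (w : List ℕ) : Bool :=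
  validElt 11 1782 e && w.all (fun x => Nat.blt x 7) &&
    PermCert.allBelow (fun i => Nat.beq (get 11 e.1 i) (RigidGraph.slot RigidGraph.Suz.relabel.2
      (tact Cfsg.Agent.CosetData.SuzA.P w.reverse (RigidGraph.slot RigidGraph.Suz.relabel.1 i)))) 1782

theorem suz_toPerm_eq {e : Elt} {w : List ℕ} (h : suzWordOK e w = true) :
    RigidGraph.Suz.toPerm (wprod RigidGraph.Suz.pgen w) = PermCert.toPerm 11 1782 e := by
  simp only [suzWordOK, Bool.and_eq_true] at h
  obtain ⟨⟨hv, hw⟩, he⟩ := h
  simp only [List.all_eq_true, Nat.blt_eq] at hw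
  have hp : RigidGraph.permOK 1782 RigidGraph.Suz.relabel = true := by
    have := RigidGraph.Suz.relabel_ok
    simp only [RigidGraph.Suz.relabelOK, Bool.and_eq_true] at this
    exact this.1.1.1
  refine Equiv.ext fun i => Fin.ext ?_
  rw [RigidGraph.Suz.toPerm_val hp w hw i]
  have h2 := PermCert.allBelow_spec _ _ he i i.2
  rw [Nat.beq_eq] at h2
  exact h2.symm.trans (rep_toPerm hv i).1

theorem suz_images : (PermCert.allBelow (fun k => suzWordOK (suzGens.getD k (0, 0)) [k]) 7 &&
    Nat.beq suzGens.length 7) = true := by decide +kernel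

theorem suz_range : RigidGraph.Suz.toPerm.range = genGroup 11 1782 suzGens := by
  have h := suz_images
  simp only [Bool.and_eq_true, Nat.beq_eq] at h
  obtain ⟨himg, hlen⟩ := h
  have hgen : ∀ k < 7, RigidGraph.Suz.toPerm (RigidGraph.Suz.pgen k) =
      PermCert.toPerm 11 1782 (suzGens.getD k (0, 0)) := fun k hk => by
    have := suz_toPerm_eq (PermCert.allBelow_spec _ _ himg k hk)
    rwa [wprod_cons, wprod_nil, mul_one] at this
  have hcl : Subgroup.closure (RigidGraph.Suz.pgen '' {x | x < 7}) = ⊤ :=
    Cfsg.Agent.CosetData.SuzA.setup.closure_gen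
  rw [MonoidHom.range_eq_map, ← hcl, MonoidHom.map_closure, genGroup]
  congr 1
  ext σ
  constructor
  · rintro ⟨_, ⟨k, hk, rfl⟩, rfl⟩
    rw [hgen k hk]
    refine List.mem_map.2 ⟨_, ?_, rfl⟩
    rw [List.getD_eq_getElem _ _ (hlen ▸ hk)]
    exact List.getElem_mem _
  · intro hσ
    obtain ⟨e, he, rfl⟩ := List.mem_map.1 hσ
    obtain ⟨k, hk, rfl⟩ := List.mem_iff_getElem.1 he
    refine ⟨_, ⟨k, hlen ▸ hk, rfl⟩, ?_⟩
    rw [hgen k (hlen ▸ hk), List.getD_eq_getElem _ _ hk]

theorem suz_card : Nat.card (genGroup 11 1782 suzGens) = 448345497600 := by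
  rw [← suz_range, RigidGraph.Suz.range_eq.1, RigidGraph.Suz.card_suzGroup]

theorem suz_mem {es : List Elt} {ws : List (List ℕ)} (hlen : es.length = ws.length)
    (h : PermCert.allBelow (fun i => suzWordOK (es.getD i (0, 0)) (ws.getD i [])) es.length = true) :
    ∀ e ∈ es, PermCert.toPerm 11 1782 e ∈ genGroup 11 1782 suzGens := by
  intro e he
  obtain ⟨i, hi, rfl⟩ := List.mem_iff_getElem.1 he
  have := suz_toPerm_eq (PermCert.allBelow_spec _ _ h i hi)
  rw [List.getD_eq_getElem _ _ hi] at this
  rw [← suz_range, ← this]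
  exact ⟨_, rfl⟩

/-- A certificate for one prime of the Suzuki group. -/
theorem suz_certified {d : PermSchur.SchurData} {fake : List CLevel} {wa wf : List (List ℕ)} {i k : ℕ}
    (hla : d.a.length = wa.length)
    (ha : PermCert.allBelow (fun j => suzWordOK (d.a.getD j (0, 0)) (wa.getD j [])) d.a.length = true)
    (hlf : (d.fus.map PermSchur.Fusion.g).length = wf.length)
    (hf : PermCert.allBelow (fun j => suzWordOK ((d.fus.map PermSchur.Fusion.g).getD j (0, 0)) (wf.getD j []))
      (d.fus.map PermSchur.Fusion.g).length = true)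
    (hb : PermSchur.schurBaseOK 11 1782 d fake = true) (hr : PermSchur.rowsOK d = true)
    (hrel : d.rels.all (fun r => match r with
      | .assoc a b c => (a ++ b ++ c).all (fun q => Nat.blt q d.a.length) | .fuse .. => true) = true)
    (hd : PermSchur.derivedOK 11 1782 d = true) (hi : 448345497600 / certOrder d.levels = i)
    (hk : d.ext.length + 1 = k) : Certified.{u} 11 1782 suzGens i k := by
  intro Γ _ _ ξ hker hrange
  obtain ⟨S, hS, h⟩ := PermSchur.killMem (suz_mem hla ha)
    (fun F hF => suz_mem hlf hf _ (List.mem_map.2 ⟨F, hF, rfl⟩)) hb hr hrel hd ξ hker hrange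
  exact ⟨S, hk ▸ hS, fun z hz => hi ▸ suz_card ▸ h z hz⟩

/-- A certificate with projected tails for one prime of the Suzuki group. -/
theorem suz_certified_fast {FD : PermSchur.FastData} {d : PermSchur.SchurData} {fake : List CLevel} {wa wf : List (List ℕ)} {i k : ℕ}
    (hla : d.a.length = wa.length)
    (ha : PermCert.allBelow (fun j => suzWordOK (d.a.getD j (0, 0)) (wa.getD j [])) d.a.length = true)
    (hlf : (d.fus.map PermSchur.Fusion.g).length = wf.length)
    (hf : PermCert.allBelow (fun j => suzWordOK ((d.fus.map PermSchur.Fusion.g).getD j (0, 0)) (wf.getD j []))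
      (d.fus.map PermSchur.Fusion.g).length = true)
    (hb : PermSchur.schurBaseOK 11 1782 d fake = true) (hr : PermSchur.rowsOK d = true)
    (hrel : d.rels.all (fun r => match r with
      | .assoc a b c => (a ++ b ++ c).all (fun q => Nat.blt q d.a.length) | .fuse .. => true) = true)
    (hd : PermSchur.derivedFast 11 1782 d FD = true) (he : PermSchur.projOK d FD = true) (hi : 448345497600 / certOrder d.levels = i)
    (hk : d.ext.length + 1 = k) : Certified.{u} 11 1782 suzGens i k := by
  intro Γ _ _ ξ hker hrange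
  obtain ⟨S, hS, h⟩ := PermSchur.killMem2 (suz_mem hla ha)
    (fun F hF => suz_mem hlf hf _ (List.mem_map.2 ⟨F, hF, rfl⟩)) hb hr hrel he hd ξ hker hrange
  exact ⟨S, hk ▸ hS, fun z hz => hi ▸ suz_card ▸ h z hz⟩

end Cfsg.Agent.SchurMult
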