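import Cfsg.Agent.Lib.Compute.SchurWit
import Cfsg.Agent.Lib.SchurMult.SuzP2Data
import Cfsg.Agent.Lib.SchurMult.SuzGroup
import Cfsg.Agent.Lib.Compute.SchurBase

/-! Kernel checks of the 2-part certificate of the Suzuki group. -/

set_option autoImplicit false
set_option maxRecDepth 100000
set_option Elab.async false

namespace Cfsg.Agent.SchurMult

open Cfsg.Agent.PermCert Cfsg.Agent.PermSchur

universe u

theorem suzP2_light : lightCert 11 1782 suzP2Data.a suzP2Data.derived suzP2Data.levels = true := by decide +kernel

theorem suzP2_rest : baseRest 11 1782 suzP2Data suzP2Fake = true := by decide +kernel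

theorem suzP2_base : schurBaseOK 11 1782 suzP2Data suzP2Fake = true :=
  schurBase_of_light suzP2_light (by decide +kernel) suzP2_rest (by decide +kernel)

theorem suzP2_rows : rowsOK suzP2Data = true := by decide +kernel

theorem suzP2_rels : suzP2Data.rels.all (fun r => match r with
    | .assoc a b c => (a ++ b ++ c).all (fun q => Nat.blt q suzP2Data.a.length) | .fuse .. => true) = true := by
  decide +kernel

theorem suzP2_proj : projOK suzP2Data suzP2FD = true := by decide +kernel

theorem suzP2_head : witHead suzP2Data suzP2FD = true := by decide +kernel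

theorem suzP2_close0 : (block 32 0 (suzP2Data.elts.zip suzP2Wit)).all (witClose suzP2Data suzP2FD) = true := by
  decide +kernel

theorem suzP2_close1 : (block 32 1 (suzP2Data.elts.zip suzP2Wit)).all (witClose suzP2Data suzP2FD) = true := by
  decide +kernel

theorem suzP2_close2 : (block 32 2 (suzP2Data.elts.zip suzP2Wit)).all (witClose suzP2Data suzP2FD) = true := by
  decide +kernel

theorem suzP2_close3 : (block 32 3 (suzP2Data.elts.zip suzP2Wit)).all (witClose suzP2Data suzP2FD) = true := by
  decide +kernel

theorem suzP2_close4 : (block 32 4 (suzP2Data.elts.zip suzP2Wit)).all (witClose suzP2Data suzP2FD) = true := by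
  decide +kernel

theorem suzP2_close5 : (block 32 5 (suzP2Data.elts.zip suzP2Wit)).all (witClose suzP2Data suzP2FD) = true := by
  decide +kernel

theorem suzP2_close6 : (block 32 6 (suzP2Data.elts.zip suzP2Wit)).all (witClose suzP2Data suzP2FD) = true := by
  decide +kernel

theorem suzP2_close7 : (block 32 7 (suzP2Data.elts.zip suzP2Wit)).all (witClose suzP2Data suzP2FD) = true := by
  decide +kernel

theorem suzP2_close8 : (block 32 8 (suzP2Data.elts.zip suzP2Wit)).all (witClose suzP2Data suzP2FD) = true := by
  decide +kernel

theorem suzP2_close9 : (block 32 9 (suzP2Data.elts.zip suzP2Wit)).all (witClose suzP2Data suzP2FD) = true := by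
  decide +kernel

theorem suzP2_close10 : (block 32 10 (suzP2Data.elts.zip suzP2Wit)).all (witClose suzP2Data suzP2FD) = true := by
  decide +kernel

theorem suzP2_close11 : (block 32 11 (suzP2Data.elts.zip suzP2Wit)).all (witClose suzP2Data suzP2FD) = true := by
  decide +kernel

theorem suzP2_close12 : (block 32 12 (suzP2Data.elts.zip suzP2Wit)).all (witClose suzP2Data suzP2FD) = true := by
  decide +kernel

theorem suzP2_close13 : (block 32 13 (suzP2Data.elts.zip suzP2Wit)).all (witClose suzP2Data suzP2FD) = true := by
  decide +kernel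

theorem suzP2_close14 : (block 32 14 (suzP2Data.elts.zip suzP2Wit)).all (witClose suzP2Data suzP2FD) = true := by
  decide +kernel

theorem suzP2_close15 : (block 32 15 (suzP2Data.elts.zip suzP2Wit)).all (witClose suzP2Data suzP2FD) = true := by
  decide +kernel

theorem suzP2_close16 : (block 32 16 (suzP2Data.elts.zip suzP2Wit)).all (witClose suzP2Data suzP2FD) = true := by
  decide +kernel

theorem suzP2_close17 : (block 32 17 (suzP2Data.elts.zip suzP2Wit)).all (witClose suzP2Data suzP2FD) = true := by
  decide +kernel

theorem suzP2_close18 : (block 32 18 (suzP2Data.elts.zip suzP2Wit)).all (witClose suzP2Data suzP2FD) = true := by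
  decide +kernel

theorem suzP2_close19 : (block 32 19 (suzP2Data.elts.zip suzP2Wit)).all (witClose suzP2Data suzP2FD) = true := by
  decide +kernel

theorem suzP2_close20 : (block 32 20 (suzP2Data.elts.zip suzP2Wit)).all (witClose suzP2Data suzP2FD) = true := by
  decide +kernel

theorem suzP2_close21 : (block 32 21 (suzP2Data.elts.zip suzP2Wit)).all (witClose suzP2Data suzP2FD) = true := by
  decide +kernel

theorem suzP2_close22 : (block 32 22 (suzP2Data.elts.zip suzP2Wit)).all (witClose suzP2Data suzP2FD) = true := by
  decide +kernel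

theorem suzP2_close23 : (block 32 23 (suzP2Data.elts.zip suzP2Wit)).all (witClose suzP2Data suzP2FD) = true := by
  decide +kernel

theorem suzP2_close24 : (block 32 24 (suzP2Data.elts.zip suzP2Wit)).all (witClose suzP2Data suzP2FD) = true := by
  decide +kernel

theorem suzP2_close25 : (block 32 25 (suzP2Data.elts.zip suzP2Wit)).all (witClose suzP2Data suzP2FD) = true := by
  decide +kernel

theorem suzP2_close26 : (block 32 26 (suzP2Data.elts.zip suzP2Wit)).all (witClose suzP2Data suzP2FD) = true := by
  decide +kernel

theorem suzP2_close27 : (block 32 27 (suzP2Data.elts.zip suzP2Wit)).all (witClose suzP2Data suzP2FD) = true := by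
  decide +kernel

theorem suzP2_close28 : (block 32 28 (suzP2Data.elts.zip suzP2Wit)).all (witClose suzP2Data suzP2FD) = true := by
  decide +kernel

theorem suzP2_close29 : (block 32 29 (suzP2Data.elts.zip suzP2Wit)).all (witClose suzP2Data suzP2FD) = true := by
  decide +kernel

theorem suzP2_close30 : (block 32 30 (suzP2Data.elts.zip suzP2Wit)).all (witClose suzP2Data suzP2FD) = true := by
  decide +kernel

theorem suzP2_close31 : (block 32 31 (suzP2Data.elts.zip suzP2Wit)).all (witClose suzP2Data suzP2FD) = true := by
  decide +kernel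

theorem suzP2_ker0 : (block 128 0 suzP2Data.elts).all (witKer 11 1782 suzP2Data suzP2FD) = true := by
  decide +kernel

theorem suzP2_ker1 : (block 128 1 suzP2Data.elts).all (witKer 11 1782 suzP2Data suzP2FD) = true := by
  decide +kernel

theorem suzP2_ker2 : (block 128 2 suzP2Data.elts).all (witKer 11 1782 suzP2Data suzP2FD) = true := by
  decide +kernel

theorem suzP2_ker3 : (block 128 3 suzP2Data.elts).all (witKer 11 1782 suzP2Data suzP2FD) = true := by
  decide +kernel

theorem suzP2_ker4 : (block 128 4 suzP2Data.elts).all (witKer 11 1782 suzP2Data suzP2FD) = true := by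
  decide +kernel

theorem suzP2_ker5 : (block 128 5 suzP2Data.elts).all (witKer 11 1782 suzP2Data suzP2FD) = true := by
  decide +kernel

theorem suzP2_ker6 : (block 128 6 suzP2Data.elts).all (witKer 11 1782 suzP2Data suzP2FD) = true := by
  decide +kernel

theorem suzP2_ker7 : (block 128 7 suzP2Data.elts).all (witKer 11 1782 suzP2Data suzP2FD) = true := by
  decide +kernel

theorem suzP2_derived : derivedFast 11 1782 suzP2Data suzP2FD = true :=
  derivedFast_of_blocks 11 1782 suzP2Data suzP2FD (wit := suzP2Wit) 32 32 128 8 (by decide +kernel) suzP2_head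
    (fun i hi => match i, hi with
    | 0, _ => suzP2_close0
    | 1, _ => suzP2_close1
    | 2, _ => suzP2_close2
    | 3, _ => suzP2_close3
    | 4, _ => suzP2_close4
    | 5, _ => suzP2_close5
    | 6, _ => suzP2_close6
    | 7, _ => suzP2_close7
    | 8, _ => suzP2_close8
    | 9, _ => suzP2_close9
    | 10, _ => suzP2_close10
    | 11, _ => suzP2_close11
    | 12, _ => suzP2_close12
    | 13, _ => suzP2_close13
    | 14, _ => suzP2_close14
    | 15, _ => suzP2_close15
    | 16, _ => suzP2_close16
    | 17, _ => suzP2_close17
    | 18, _ => suzP2_close18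
    | 19, _ => suzP2_close19
    | 20, _ => suzP2_close20
    | 21, _ => suzP2_close21
    | 22, _ => suzP2_close22
    | 23, _ => suzP2_close23
    | 24, _ => suzP2_close24
    | 25, _ => suzP2_close25
    | 26, _ => suzP2_close26
    | 27, _ => suzP2_close27
    | 28, _ => suzP2_close28
    | 29, _ => suzP2_close29
    | 30, _ => suzP2_close30
    | 31, _ => suzP2_close31
    | _ + 32, h => absurd h (by omega))
    (fun i hi => match i, hi with
    | 0, _ => suzP2_ker0
    | 1, _ => suzP2_ker1
    | 2, _ => suzP2_ker2
    | 3, _ => suzP2_ker3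
    | 4, _ => suzP2_ker4
    | 5, _ => suzP2_ker5
    | 6, _ => suzP2_ker6
    | 7, _ => suzP2_ker7
    | _ + 8, h => absurd h (by omega))


theorem suzP2_words : (PermCert.allBelow (fun j => suzWordOK (suzP2Data.a.getD j (0, 0)) (suzP2WA.getD j []))
    suzP2Data.a.length &&
  PermCert.allBelow (fun j => suzWordOK ((suzP2Data.fus.map Fusion.g).getD j (0, 0)) (suzP2WF.getD j []))
    (suzP2Data.fus.map Fusion.g).length && Nat.beq suzP2Data.a.length suzP2WA.length &&
  Nat.beq (suzP2Data.fus.map Fusion.g).length suzP2WF.length) = true := by decide +kernel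

theorem suzP2_orders : 448345497600 / certOrder suzP2Data.levels = 54729675 := by decide +kernel

theorem suzP2_ext : suzP2Data.ext.length + 1 = 2 := by decide +kernel

theorem suzP2_certified : Certified.{u} 11 1782 suzGens 54729675 2 := by
  have h := suzP2_words
  simp only [Bool.and_eq_true, Nat.beq_eq] at h
  exact suz_certified_fast h.1.2 h.1.1.1 h.2 h.1.1.2 suzP2_base suzP2_rows suzP2_rels suzP2_derived suzP2_proj suzP2_orders suzP2_ext

end Cfsg.Agent.SchurMult
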