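import Cfsg.Agent.Lib.Compute.SchurWit
import Cfsg.Agent.Lib.SchurMult.SuzP3Data
import Cfsg.Agent.Lib.SchurMult.SuzGroup
import Cfsg.Agent.Lib.Compute.SchurBase

/-! Kernel checks of the 3-part certificate of the Suzuki group. -/

set_option autoImplicit false
set_option maxRecDepth 100000
set_option Elab.async false

namespace Cfsg.Agent.SchurMult

open Cfsg.Agent.PermCert Cfsg.Agent.PermSchur

universe u

theorem suzP3_light : lightCert 11 1782 suzP3Data.a suzP3Data.derived suzP3Data.levels = true := by decide +kernel

theorem suzP3_rest : baseRest 11 1782 suzP3Data suzP3Fake = true := by decide +kernel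

theorem suzP3_base : schurBaseOK 11 1782 suzP3Data suzP3Fake = true :=
  schurBase_of_light suzP3_light (by decide +kernel) suzP3_rest (by decide +kernel)

theorem suzP3_rows : rowsOK suzP3Data = true := by decide +kernel

theorem suzP3_rels : suzP3Data.rels.all (fun r => match r with
    | .assoc a b c => (a ++ b ++ c).all (fun q => Nat.blt q suzP3Data.a.length) | .fuse .. => true) = true := by
  decide +kernel

theorem suzP3_head : fullHead suzP3Data = true := by decide +kernel

theorem suzP3_close0 : (block 64 0 suzP3Data.elts).all (fullClose suzP3Data) = true := by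
  decide +kernel

theorem suzP3_close1 : (block 64 1 suzP3Data.elts).all (fullClose suzP3Data) = true := by
  decide +kernel

theorem suzP3_close2 : (block 64 2 suzP3Data.elts).all (fullClose suzP3Data) = true := by
  decide +kernel

theorem suzP3_close3 : (block 64 3 suzP3Data.elts).all (fullClose suzP3Data) = true := by
  decide +kernel

theorem suzP3_ker0 : (block 64 0 suzP3Data.elts).all (fullKer 11 1782 suzP3Data) = true := by
  decide +kernel

theorem suzP3_ker1 : (block 64 1 suzP3Data.elts).all (fullKer 11 1782 suzP3Data) = true := by
  decide +kernel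

theorem suzP3_ker2 : (block 64 2 suzP3Data.elts).all (fullKer 11 1782 suzP3Data) = true := by
  decide +kernel

theorem suzP3_ker3 : (block 64 3 suzP3Data.elts).all (fullKer 11 1782 suzP3Data) = true := by
  decide +kernel

theorem suzP3_derived : derivedOK 11 1782 suzP3Data = true :=
  derivedOK_of_blocks 11 1782 suzP3Data 64 4 64 4 (by decide +kernel) suzP3_head
    (fun i hi => match i, hi with
    | 0, _ => suzP3_close0
    | 1, _ => suzP3_close1
    | 2, _ => suzP3_close2
    | 3, _ => suzP3_close3
    | _ + 4, h => absurd h (by omega))
    (fun i hi => match i, hi with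
    | 0, _ => suzP3_ker0
    | 1, _ => suzP3_ker1
    | 2, _ => suzP3_ker2
    | 3, _ => suzP3_ker3
    | _ + 4, h => absurd h (by omega))

theorem suzP3_words : (PermCert.allBelow (fun j => suzWordOK (suzP3Data.a.getD j (0, 0)) (suzP3WA.getD j []))
    suzP3Data.a.length &&
  PermCert.allBelow (fun j => suzWordOK ((suzP3Data.fus.map Fusion.g).getD j (0, 0)) (suzP3WF.getD j []))
    (suzP3Data.fus.map Fusion.g).length && Nat.beq suzP3Data.a.length suzP3WA.length &&
  Nat.beq (suzP3Data.fus.map Fusion.g).length suzP3WF.length) = true := by decide +kernel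

theorem suzP3_orders : 448345497600 / certOrder suzP3Data.levels = 205004800 := by decide +kernel

theorem suzP3_ext : suzP3Data.ext.length + 1 = 3 := by decide +kernel

theorem suzP3_certified : Certified.{u} 11 1782 suzGens 205004800 3 := by
  have h := suzP3_words
  simp only [Bool.and_eq_true, Nat.beq_eq] at h
  exact suz_certified h.1.2 h.1.1.1 h.2 h.1.1.2 suzP3_base suzP3_rows suzP3_rels suzP3_derived suzP3_orders suzP3_ext

end Cfsg.Agent.SchurMult
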