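import Cfsg.Agent.Lib.SchurMult.SuzP5Data
import Cfsg.Agent.Lib.SchurMult.SuzGroup

/-! Kernel checks of the 5-part certificate of the Suzuki group. -/

set_option autoImplicit false
set_option maxRecDepth 100000
set_option Elab.async false

namespace Cfsg.Agent.SchurMult

open Cfsg.Agent.PermCert Cfsg.Agent.PermSchur

universe u

theorem suzP5_base : schurBaseOK 11 1782 suzP5Data suzP5Fake = true := by decide +kernel

theorem suzP5_rows : rowsOK suzP5Data = true := by decide +kernel

theorem suzP5_rels : suzP5Data.rels.all (fun r => match r with
    | .assoc a b c => (a ++ b ++ c).all (fun q => Nat.blt q suzP5Data.a.length) | .fuse .. => true) = true := by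
  decide +kernel

theorem suzP5_derived : derivedOK 11 1782 suzP5Data = true := by decide +kernel

theorem suzP5_words : (PermCert.allBelow (fun j => suzWordOK (suzP5Data.a.getD j (0, 0)) (suzP5WA.getD j []))
    suzP5Data.a.length &&
  PermCert.allBelow (fun j => suzWordOK ((suzP5Data.fus.map Fusion.g).getD j (0, 0)) (suzP5WF.getD j []))
    (suzP5Data.fus.map Fusion.g).length && Nat.beq suzP5Data.a.length suzP5WA.length &&
  Nat.beq (suzP5Data.fus.map Fusion.g).length suzP5WF.length) = true := by decide +kernel

theorem suzP5_orders : 448345497600 / certOrder suzP5Data.levels = 17933819904 := by decide +kernel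

theorem suzP5_ext : suzP5Data.ext.length + 1 = 1 := by decide +kernel

theorem suzP5_certified : Certified.{u} 11 1782 suzGens 17933819904 1 := by
  have h := suzP5_words
  simp only [Bool.and_eq_true, Nat.beq_eq] at h
  exact suz_certified h.1.2 h.1.1.1 h.2 h.1.1.2 suzP5_base suzP5_rows suzP5_rels suzP5_derived suzP5_orders suzP5_ext

end Cfsg.Agent.SchurMult
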