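import Cfsg.Agent.Lib.SchurMult.SuzP7Data
import Cfsg.Agent.Lib.SchurMult.SuzGroup

/-! Kernel checks of the 7-part certificate of the Suzuki group. -/

set_option autoImplicit false
set_option maxRecDepth 100000
set_option Elab.async false

namespace Cfsg.Agent.SchurMult

open Cfsg.Agent.PermCert Cfsg.Agent.PermSchur

universe u

theorem suzP7_base : schurBaseOK 11 1782 suzP7Data suzP7Fake = true := by decide +kernel

theorem suzP7_rows : rowsOK suzP7Data = true := by decide +kernel

theorem suzP7_rels : suzP7Data.rels.all (fun r => match r with
    | .assoc a b c => (a ++ b ++ c).all (fun q => Nat.blt q suzP7Data.a.length) | .fuse .. => true) = true := by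
  decide +kernel

theorem suzP7_derived : derivedOK 11 1782 suzP7Data = true := by decide +kernel

theorem suzP7_words : (PermCert.allBelow (fun j => suzWordOK (suzP7Data.a.getD j (0, 0)) (suzP7WA.getD j []))
    suzP7Data.a.length &&
  PermCert.allBelow (fun j => suzWordOK ((suzP7Data.fus.map Fusion.g).getD j (0, 0)) (suzP7WF.getD j []))
    (suzP7Data.fus.map Fusion.g).length && Nat.beq suzP7Data.a.length suzP7WA.length &&
  Nat.beq (suzP7Data.fus.map Fusion.g).length suzP7WF.length) = true := by decide +kernel

theorem suzP7_orders : 448345497600 / certOrder suzP7Data.levels = 64049356800 := by decide +kernel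

theorem suzP7_ext : suzP7Data.ext.length + 1 = 1 := by decide +kernel

theorem suzP7_certified : Certified.{u} 11 1782 suzGens 64049356800 1 := by
  have h := suzP7_words
  simp only [Bool.and_eq_true, Nat.beq_eq] at h
  exact suz_certified h.1.2 h.1.1.1 h.2 h.1.1.2 suzP7_base suzP7_rows suzP7_rels suzP7_derived suzP7_orders suzP7_ext

end Cfsg.Agent.SchurMult
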