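import Cfsg.Agent.Lib.Suzuki.Group
import Cfsg.Agent.Lib.SchurMult.Sz8Group

/-! The field with eight elements and the coded action of Sz(8) on its ovoid. -/

set_option autoImplicit false
namespace Cfsg.Agent.SchurMult

/-- The field with eight elements. -/
def K8 := Fin 8
deriving DecidableEq, Fintype

namespace K8
def mk (n : ℕ) : K8 := Fin.ofNat 8 n
def val8 (a : K8) : ℕ := Fin.val (n := 8) a
/-- multiplication by the class of `X` modulo `X³+X+1` -/
def dbl (a : ℕ) : ℕ := if a < 4 then 2 * a else (2 * a) ^^^ 11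
def mulN (a b : ℕ) : ℕ :=
  (if b % 2 = 1 then a else 0) ^^^ (if b / 2 % 2 = 1 then dbl a else 0) ^^^
    (if b / 4 % 2 = 1 then dbl (dbl a) else 0)
instance : Zero K8 := ⟨mk 0⟩
instance : One K8 := ⟨mk 1⟩
instance : Add K8 := ⟨fun a b => mk (a.val8 ^^^ b.val8)⟩
instance : Mul K8 := ⟨fun a b => mk (mulN a.val8 b.val8)⟩
instance : Neg K8 := ⟨fun a => a⟩
instance : Inv K8 := ⟨fun a => ((a * a) * (a * a)) * (a * a)⟩
instance : CommRing K8 := CommRing.ofMinimalAxioms (by decide +kernel) (by decide +kernel) (by decide +kernel)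
  (by decide +kernel) (by decide +kernel) (by decide +kernel) (by decide +kernel)
instance : Field K8 where
  exists_pair_ne := ⟨0, 1, by decide⟩
  mul_inv_cancel := by decide +kernel
  inv_zero := by decide +kernel
  nnqsmul := _
  qsmul := _

theorem card : Fintype.card K8 = 8 := Fintype.card_fin 8
end K8

open Cfsg.Agent.PermCert Cfsg.Agent.Suzuki

/-- The coded index of the point with parameters `(x, y)`. -/
def idxK (x y : K8) : Fin 65 := Fin.succ ⟨8 * x.val8 + y.val8, by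
  have hx : x.val8 < 8 := x.2
  have hy : y.val8 < 8 := y.2
  omega⟩

theorem idxK_surj : ∀ i : Fin 65, i = 0 ∨ ∃ x y : K8, idxK x y = i := by decide +kernel

theorem idxK_coord : ∀ x y : K8, (idxK x y : ℕ) = 1 + 8 * x.val8 + y.val8 := by decide +kernel

theorem coord_eq : ∀ x y : K8, K8.mk (((idxK x y : ℕ) - 1) / 8) = x ∧ K8.mk (((idxK x y : ℕ) - 1) % 8) = y := by
  decide +kernel

/-- The first coded generator. -/
def gT : Elt := sz8Gens.getD 0 (0, 0)
/-- The second coded generator. -/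
def gH : Elt := sz8Gens.getD 1 (0, 0)
/-- The third coded generator. -/
def gW : Elt := sz8Gens.getD 2 (0, 0)

theorem sz8Gens_eq : sz8Gens = [gT, gH, gW] := rfl

theorem gT_zero : toPerm 7 65 gT 0 = 0 := by decide +kernel

theorem gT_pt : ∀ x y : K8, toPerm 7 65 gT (idxK x y) = idxK (x + 1) (y + 1 ^ 4 * x + 0) := by decide +kernel

theorem gH_zero : toPerm 7 65 gH 0 = 0 := by decide +kernel

theorem gH_pt : ∀ x y : K8, toPerm 7 65 gH (idxK x y) =
    idxK (K8.mk 2 * x) (K8.mk 2 ^ 4 * K8.mk 2 * y) := by decide +kernel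

theorem gW_zero : toPerm 7 65 gW 0 = idxK 0 0 ∧ toPerm 7 65 gW (idxK 0 0) = 0 := by decide +kernel

theorem gW_pt : ∀ x y : K8, ¬(x = 0 ∧ y = 0) → x * y + x ^ 6 + y ^ 4 ≠ 0 ∧
    toPerm 7 65 gW (idxK x y) = idxK (y * (x * y + x ^ 6 + y ^ 4)⁻¹) (x * (x * y + x ^ 6 + y ^ 4)⁻¹) := by
  decide +kernel

variable {F : Type*} [Field F] [Fintype F]

theorem szField_one (hF : Fintype.card F = 8) : SzField F 1 := ⟨le_rfl, hF⟩

/-- The ovoid point with a given coded index. -/
def ovPt (f : K8 ≃+* F) (i : Fin 65) : ↥(Cfsg.suzukiOvoid F 1) :=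
  if i = 0 then ⟨pinf, pinf_mem⟩
  else ⟨pt 1 (f (K8.mk (((i : ℕ) - 1) / 8))) (f (K8.mk (((i : ℕ) - 1) % 8))), pt_mem _ _⟩

omit [Fintype F] in
theorem ovPt_zero (f : K8 ≃+* F) : (ovPt f 0 : Projectivization F (Fin 4 → F)) = pinf := rfl

omit [Fintype F] in
theorem ovPt_idxK (f : K8 ≃+* F) (x y : K8) :
    (ovPt f (idxK x y) : Projectivization F (Fin 4 → F)) = pt 1 (f x) (f y) := by
  rw [ovPt, if_neg (by rw [idxK]; exact Fin.succ_ne_zero _)]
  show pt 1 _ _ = _
  rw [(coord_eq x y).1, (coord_eq x y).2]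

theorem ovPt_bijective (f : K8 ≃+* F) (h : SzField F 1) : Function.Bijective (ovPt f) := by
  have : Finite ↥(Cfsg.suzukiOvoid F 1) := Subtype.finite
  rw [Function.Bijective]
  have hinj : Function.Injective (ovPt f) := by
    intro i j e
    have e' := congrArg Subtype.val e
    rcases idxK_surj i with rfl | ⟨x, y, rfl⟩ <;> rcases idxK_surj j with rfl | ⟨x', y', rfl⟩
    · rfl
    · rw [ovPt_zero, ovPt_idxK] at e'; exact absurd e'.symm (pt_ne_pinf _ _)
    · rw [ovPt_zero, ovPt_idxK] at e'; exact absurd e' (pt_ne_pinf _ _)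
    · rw [ovPt_idxK, ovPt_idxK] at e'
      obtain ⟨hx, hy⟩ := pt_inj e'
      rw [f.injective hx, f.injective hy]
  refine ⟨hinj, ?_⟩
  have : Fintype ↥(Cfsg.suzukiOvoid F 1) := Fintype.ofFinite _
  refine ((Fintype.bijective_iff_injective_and_card _).2 ⟨hinj, ?_⟩).2
  rw [← Nat.card_eq_fintype_card, ← Nat.card_eq_fintype_card, card_ovoid_eq, h.card, Nat.card_fin]
  norm_num

/-- The coded action on the ovoid. -/
theorem exists_hom (hF : Fintype.card F = 8) :
    ∃ φ : Cfsg.Sz F 1 →* Equiv.Perm (Fin 65), Function.Injective φ ∧ φ.range = genGroup 7 65 sz8Gens := by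
  have h := szField_one hF
  obtain ⟨f⟩ : Nonempty (K8 ≃+* F) := ⟨FiniteField.ringEquivOfCardEq (K8.card.trans hF.symm)⟩
  let E : Fin 65 ≃ ↥(Cfsg.suzukiOvoid F 1) := Equiv.ofBijective _ (ovPt_bijective f h)
  let A : Cfsg.Sz F 1 →* Equiv.Perm ↥(Cfsg.suzukiOvoid F 1) :=
    MonoidHom.mk' (fun g =>
      { toFun := fun p => ⟨g • (p : Projectivization F (Fin 4 → F)), smul_mem_ovoid g p.2⟩
        invFun := fun p => ⟨g⁻¹ • (p : Projectivization F (Fin 4 → F)), smul_mem_ovoid g⁻¹ p.2⟩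
        left_inv := fun p => Subtype.ext (inv_smul_smul g (p : Projectivization F (Fin 4 → F)))
        right_inv := fun p => Subtype.ext (smul_inv_smul g (p : Projectivization F (Fin 4 → F))) })
      (fun g g' => Equiv.ext fun p => Subtype.ext (mul_smul g g' (p : Projectivization F (Fin 4 → F))))
  let φ : Cfsg.Sz F 1 →* Equiv.Perm (Fin 65) := E.symm.permCongrHom.toMonoidHom.comp A
  have key : ∀ (g : Cfsg.Sz F 1) (e : Elt),
      (∀ i, g • (ovPt f i : Projectivization F (Fin 4 → F)) = ovPt f (toPerm 7 65 e i)) → φ g = toPerm 7 65 e := by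
    intro g e he
    refine Equiv.ext fun i => E.injective (Subtype.ext ?_)
    show (E (E.symm (A g (E i))) : Projectivization F (Fin 4 → F)) = _
    rw [Equiv.apply_symm_apply]
    exact he i
  have hθ : ∀ a : K8, θ 1 (f a) = f (a ^ 4) := fun a => by rw [θ, map_pow]; rfl
  have hfz : ∀ x y : K8, fz 1 (f x) (f y) = f (x * y + x ^ 6 + y ^ 4) := fun x y => by
    rw [fz]; simp [map_add, map_mul, map_pow]
  have hT : φ (T h 1 0) = toPerm 7 65 gT := by
    refine key _ _ fun i => ?_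
    rcases idxK_surj i with rfl | ⟨x, y, rfl⟩
    · rw [gT_zero, ovPt_zero, T_smul_pinf]
    · rw [gT_pt, ovPt_idxK, ovPt_idxK, T_smul_pt, map_add, map_add, map_add, map_mul, map_zero, map_one, ← hθ,
        map_one]
  have hH : φ (H h (Units.mk0 (f (K8.mk 2)) ((map_ne_zero f).2 (by decide +kernel)))) = toPerm 7 65 gH := by
    refine key _ _ fun i => ?_
    rcases idxK_surj i with rfl | ⟨x, y, rfl⟩
    · rw [gH_zero, ovPt_zero, H_smul_pinf]
    · rw [gH_pt, ovPt_idxK, ovPt_idxK, H_smul_pt, Units.val_mk0, map_mul, map_mul, map_mul, ← hθ]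
  have hW : φ (W h) = toPerm 7 65 gW := by
    refine key _ _ fun i => ?_
    rcases idxK_surj i with rfl | ⟨x, y, rfl⟩
    · rw [gW_zero.1, ovPt_zero, ovPt_idxK, W_smul_pinf, map_zero]
    · by_cases hz : x = 0 ∧ y = 0
      · obtain ⟨rfl, rfl⟩ := hz
        rw [gW_zero.2, ovPt_idxK, ovPt_zero, map_zero, W_smul_pt_zero]
      · obtain ⟨hne, he⟩ := gW_pt x y hz
        rw [he, ovPt_idxK, ovPt_idxK]
        have hne' : fz 1 (f x) (f y) ≠ 0 := by rw [hfz]; exact (map_ne_zero f).2 hne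
        rw [show (W h) • pt 1 (f x) (f y) = (wEl : Matrix.SpecialLinearGroup (Fin 4) F) • pt 1 (f x) (f y) from rfl,
          wEl_smul_pt h hne', hfz, map_mul, map_mul, map_inv₀, div_eq_mul_inv, div_eq_mul_inv]
  refine ⟨φ, ?_, ?_⟩
  · refine (E.symm.permCongrHom.injective).comp ?_
    refine (injective_iff_map_eq_one A).2 fun g hg => ?_
    have hfix : ∀ p ∈ Cfsg.suzukiOvoid F 1, g • p = p := fun p hp =>
      congrArg Subtype.val (Equiv.ext_iff.1 hg ⟨p, hp⟩)
    exact fix_three h pinf_mem (pt_mem (0 : F) 0) (pt_mem (1 : F) 0) (pt_ne_pinf (m := 1) (0 : F) 0).symm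
      (fun e => one_ne_zero (pt_inj (m := 1) e).1.symm) (pt_ne_pinf (m := 1) (1 : F) 0).symm
      (hfix _ pinf_mem) (hfix _ (pt_mem 0 0)) (hfix _ (pt_mem 1 0))
  · symm
    have hle : genGroup 7 65 sz8Gens ≤ φ.range := by
      refine (Subgroup.closure_le _).2 fun σ hσ => ?_
      obtain ⟨e, he, rfl⟩ := List.mem_map.1 hσ
      rw [sz8Gens_eq] at he
      simp only [List.mem_cons, List.not_mem_nil, or_false] at he
      rcases he with rfl | rfl | rfl
      exacts [⟨_, hT⟩, ⟨_, hH⟩, ⟨_, hW⟩]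
    refine Subgroup.eq_of_le_of_card_ge hle ?_
    rw [cert_card sz8_cert, sz8_order]
    refine (Nat.card_le_card_of_surjective φ.rangeRestrict φ.rangeRestrict_surjective).trans ?_
    rw [card_Sz h]
    norm_num

end Cfsg.Agent.SchurMult
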